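import Cfsg.Agent.Lib.EPPO21.Block

/-!
# Two blocks sharing a 2-group

The commutator lemma for `p = 3`, the location of the elementary abelian subgroups of maximal order
for `p ≠ 3`, and the theorem that two different blocks on the same 2-group, one of them with
`p = 3`, force order 8.
-/

set_option autoImplicit false
set_option linter.style.haveILetI false

namespace CfsgLib.EPPO21

open Subgroup

variable {G : Type*} [Group G] [Finite G]

theorem card_le_two_mul {W U : Subgroup G}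
    (h : ∀ a ∈ U, a ∉ W → ∀ b ∈ U, b ∉ W → a * b⁻¹ ∈ W) : Nat.card U ≤ 2 * Nat.card W := by
  classical
  by_cases hex : ∃ s ∈ U, s ∉ W
  · obtain ⟨s, hs, hsW⟩ := hex
    let f : U → W × Bool := fun a =>
      if ha : (a : G) ∈ W then (⟨a, ha⟩, false) else (⟨a * s⁻¹, h a a.2 ha s hs hsW⟩, true)
    have hf : Function.Injective f := by
      intro a b hab
      simp only [f] at hab
      split_ifs at hab with ha hb hb
      · exact Subtype.ext (congrArg (fun z : W × Bool => (z.1 : G)) hab)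
      · simp at hab
      · simp at hab
      · exact Subtype.ext (mul_right_cancel (congrArg (fun z : W × Bool => (z.1 : G)) hab))
    have := Nat.card_le_card_of_injective f hf
    rw [Nat.card_prod, Nat.card_eq_fintype_card (α := Bool), Fintype.card_bool] at this
    omega
  · push Not at hex
    have := Nat.card_le_card_of_injective (fun a : U => (⟨a, hex a a.2⟩ : W))
      fun a b hab => Subtype.ext (congrArg (fun z : W => (z : G)) hab)
    omega

namespace Blk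

variable {T Q : Subgroup G} {p : ℕ} {x : G}

/-- The exponent by which a corrected element of `T` acts on `⟨x⟩`. -/
theorem exists_exp (B : Blk T Q p x) {s : G} (hs : s ∈ T) :
    ∃ q ∈ Q, q * s ∈ T ∧ ∃ l : ℕ, l < p ∧ l ≠ 0 ∧ (q * s) * x * (q * s)⁻¹ = x ^ l := by
  obtain ⟨q, hq, hz⟩ := B.frat s hs
  refine ⟨q, hq, T.mul_mem (B.hQT hq) hs, ?_⟩
  classical
  rw [mem_zpowers_iff_mem_range_orderOf, Finset.mem_image] at hz
  obtain ⟨l, hl, he⟩ := hz
  rw [Finset.mem_range, B.hxo] at hl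
  refine ⟨l, hl, fun e => B.x_ne_one ?_, he.symm⟩
  rw [e, pow_zero] at he
  exact conj_eq_one_iff.1 he.symm

theorem eq_one_of_centralizes (h : Hyp G) (B : Blk T Q p x) {w : G} (hw : w ∈ T)
    (hc : w * x * w⁻¹ = x) : w = 1 := by
  obtain ⟨k, hk⟩ := mem_pGroup_pow B.hT hw
  exact (h.odd_of_commute (show Commute x w from (mul_inv_eq_iff_eq_mul.1 hc).symm) B.odd_x
    hk).resolve_left B.x_ne_one

/-- Elements whose square lies in `Q` can be corrected to invert `x`. -/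
theorem invert (h : Hyp G) (B : Blk T Q p x) {s : G} (hs : s ∈ T) (hsQ : s ∉ Q)
    (hs2 : s * s ∈ Q) : ∃ q ∈ Q, q * s ∈ T ∧ (q * s) * x * (q * s)⁻¹ = x⁻¹ := by
  haveI : Fact p.Prime := ⟨B.hp⟩
  obtain ⟨q, hq, hT, l, hl, hl0, he⟩ := B.exists_exp hs
  refine ⟨q, hq, hT, ?_⟩
  set w := q * s with hw
  have hsn : s ∈ normalizer (Q : Set G) := B.hQn hs
  have hw2Q : w * w ∈ Q := by
    rw [show w * w = q * (s * q * s⁻¹) * (s * s) by rw [hw]; group]
    exact Q.mul_mem (Q.mul_mem hq (conj_mem_of_normalizer hsn hq)) hs2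
  have hww : (w * w) * x * (w * w)⁻¹ = x ^ (l * l) := by
    rw [show (w * w) * x * (w * w)⁻¹ = w * (w * x * w⁻¹) * w⁻¹ by group, he, ← conj_pow, he,
      ← pow_mul]
  -- the commutator lies in `Q` and in `⟨x⟩`
  have hmem : (w * w) * x * (w * w)⁻¹ * x⁻¹ ∈ Q := by
    rw [show (w * w) * x * (w * w)⁻¹ * x⁻¹ = (w * w) * (x * (w * w)⁻¹ * x⁻¹) by group]
    exact Q.mul_mem hw2Q (conj_mem_of_normalizer B.hxQ (Q.inv_mem hw2Q))
  have hone : (w * w) * x * (w * w)⁻¹ * x⁻¹ = 1 :=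
    isPGroup_two_odd_order B.hQp hmem (B.odd_zpow (by
      rw [hww]; exact mul_mem (pow_mem (mem_zpowers x) _) (inv_mem (mem_zpowers x))))
  rw [mul_inv_eq_one] at hone
  rw [hone] at hww
  have hcast : ((l : ZMod p) * l) = 1 := by
    have h1 : x ^ 1 = x ^ (l * l) := by rw [pow_one]; exact hww
    rw [pow_eq_pow_iff_modEq, B.hxo, ← ZMod.natCast_eq_natCast_iff] at h1
    push_cast at h1
    exact h1.symm
  rcases mul_self_eq_one_iff.1 hcast with e | e
  · exfalso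
    have hxl : x ^ l = x := by
      conv_rhs => rw [← pow_one x]
      rw [pow_eq_pow_iff_modEq, B.hxo, ← ZMod.natCast_eq_natCast_iff]
      simpa using e
    rw [hxl] at he
    have h1 := B.eq_one_of_centralizes h hT he
    exact hsQ (by
      rw [show s = q⁻¹ from (inv_eq_of_mul_eq_one_right h1).symm]
      exact Q.inv_mem hq)
  · rw [he, eq_inv_iff_mul_eq_one, ← pow_succ, ← orderOf_dvd_iff_pow_eq_one, B.hxo,
      ← ZMod.natCast_eq_zero_iff]
    push_cast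
    rw [e, neg_add_cancel]

theorem mul_mem_of_sq (h : Hyp G) (B : Blk T Q p x) {s t : G} (hs : s ∈ T) (hsQ : s ∉ Q)
    (hs2 : s * s ∈ Q) (ht : t ∈ T) (htQ : t ∉ Q) (ht2 : t * t ∈ Q) : s * t⁻¹ ∈ Q := by
  obtain ⟨q, hq, hqT, hqx⟩ := B.invert h hs hsQ hs2
  obtain ⟨r, hr, hrT, hrx⟩ := B.invert h ht htQ ht2
  have h1 : q * s * (r * t)⁻¹ = 1 := by
    refine B.eq_one_of_centralizes h (T.mul_mem hqT (T.inv_mem hrT)) ?_
    have hr2 : (r * t)⁻¹ * x * (r * t) = x⁻¹ := by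
      have := congrArg (fun g => ((r * t)⁻¹ * g * (r * t))⁻¹) hrx
      simp only [mul_assoc, inv_mul_cancel_left, inv_mul_cancel, mul_one, mul_inv_rev,
        inv_inv] at this ⊢
      exact this.symm
    calc q * s * (r * t)⁻¹ * x * (q * s * (r * t)⁻¹)⁻¹
        = q * s * ((r * t)⁻¹ * x * (r * t)) * (q * s)⁻¹ := by group
      _ = q * s * x⁻¹ * (q * s)⁻¹ := by rw [hr2]
      _ = (q * s * x * (q * s)⁻¹)⁻¹ := by group
      _ = x := by rw [hqx, inv_inv]
  rw [mul_inv_eq_one] at h1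
  rw [show s * t⁻¹ = q⁻¹ * r by
    rw [eq_inv_mul_iff_mul_eq, ← mul_assoc, h1, mul_inv_cancel_right]]
  exact Q.mul_mem (Q.inv_mem hq) hr

/-- If `4 ∤ p - 1` then `T` has exponent 2 modulo `Q`. -/
theorem sq_mem (h : Hyp G) (B : Blk T Q p x) (hp4 : p % 4 = 3) {s : G} (hs : s ∈ T) :
    s * s ∈ Q := by
  haveI : Fact p.Prime := ⟨B.hp⟩
  obtain ⟨q, hq, hT, l, hl, hl0, he⟩ := B.exists_exp hs
  set w := q * s with hw
  have hpow : ∀ n : ℕ, w ^ n * x * (w ^ n)⁻¹ = x ^ (l ^ n) := by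
    intro n
    induction n with
    | zero => simp
    | succ n ih =>
      rw [show w ^ (n + 1) * x * (w ^ (n + 1))⁻¹ = w * (w ^ n * x * (w ^ n)⁻¹) * w⁻¹ by
        rw [pow_succ']; group, ih, ← conj_pow, he, ← pow_mul, pow_succ']
  obtain ⟨k, hk⟩ := mem_pGroup_pow B.hT hT
  have hl1 : (l : ZMod p) ^ 2 ^ k = 1 := by
    have h1 : x ^ 1 = x ^ (l ^ 2 ^ k) := by
      rw [pow_one, ← hpow, hk]; simp
    rw [pow_eq_pow_iff_modEq, B.hxo, ← ZMod.natCast_eq_natCast_iff] at h1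
    push_cast at h1
    exact h1.symm
  have hlne : (l : ZMod p) ≠ 0 := fun e => by
    rw [ZMod.natCast_eq_zero_iff] at e
    exact hl0 (Nat.eq_zero_of_dvd_of_lt e hl)
  have hl2 : (l : ZMod p) ^ 2 = 1 := by
    have hd : orderOf (l : ZMod p) ∣ Nat.gcd (2 ^ k) (p - 1) :=
      Nat.dvd_gcd (orderOf_dvd_of_pow_eq_one hl1)
        (orderOf_dvd_of_pow_eq_one (ZMod.pow_card_sub_one_eq_one hlne))
    obtain ⟨i, -, hi⟩ := (Nat.dvd_prime_pow Nat.prime_two).1 (Nat.gcd_dvd_left (2 ^ k) (p - 1))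
    have hi1 : i ≤ 1 := by
      by_contra hlt
      have h4 : 2 ^ 2 ∣ p - 1 :=
        (pow_dvd_pow 2 (by omega : 2 ≤ i)).trans (hi ▸ Nat.gcd_dvd_right (2 ^ k) (p - 1))
      omega
    exact orderOf_dvd_iff_pow_eq_one.1 (hd.trans (hi ▸ (pow_dvd_pow 2 hi1).trans (by norm_num)))
  have hw2 : w * w = 1 := by
    refine B.eq_one_of_centralizes h (T.mul_mem hT hT) ?_
    have h2 := hpow 2
    rw [pow_two] at h2
    rw [h2]
    conv_rhs => rw [← pow_one x]
    rw [pow_eq_pow_iff_modEq, B.hxo, ← ZMod.natCast_eq_natCast_iff]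
    push_cast
    exact hl2
  have hsn : s ∈ normalizer (Q : Set G) := B.hQn hs
  rw [show s * s = (s * q⁻¹ * s⁻¹) * (q⁻¹ * (w * w)) by rw [hw]; group, hw2, mul_one]
  exact Q.mul_mem (conj_mem_of_normalizer hsn (Q.inv_mem hq)) (Q.inv_mem hq)

theorem card_le_two (h : Hyp G) (B : Blk T Q p x) (hp4 : p % 4 = 3) :
    Nat.card T ≤ 2 * Nat.card Q :=
  card_le_two_mul fun _ ha haQ _ hb hbQ =>
    B.mul_mem_of_sq h ha haQ (B.sq_mem h hp4 ha) hb hbQ (B.sq_mem h hp4 hb)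

theorem card_le_pred (h : Hyp G) (B : Blk T Q p x) : Nat.card T ≤ (p - 1) * Nat.card Q := by
  classical
  let c : T → (Q × Fin p) := fun s => (⟨(B.exists_exp s.2).choose, (B.exists_exp s.2).choose_spec.1⟩,
    ⟨(B.exists_exp s.2).choose_spec.2.2.choose, (B.exists_exp s.2).choose_spec.2.2.choose_spec.1⟩)
  haveI := Fintype.ofFinite T
  haveI := Fintype.ofFinite Q
  let f : T → Fin p := fun s => (c s).2
  have himg : (Finset.univ.image f).card ≤ p - 1 := by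
    have hsub : Finset.univ.image f ⊆ Finset.univ.erase ⟨0, B.hp.pos⟩ := by
      intro y hy
      obtain ⟨s, -, rfl⟩ := Finset.mem_image.1 hy
      refine Finset.mem_erase.2 ⟨fun e => ?_, Finset.mem_univ _⟩
      exact (B.exists_exp s.2).choose_spec.2.2.choose_spec.2.1 (congrArg Fin.val e)
    exact (Finset.card_le_card hsub).trans (by simp)
  have hfib : ∀ b ∈ Finset.univ.image f, (Finset.univ.filter fun a => f a = b).card ≤ Nat.card Q := by
    intro b hb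
    obtain ⟨s, -, rfl⟩ := Finset.mem_image.1 hb
    have key : ∀ a : T, f a = f s → (a : G) * (s : G)⁻¹ ∈ Q := by
      intro a ha
      obtain ⟨hq, hqT, hsp⟩ := (B.exists_exp a.2).choose_spec
      obtain ⟨hr, hrT, hrp⟩ := (B.exists_exp s.2).choose_spec
      have h1 := hsp.choose_spec.2.2
      have h2 := hrp.choose_spec.2.2
      have hl : hsp.choose = hrp.choose := congrArg Fin.val ha
      rw [hl, ← h2] at h1
      set q := (B.exists_exp a.2).choose
      set r := (B.exists_exp s.2).choose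
      have h3 : (r * (s : G))⁻¹ * (q * a) = 1 := by
        refine B.eq_one_of_centralizes h (T.mul_mem (T.inv_mem hrT) hqT) ?_
        calc (r * (s : G))⁻¹ * (q * a) * x * ((r * (s : G))⁻¹ * (q * a))⁻¹
            = (r * (s : G))⁻¹ * (q * a * x * (q * a)⁻¹) * (r * s) := by group
          _ = (r * (s : G))⁻¹ * (r * s * x * (r * s)⁻¹) * (r * s) := by rw [h1]
          _ = x := by group
      rw [inv_mul_eq_one] at h3
      rw [show (a : G) * (s : G)⁻¹ = q⁻¹ * r by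
        rw [eq_inv_mul_iff_mul_eq, ← mul_assoc, ← h3, mul_inv_cancel_right]]
      exact Q.mul_mem (Q.inv_mem hq) hr
    rw [Nat.card_eq_fintype_card, ← Finset.card_univ (α := Q)]
    refine Finset.card_le_card_of_injOn
      (fun a => if ha : (a : G) * (s : G)⁻¹ ∈ Q then ⟨_, ha⟩ else 1)
      (fun _ _ => Finset.mem_univ _) ?_
    intro a ha a' ha' e
    simp only [Finset.coe_filter, Set.mem_setOf_eq] at ha ha'
    simp only [dif_pos (key a ha.2), dif_pos (key a' ha'.2), Subtype.mk.injEq] at e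
    exact Subtype.ext (mul_right_cancel e)
  have := Finset.card_le_mul_card_image (f := f) Finset.univ _ hfib
  rw [Finset.card_univ, ← Nat.card_eq_fintype_card] at this
  calc Nat.card T ≤ Nat.card Q * (Finset.univ.image f).card := this
    _ ≤ Nat.card Q * (p - 1) := Nat.mul_le_mul le_rfl himg
    _ = _ := mul_comm _ _

end Blk

/-- An elementary abelian subgroup of `T` of maximal order. -/
def MaxEl (T A : Subgroup G) : Prop :=
  A ≤ T ∧ (∀ a ∈ A, a * a = 1) ∧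
    ∀ E : Subgroup G, E ≤ T → (∀ a ∈ E, a * a = 1) → Nat.card E ≤ Nat.card A

theorem comm_of_sq {a b : G} (ha : a * a = 1) (hb : b * b = 1) (hab : a * b * (a * b) = 1) :
    Commute a b := by
  have h1 : (a * b)⁻¹ = a * b := inv_eq_of_mul_eq_one_right hab
  rw [mul_inv_rev, inv_eq_of_mul_eq_one_right ha, inv_eq_of_mul_eq_one_right hb] at h1
  exact h1.symm

theorem Blk.maxEl_le {T Q : Subgroup G} {p : ℕ} {x : G} (h : Hyp G) (B : Blk T Q p x) (hp3 : p ≠ 3)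
    {A : Subgroup G} (hA : MaxEl T A) : A ≤ Q := by
  by_contra hAQ
  obtain ⟨a, haA, haQ⟩ := SetLike.not_le_iff_exists.1 hAQ
  obtain ⟨hAT, hA2, hmax⟩ := hA
  set A0 := A ⊓ Q with hA0
  set V := omegaZ Q with hV
  have h2 : Nat.card A ≤ 2 * Nat.card A0 := by
    refine card_le_two_mul fun s hs hs0 t ht ht0 => ?_
    have hs' : s ∉ Q := fun e => hs0 ⟨hs, e⟩
    have ht' : t ∉ Q := fun e => ht0 ⟨ht, e⟩
    exact ⟨A.mul_mem hs (A.inv_mem ht), B.mul_mem_of_sq h (hAT hs) hs' (by rw [hA2 s hs]; exact Q.one_mem)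
      (hAT ht) ht' (by rw [hA2 t ht]; exact Q.one_mem)⟩
  have hcomm : ∀ (u : A0) (v : V), Commute (A0.subtype u) (V.subtype v) := fun u v =>
    (omegaZ_comm v.2 u.2.2).symm
  let f : A0 × V →* G := MonoidHom.noncommCoprod A0.subtype V.subtype hcomm
  have hr1 : f.range ≤ T := by
    rintro _ ⟨⟨u, v⟩, rfl⟩
    exact T.mul_mem (hAT u.2.1) (B.hQT (omegaZ_le Q v.2))
  have hr2 : ∀ g ∈ f.range, g * g = 1 := by
    rintro _ ⟨⟨u, v⟩, rfl⟩
    change (u : G) * v * ((u : G) * v) = 1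
    rw [show (u : G) * v * ((u : G) * v) = u * (v * u) * v by group,
      show (v : G) * u = u * v from (omegaZ_comm v.2 u.2.2).eq,
      show (u : G) * ((u : G) * v) * v = (u * u) * (v * v) by group, hA2 u u.2.1, v.2.2.1, one_mul]
  have hrange := hmax f.range hr1 hr2
  set E := V ⊓ centralizer ({a} : Set G) with hE
  have hker : Nat.card f.ker ≤ Nat.card E := by
    refine Nat.card_le_card_of_injective (fun k => ⟨((k.1.2 : V) : G), k.1.2.2, ?_⟩) ?_
    · have hk : (k.1.1 : G) * (k.1.2 : G) = 1 := k.2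
      change ((k.1.2 : V) : G) ∈ centralizer ({a} : Set G)
      rw [mem_centralizer_singleton_iff, eq_inv_of_mul_eq_one_right hk]
      have hu := k.1.1.2.1
      exact (comm_of_sq (hA2 a haA) (hA2 _ (A.inv_mem hu))
        (hA2 _ (A.mul_mem haA (A.inv_mem hu)))).symm.eq
    · intro k k' e
      have e2 : ((k.1.2 : V) : G) = k'.1.2 := congrArg (fun z : E => (z : G)) e
      have hk : (k.1.1 : G) * (k.1.2 : G) = 1 := k.2
      have hk' : (k'.1.1 : G) * (k'.1.2 : G) = 1 := k'.2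
      refine Subtype.ext (Prod.ext (Subtype.ext ?_) (Subtype.ext e2))
      rw [eq_inv_of_mul_eq_one_left hk, eq_inv_of_mul_eq_one_left hk', e2]
  have hmul : Nat.card A0 * Nat.card V = Nat.card f.range * Nat.card f.ker := by
    rw [← Nat.card_prod, ← Subgroup.index_ker f, Subgroup.index_mul_card]
  have hsq : Nat.card E * Nat.card E ≤ Nat.card V :=
    B.card_sq_le h (hAT haA) haQ inf_le_left (omegaZ_le Q)
      (normalizer_le_omegaZ Q B.hxQ) fun c hc => (mem_centralizer_singleton_iff.1 hc.2).symm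
  have hA0pos : 0 < Nat.card A0 := Nat.card_pos
  have hVle : Nat.card V ≤ 2 * Nat.card E := by
    refine Nat.le_of_mul_le_mul_left ?_ hA0pos
    calc Nat.card A0 * Nat.card V = Nat.card f.range * Nat.card f.ker := hmul
      _ ≤ Nat.card A * Nat.card E := Nat.mul_le_mul hrange hker
      _ ≤ 2 * Nat.card A0 * Nat.card E := Nat.mul_le_mul h2 le_rfl
      _ = Nat.card A0 * (2 * Nat.card E) := by ring
  have hV4 : Nat.card V ≤ 4 := by nlinarith
  obtain ⟨i, hi1, hi, hd⟩ := B.card_omegaZ h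
  rw [← hV] at hi
  have hi2 : i ≤ 2 := (Nat.pow_le_pow_iff_right (by norm_num : 1 < 2)).1 (hi ▸ hV4)
  have := Nat.le_of_dvd (by interval_cases i <;> norm_num) hd
  have := B.three_le
  interval_cases i <;> omega

/-- The commutator lemma for `p = 3`. -/
theorem Blk.commute_of_commutator_mem {T Q : Subgroup G} {x : G} (h : Hyp G) (B : Blk T Q 3 x)
    {V0 : Subgroup G} (hV0 : V0 ≤ Q) (hcen : ∀ z ∈ V0, ∀ r ∈ Q, Commute z r)
    (hdis : ∀ z ∈ V0, x * z * x⁻¹ ∈ V0 → z = 1) {v : G} (hv : v ∈ Q)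
    (hcom : ∀ q ∈ Q, v * q * v⁻¹ * q⁻¹ ∈ V0) : ∀ q ∈ Q, Commute v q := by
  have hx := B.hxQ
  have hx3 : x ^ 3 = 1 := by rw [← B.hxo]; exact pow_orderOf_eq_one x
  have hnorm : ∀ a ∈ Q, a * (x * a * x⁻¹) * (x * (x * a * x⁻¹) * x⁻¹) = 1 := by
    intro a ha
    have he : (a * x) ^ 3 = a * (x * a * x⁻¹) * (x * (x * a * x⁻¹) * x⁻¹) * x ^ 3 := by
      simp only [pow_succ, pow_zero, one_mul]; group
    rw [hx3, mul_one] at he
    have hmem : (a * x) ^ 3 ∈ Q := by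
      rw [he]
      exact Q.mul_mem (Q.mul_mem ha (conj_mem_of_normalizer hx ha))
        (conj_mem_of_normalizer hx (conj_mem_of_normalizer hx ha))
    rw [← he]
    have hne : ∀ k : ℕ, (a * x) ^ 2 ^ k ≠ 1 := by
      intro k hk
      have hm := mul_pow_mem hx ha (2 ^ k)
      rw [hk, one_mul, inv_mem_iff] at hm
      have h1 : x ^ 2 ^ k = 1 :=
        isPGroup_two_odd_order B.hQp hm (B.odd_zpow (pow_mem (mem_zpowers x) _))
      rcases h.odd_of_commute (Commute.refl x) B.odd_x h1 with e1 | e1 <;> exact B.x_ne_one e1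
    obtain ⟨-, hodd⟩ := h.odd_prime hne
    exact isPGroup_two_odd_order B.hQp hmem (hodd.of_dvd_nat (orderOf_pow_dvd 3))
  set c : G → G := fun q => v * q * v⁻¹ * q⁻¹ with hc
  have hcm : ∀ q ∈ Q, c q ∈ V0 := hcom
  -- `c` is a homomorphism
  have hhom : ∀ a ∈ Q, ∀ b ∈ Q, c (a * b) = c a * c b := by
    intro a ha b hb
    calc c (a * b) = c a * (a * c b * a⁻¹) := by simp only [hc]; group
      _ = c a * c b := by
          rw [show a * c b * a⁻¹ = c b from by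
            rw [mul_inv_eq_iff_eq_mul]; exact (hcen _ (hcm b hb) a ha).eq.symm]
  have hkey : ∀ q ∈ Q, c q = c (x * q * x⁻¹) := by
    intro q hq
    have hq1 : x⁻¹ * q * x ∈ Q := conj_mem_of_normalizer' hx hq
    have hq2 : x⁻¹ * (x⁻¹ * q * x) * x ∈ Q := conj_mem_of_normalizer' hx hq1
    set z1 := c (x⁻¹ * q * x) with hz1
    set z2 := c (x⁻¹ * (x⁻¹ * q * x) * x) with hz2
    have hm1 : z1 ∈ V0 := hcm _ hq1
    have hm2 : z2 ∈ V0 := hcm _ hq2
    set v1 := x * v * x⁻¹ with hv1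
    set v2 := x * v1 * x⁻¹ with hv2
    have hv1Q : v1 ∈ Q := conj_mem_of_normalizer hx hv
    have hv2Q : v2 ∈ Q := conj_mem_of_normalizer hx hv1Q
    have hC1 : v1 * q * v1⁻¹ * q⁻¹ = x * z1 * x⁻¹ := by
      simp only [hz1, hc, hv1]; group
    have hC2 : v2 * q * v2⁻¹ * q⁻¹ = x * (x * z2 * x⁻¹) * x⁻¹ := by
      simp [hz2, hc, hv2, hv1, mul_assoc]
    have hcen' : ∀ z ∈ V0, ∀ r ∈ Q, Commute (x * z * x⁻¹) r := by
      intro z hz r hr
      have := (hcen z hz _ (conj_mem_of_normalizer' hx hr)).eq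
      calc x * z * x⁻¹ * r = x * (z * (x⁻¹ * r * x)) * x⁻¹ := by group
        _ = x * (x⁻¹ * r * x * z) * x⁻¹ := by rw [this]
        _ = r * (x * z * x⁻¹) := by group
    have hcen'' : ∀ z ∈ V0, ∀ r ∈ Q, Commute (x * (x * z * x⁻¹) * x⁻¹) r := by
      intro z hz r hr
      have := (hcen' z hz _ (conj_mem_of_normalizer' hx hr)).eq
      calc x * (x * z * x⁻¹) * x⁻¹ * r = x * ((x * z * x⁻¹) * (x⁻¹ * r * x)) * x⁻¹ := by group
        _ = x * (x⁻¹ * r * x * (x * z * x⁻¹)) * x⁻¹ := by rw [this]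
        _ = r * (x * (x * z * x⁻¹) * x⁻¹) := by group
    -- the commutators of the three conjugates multiply to one
    have hprod : c q * (x * z1 * x⁻¹) * (x * (x * z2 * x⁻¹) * x⁻¹) = 1 := by
      have h1 : v * v1 * v2 = 1 := hnorm v hv
      have h0 : (v * v1 * v2) * q * (v * v1 * v2)⁻¹ * q⁻¹ = 1 := by rw [h1]; group
      have hX : v * v1 * ((v2 * q * v2⁻¹ * q⁻¹)) * (v * v1)⁻¹ = v2 * q * v2⁻¹ * q⁻¹ := by
        rw [hC2, mul_inv_eq_iff_eq_mul]
        exact (hcen'' z2 hm2 _ (Q.mul_mem hv hv1Q)).eq.symm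
      have hY : v * (v1 * q * v1⁻¹ * q⁻¹) * v⁻¹ = v1 * q * v1⁻¹ * q⁻¹ := by
        rw [hC1, mul_inv_eq_iff_eq_mul]
        exact (hcen' z1 hm1 _ hv).eq.symm
      have hZ : (v * v1 * v2) * q * (v * v1 * v2)⁻¹ * q⁻¹ =
          (v * v1 * (v2 * q * v2⁻¹ * q⁻¹) * (v * v1)⁻¹) *
            (v * (v1 * q * v1⁻¹ * q⁻¹) * v⁻¹) * c q := by
        simp only [hc]; group
      rw [hZ, hX, hY, hC1, hC2] at h0
      have a1 := (hcen'' z2 hm2 _ (Q.mul_mem (conj_mem_of_normalizer hx (hV0 hm1)) (hV0 (hcm q hq)))).eq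
      rw [mul_assoc] at h0
      rw [a1] at h0
      rw [← (hcen' z1 hm1 _ (hV0 (hcm q hq))).eq]
      exact h0
    have hn2 := hnorm z2 (hV0 hm2)
    have hinv : x * (x * z2 * x⁻¹) * x⁻¹ = (z2 * (x * z2 * x⁻¹))⁻¹ :=
      eq_inv_of_mul_eq_one_right hn2
    rw [hinv, mul_inv_eq_one] at hprod
    -- `c q * x z1 x⁻¹ = z2 * x z2 x⁻¹`
    have hd : z2⁻¹ * c q = x * (z2 * z1⁻¹) * x⁻¹ := by
      rw [show x * (z2 * z1⁻¹) * x⁻¹ = (x * z2 * x⁻¹) * (x * z1 * x⁻¹)⁻¹ by group,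
        eq_mul_inv_iff_mul_eq, mul_assoc, hprod, inv_mul_cancel_left]
    have hz : z2 * z1⁻¹ = 1 := hdis _ (V0.mul_mem hm2 (V0.inv_mem hm1))
      (by rw [← hd]; exact V0.mul_mem (V0.inv_mem hm2) (hcm q hq))
    rw [hz, mul_one, mul_inv_cancel, inv_mul_eq_one] at hd
    rw [← hd, hz2]
    congr 1
    calc x⁻¹ * (x⁻¹ * q * x) * x = (x ^ 3) * (x⁻¹ * (x⁻¹ * q * x) * x) * (x ^ 3)⁻¹ := by
          rw [hx3]; group
      _ = x * q * x⁻¹ := by simp only [pow_succ, pow_zero, one_mul]; group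
  -- `q ↦ q⁻¹ x q x⁻¹` is onto `Q`
  intro q hq
  let φ : Q → Q := fun a => ⟨(a : G)⁻¹ * (x * a * x⁻¹),
    Q.mul_mem (Q.inv_mem a.2) (conj_mem_of_normalizer hx a.2)⟩
  have hφ : Function.Injective φ := by
    intro a b hab
    have hab' : (a : G)⁻¹ * (x * a * x⁻¹) = (b : G)⁻¹ * (x * b * x⁻¹) := congrArg Subtype.val hab
    have : x * ((a : G) * (b : G)⁻¹) * x⁻¹ = (a : G) * (b : G)⁻¹ := by
      calc x * ((a : G) * (b : G)⁻¹) * x⁻¹
          = (a : G) * ((a : G)⁻¹ * (x * a * x⁻¹)) * (x * b * x⁻¹)⁻¹ := by group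
        _ = (a : G) * ((b : G)⁻¹ * (x * b * x⁻¹)) * (x * b * x⁻¹)⁻¹ := by rw [hab']
        _ = _ := by group
    exact Subtype.ext (mul_inv_eq_one.1 (B.fpf h (Q.mul_mem a.2 (Q.inv_mem b.2)) this))
  obtain ⟨a, ha⟩ := Finite.injective_iff_surjective.1 hφ ⟨q, hq⟩
  have haq : (a : G)⁻¹ * (x * a * x⁻¹) = q := congrArg Subtype.val ha
  have hone : c q = 1 := by
    rw [← haq, hhom _ (Q.inv_mem a.2) _ (conj_mem_of_normalizer hx a.2), ← hkey _ a.2,
      ← hhom _ (Q.inv_mem a.2) _ a.2, inv_mul_cancel]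
    simp [hc]
  simp only [hc, mul_inv_eq_iff_eq_mul, one_mul] at hone
  exact hone

/-- Two blocks on the same 2-group. -/
theorem amalgam {T Q₁ Q₂ : Subgroup G} {p : ℕ} {x₁ x₂ : G} (h : Hyp G) (B₁ : Blk T Q₁ p x₁)
    (B₂ : Blk T Q₂ 3 x₂) (hT1 : ¬ T ≤ Q₁) (h12 : ¬ Q₁ ≤ Q₂) : p = 3 ∧ Nat.card T = 8 := by
  obtain ⟨s₂, hs2Q₁, hs2Q₂⟩ := SetLike.not_le_iff_exists.1 h12
  have hs2T : s₂ ∈ T := B₁.hQT hs2Q₁
  have hT2 : ∀ t ∈ T, t ∉ Q₂ → ∀ u ∈ T, u ∉ Q₂ → t * u⁻¹ ∈ Q₂ := fun t ht htQ u hu huQ =>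
    B₂.mul_mem_of_sq h ht htQ (B₂.sq_mem h (by norm_num) ht) hu huQ (B₂.sq_mem h (by norm_num) hu)
  have hcT : Nat.card T = 2 * Nat.card Q₂ := by
    have hle := B₂.card_le_two h (by norm_num)
    obtain ⟨d, hd⟩ := Subgroup.card_dvd_of_le B₂.hQT
    have hne : Nat.card T ≠ Nat.card Q₂ := fun e =>
      hs2Q₂ ((Subgroup.eq_of_le_of_card_ge B₂.hQT e.le).symm ▸ hs2T)
    have hpos : 0 < Nat.card Q₂ := Nat.card_pos
    have hTpos : 0 < Nat.card T := Nat.card_pos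
    have hd2 : d ≤ 2 := by nlinarith
    interval_cases d <;> simp_all [mul_comm]
  set V₁ := omegaZ Q₁ with hV₁
  set V₂ := omegaZ Q₂ with hV₂
  by_cases hb : V₁ ≤ Q₂
  · exfalso
    set V₀ := V₁ ⊓ V₂ with hV₀
    have hdis : ∀ z ∈ V₀, x₂ * z * x₂⁻¹ ∈ V₀ → z = 1 := by
      intro z hz hz'
      have := B₂.disjoint_conj h hs2T hs2Q₂ (c := x₂ * z * x₂⁻¹) (omegaZ_le Q₂ hz'.2)
        (omegaZ_comm hz'.1 hs2Q₁).symm (by
          rw [show x₂⁻¹ * (x₂ * z * x₂⁻¹) * x₂ = z by group]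
          exact (omegaZ_comm hz.1 hs2Q₁).symm)
      exact conj_eq_one_iff.1 this
    have hnV : ¬ V₁ ≤ V₀ := by
      intro hle
      obtain ⟨s, hs, hsQ⟩ := SetLike.not_le_iff_exists.1 hT1
      have hsV : ∀ c ∈ V₁, Commute s c := by
        intro c hc
        have hc2 : c ∈ V₂ := (hle hc).2
        by_cases hs2 : s ∈ Q₂
        · exact (omegaZ_comm hc2 hs2).symm
        · have hu := hT2 s hs hs2 s₂ hs2T hs2Q₂
          rw [show s = (s * s₂⁻¹) * s₂ by group]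
          exact (omegaZ_comm hc2 hu).symm.mul_left (omegaZ_comm hc hs2Q₁).symm
      have h1 := B₁.card_sq_le h hs hsQ le_rfl (omegaZ_le Q₁) (normalizer_le_omegaZ Q₁ B₁.hxQ) hsV
      have h4 := B₁.four_le_omegaZ h
      rw [← hV₁] at h4
      nlinarith
    have hn₁ : T ≤ normalizer (V₁ : Set G) := B₁.hQn.trans (normalizer_le_omegaZ Q₁)
    have hn₂ : T ≤ normalizer (V₂ : Set G) := B₂.hQn.trans (normalizer_le_omegaZ Q₂)
    haveI : (V₀.subgroupOf T).Normal := ⟨fun n hn g =>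
      ⟨conj_mem_of_normalizer (hn₁ g.2) hn.1, conj_mem_of_normalizer (hn₂ g.2) hn.2⟩⟩
    haveI : (V₁.subgroupOf T).Normal := ⟨fun n hn g => by
      rw [Subgroup.mem_subgroupOf] at hn ⊢
      exact conj_mem_of_normalizer (hn₁ g.2) hn⟩
    haveI : Fact (Nat.Prime 2) := ⟨Nat.prime_two⟩
    obtain ⟨⟨v, hvT⟩, hv1, hv0, -, hcom⟩ := PGroupBasic.exists_mem_centralMod B₁.hT
      (A := V₀.subgroupOf T) (M := V₁.subgroupOf T) (by
        refine lt_of_le_not_ge (fun n hn => hn.1) fun hle => hnV fun n hn => ?_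
        exact hle (x := ⟨n, B₁.hQT (omegaZ_le Q₁ hn)⟩) hn)
    have hvQ₂ : v ∈ Q₂ := hb hv1
    have := B₂.commute_of_commutator_mem h (V0 := V₀) (fun z hz => omegaZ_le Q₂ hz.2)
      (fun z hz r hr => omegaZ_comm hz.2 hr) hdis hvQ₂ (fun q hq => by
        have h3 : q * v * q⁻¹ * v⁻¹ ∈ V₀ := hcom ⟨q, B₂.hQT hq⟩
        rw [show v * q * v⁻¹ * q⁻¹ = (q * v * q⁻¹ * v⁻¹)⁻¹ by group]
        exact V₀.inv_mem h3)
    exact hv0 ⟨hv1, hvQ₂, hv1.2.1, fun r hr => (this r hr).eq⟩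
  · obtain ⟨s, hs, hsQ⟩ := SetLike.not_le_iff_exists.1 hb
    have hsT : s ∈ T := B₁.hQT (omegaZ_le Q₁ hs)
    have h1 : Nat.card (Q₁ ⊓ Q₂ : Subgroup G) * Nat.card (Q₁ ⊓ Q₂ : Subgroup G) ≤ Nat.card Q₂ :=
      B₂.card_sq_le h hsT hsQ inf_le_right le_rfl B₂.hxQ fun c hc => omegaZ_comm hs hc.1
    have h2 : Nat.card Q₁ ≤ 2 * Nat.card (Q₁ ⊓ Q₂ : Subgroup G) :=
      card_le_two_mul fun a ha ha' b hb' hb'' => ⟨Q₁.mul_mem ha (Q₁.inv_mem hb'),
        hT2 a (B₁.hQT ha) (fun e => ha' ⟨ha, e⟩) b (B₁.hQT hb') fun e => hb'' ⟨hb', e⟩⟩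
    have h3 := B₁.card_le_pred h
    obtain ⟨i, hi1, hi, hd⟩ := B₁.card_omegaZ h
    have hV : Nat.card V₁ ≤ Nat.card Q₁ := Nat.le_of_dvd Nat.card_pos
      (Subgroup.card_dvd_of_le (omegaZ_le Q₁))
    rw [← hV₁] at hi
    rw [hi] at hV
    have hp3 := B₁.three_le
    -- `q₁ ≤ 2 (p - 1)`
    have hq : Nat.card Q₁ ≤ 2 * (p - 1) := by
      refine Nat.le_of_mul_le_mul_left ?_ (Nat.card_pos (α := Q₁))
      calc Nat.card Q₁ * Nat.card Q₁ ≤ (2 * Nat.card (Q₁ ⊓ Q₂ : Subgroup G)) *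
            (2 * Nat.card (Q₁ ⊓ Q₂ : Subgroup G)) := Nat.mul_le_mul h2 h2
        _ ≤ 4 * Nat.card Q₂ := by nlinarith
        _ ≤ 2 * ((p - 1) * Nat.card Q₁) := by omega
        _ = Nat.card Q₁ * (2 * (p - 1)) := by ring
    have hpi : p = 2 ^ i - 1 := by
      obtain ⟨d, hd'⟩ := hd
      have hd2 : d < 2 := by
        by_contra hge
        have : p * 2 ≤ p * d := Nat.mul_le_mul le_rfl (by omega)
        omega
      interval_cases d
      · rw [mul_zero] at hd'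
        have : 2 ≤ 2 ^ i := by
          calc 2 = 2 ^ 1 := rfl
            _ ≤ 2 ^ i := Nat.pow_le_pow_right (by norm_num) hi1
        omega
      · omega
    have hi2 : 2 ≤ i := by
      by_contra hlt
      interval_cases i
      omega
    have hp4 : p % 4 = 3 := by
      have : 4 ∣ 2 ^ i := pow_dvd_pow 2 hi2
      have : 4 ≤ 2 ^ i := Nat.le_of_dvd (by positivity) this
      omega
    have h5 := B₁.card_le_two h hp4
    have hq4 : Nat.card Q₁ ≤ 4 := by
      refine Nat.le_of_mul_le_mul_left ?_ (Nat.card_pos (α := Q₁))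
      calc Nat.card Q₁ * Nat.card Q₁ ≤ (2 * Nat.card (Q₁ ⊓ Q₂ : Subgroup G)) *
            (2 * Nat.card (Q₁ ⊓ Q₂ : Subgroup G)) := Nat.mul_le_mul h2 h2
        _ ≤ 4 * Nat.card Q₂ := by nlinarith
        _ ≤ 4 * Nat.card Q₁ := by omega
        _ = Nat.card Q₁ * 4 := by ring
    have hV4 : 4 ≤ 2 ^ i := by
      calc 4 = 2 ^ 2 := rfl
        _ ≤ 2 ^ i := Nat.pow_le_pow_right (by norm_num) hi2
    refine ⟨by omega, ?_⟩
    obtain ⟨d, hd'⟩ := Subgroup.card_dvd_of_le B₁.hQT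
    have hne : Nat.card T ≠ Nat.card Q₁ := fun e =>
      hT1 (Subgroup.eq_of_le_of_card_ge B₁.hQT e.le).ge
    have hQ4 : Nat.card Q₁ = 4 := by omega
    rw [hQ4] at hd' h5 hne
    have hTpos : 0 < Nat.card T := Nat.card_pos
    omega

end CfsgLib.EPPO21
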