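import Cfsg.Agent.Lib.EPPO21.Norm
import Cfsg.Agent.Lib.EPPO21.Amalgam
import Cfsg.Agent.Lib.Characters.Burnside
import Cfsg.Prelude.Def_CaseTheorems

/-!
# The 2-local subgroups

`Setting G` collects what a minimal counterexample gives: `G` is simple, has three prime divisors and
every 2-local has at most two.  A maximal 2-local is either 2-closed or gives a block.
-/

set_option autoImplicit false
set_option linter.style.haveILetI false

namespace CfsgLib.EPPO21

open Subgroup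

variable {G : Type*} [Group G] [Finite G]

theorem isSolvable_of_le_two {X : Type*} [Group X] [Finite X]
    (h : (Nat.card X).primeFactors.card ≤ 2) : Group.IsSolvable X := by
  classical
  set n := Nat.card X with hn
  have hn0 : n ≠ 0 := Nat.card_pos.ne'
  have hprod : (n.primeFactors.prod fun p => p ^ n.factorization p) = n :=
    (Nat.prod_primeFactors_pow_factorization hn0).symm
  rcases Nat.lt_or_ge 1 n.primeFactors.card with h2 | h2
  · obtain ⟨p, q, hpq, he⟩ := Finset.card_eq_two.1 (le_antisymm h h2)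
    rw [he, Finset.prod_pair hpq] at hprod
    exact Burnside.isSolvable_of_card_eq (Nat.prime_of_mem_primeFactors (n := n) (he ▸ by simp))
      (Nat.prime_of_mem_primeFactors (n := n) (he ▸ by simp)) _ _ (hn ▸ hprod.symm)
  · rcases Nat.lt_or_ge 0 n.primeFactors.card with h1 | h1
    · obtain ⟨p, he⟩ := Finset.card_eq_one.1 (le_antisymm h2 h1)
      rw [he, Finset.prod_singleton] at hprod
      have hp : p.Prime := Nat.prime_of_mem_primeFactors (n := n) (he ▸ by simp)
      exact Burnside.isSolvable_of_card_eq hp hp (n.factorization p) 0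
        (by rw [pow_zero, mul_one]; exact hn ▸ hprod.symm)
    · rw [Finset.card_eq_zero.1 (Nat.le_zero.1 h1), Finset.prod_empty] at hprod
      exact Burnside.isSolvable_of_card_eq Nat.prime_two Nat.prime_two 0 0
        (by simp [← hn, ← hprod])

/-- The data of a minimal counterexample. -/
structure Setting (G : Type*) [Group G] : Prop where
  hyp : Hyp G
  simple : IsSimpleGroup G
  three : 3 ≤ (Nat.card G).primeFactors.card
  heven : Even (Nat.card G)
  two_primes : ∀ U : Subgroup G, IsPGroup 2 U → U ≠ ⊥ →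
    (Nat.card (normalizer (U : Set G))).primeFactors.card ≤ 2

theorem Setting.not_normal (S : Setting G) {U : Subgroup G} (hU : IsPGroup 2 U) (hne : U ≠ ⊥) :
    normalizer (U : Set G) ≠ ⊤ := by
  intro htop
  have h := S.two_primes U hU hne
  rw [htop, Subgroup.card_top] at h
  have := S.three
  omega

/-- `R` is a Sylow 2-subgroup of `M`. -/
def SylIn (M R : Subgroup G) : Prop :=
  R ≤ M ∧ IsPGroup 2 R ∧ ∀ S : Subgroup G, S ≤ M → IsPGroup 2 S → R ≤ S → S = R

theorem exists_sylIn {M D : Subgroup G} (hD : D ≤ M) (hD2 : IsPGroup 2 D) :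
    ∃ R, D ≤ R ∧ SylIn M R := by
  obtain ⟨R, hle, ⟨hRM, hR2⟩, hmax⟩ :=
    Finite.exists_le_maximal (p := fun S : Subgroup G => S ≤ M ∧ IsPGroup 2 S) ⟨hD, hD2⟩
  exact ⟨R, hle, hRM, hR2, fun S hS hS2 hRS => le_antisymm (hmax ⟨hS, hS2⟩ hRS) hRS⟩

theorem SylIn.normal_le {M R N : Subgroup G} (h : SylIn M R) (hN : IsPGroup 2 N) (hNM : N ≤ M)
    (hn : M ≤ normalizer (N : Set G)) : N ≤ R := by
  have := h.2.2 (N ⊔ R) (sup_le hNM h.1) (hN.to_sup_of_normal_left' h.2.1 (h.1.trans hn)) le_sup_right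
  exact this ▸ le_sup_left

theorem SylIn.eq_of_map {M R : Subgroup G} (h : SylIn M R) {g : G} (hM : g ∈ M)
    (hg : g ∈ normalizer (R : Set G)) (hgo : ∃ k : ℕ, g ^ 2 ^ k = 1) : g ∈ R := by
  obtain ⟨k, hk⟩ := hgo
  have hgp : IsPGroup 2 (zpowers g) := by
    rintro ⟨y, hy⟩
    obtain ⟨i, rfl⟩ := mem_zpowers_iff.1 hy
    exact ⟨k, Subtype.ext (by
      change (g ^ i) ^ 2 ^ k = 1
      rw [← zpow_natCast, ← zpow_mul, mul_comm, zpow_mul, zpow_natCast, hk, one_zpow])⟩
  have := h.2.2 (R ⊔ zpowers g) (sup_le h.1 (zpowers_le.2 hM))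
    (h.2.1.to_sup_of_normal_left' hgp (zpowers_le.2 hg)) le_sup_left
  exact this ▸ (le_sup_right : zpowers g ≤ R ⊔ zpowers g) (mem_zpowers g)

/-- `O₂(M)` inside `G`. -/
def oTwo (M : Subgroup G) : Subgroup G := (Cfsg.pCore 2 M).map M.subtype

theorem oTwo_le (M : Subgroup G) : oTwo M ≤ M := map_subtype_le _

theorem isPGroup_oTwo (M : Subgroup G) : IsPGroup 2 (oTwo M) :=
  (PCore.pCore_isPGroup (p := 2) (G := M)).map _

theorem le_normalizer_oTwo (M : Subgroup G) : M ≤ normalizer (oTwo M : Set G) := by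
  haveI : (Cfsg.pCore 2 M).Normal := by
    exact Cfsg.pCore_normal 2 _
  intro m hm
  rw [mem_normalizer_iff]
  intro n
  constructor
  · rintro ⟨y, hy, rfl⟩
    exact ⟨⟨m, hm⟩ * y * ⟨m, hm⟩⁻¹, Normal.conj_mem inferInstance y hy _, rfl⟩
  · rintro ⟨y, hy, he⟩
    refine ⟨⟨m, hm⟩⁻¹ * y * ⟨m, hm⟩, ?_, ?_⟩
    · simpa using Normal.conj_mem inferInstance y hy (⟨m, hm⟩⁻¹ : M)
    · have : (y : G) = m * n * m⁻¹ := he
      simp [this, mul_assoc]

theorem le_oTwo {M N : Subgroup G} (hN : IsPGroup 2 N) (hNM : N ≤ M)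
    (hn : M ≤ normalizer (N : Set G)) : N ≤ oTwo M := by
  intro n hn'
  refine ⟨⟨n, hNM hn'⟩, ?_, rfl⟩
  refine PCore.le_pCore (N := N.subgroupOf M) (normal_subgroupOf_of_le_normalizer hn) ?_ hn'
  exact hN.comap_of_injective _ M.subtype_injective

open Cfsg in
theorem exists_maximal {U : Subgroup G} (hU : IsPGroup 2 U) (hne : U ≠ ⊥) :
    ∃ M, normalizer (U : Set G) ≤ M ∧ IsMaximalTwoLocal M := by
  obtain ⟨M, hle, hM, hmax⟩ :=
    Finite.exists_le_maximal (p := fun N : Subgroup G => IsTwoLocal N) ⟨U, hU, hne, rfl⟩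
  exact ⟨M, hle, hM, fun N hN hMN => le_antisymm (hmax hN hMN) hMN⟩

section Max

variable {M : Subgroup G}

theorem oTwo_ne_bot (hM : Cfsg.IsMaximalTwoLocal M) : oTwo M ≠ ⊥ := by
  obtain ⟨U, hU, hne, rfl⟩ := hM.1
  exact fun e => hne (le_bot_iff.1 (e ▸ le_oTwo hU Subgroup.le_normalizer le_rfl))

theorem normalizer_oTwo (hM : Cfsg.IsMaximalTwoLocal M) : normalizer (oTwo M : Set G) = M :=
  hM.2 _ ⟨_, isPGroup_oTwo M, oTwo_ne_bot hM, rfl⟩ (le_normalizer_oTwo M)

theorem oTwo_le_sylIn {R : Subgroup G} (hR : SylIn M R) : oTwo M ≤ R :=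
  hR.normal_le (isPGroup_oTwo M) (oTwo_le M) (le_normalizer_oTwo M)

theorem normalizer_sylIn_le (hM : Cfsg.IsMaximalTwoLocal M) {R : Subgroup G}
    (hR : R = oTwo M) : normalizer (R : Set G) ≤ M := by
  rw [hR, normalizer_oTwo hM]

end Max

theorem pow_prime_eq_one_of_dvd {X : Type*} [Group X] [Finite X] (h : Hyp X) {p : ℕ} (hp : p.Prime)
    (hp2 : p ≠ 2) {g : X} (hd : p ∣ orderOf g) : orderOf g = p := by
  rcases h g (fun e => by rw [e, orderOf_one, Nat.dvd_one] at hd; exact hp.ne_one hd) with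
    ⟨k, hk⟩ | hq
  · rw [hk] at hd
    exact absurd ((Nat.prime_dvd_prime_iff_eq hp Nat.prime_two).1 (hp.dvd_of_dvd_pow hd)) hp2
  · exact ((Nat.prime_dvd_prime_iff_eq hp hq).1 hd).symm

/-- Odd `p`-groups normalising a nontrivial 2-subgroup have order at most `p`. -/
theorem card_le_of_fpf (h : Hyp G) {V P : Subgroup G} (hV : IsPGroup 2 V) (hne : V ≠ ⊥)
    {p : ℕ} [Fact p.Prime] (hp2 : p ≠ 2) (hP : IsPGroup p P) (hPV : P ≤ normalizer (V : Set G)) :
    Nat.card P ≤ p := by
  have hp : p.Prime := Fact.out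
  obtain ⟨k, hk⟩ := hP.exists_card_eq
  by_contra hlt
  have hPne : P ≠ ⊥ := fun e => hlt (by rw [Subgroup.card_eq_one.2 e]; exact hp.one_le)
  obtain ⟨a, -, hac, hao⟩ := PGroupBasic.exists_central_orderOf_eq hP (⊤ : Subgroup P) (by
    rw [Ne, ← Subgroup.card_eq_one, Subgroup.card_top]
    exact fun e => hPne (Subgroup.card_eq_one.1 e))
  -- a second element outside `⟨a⟩`
  obtain ⟨b, hb⟩ : ∃ b : P, b ∉ zpowers a := by
    by_contra! hall
    refine hlt ?_
    rw [← Subgroup.card_top (G := P), ← hao, ← Nat.card_zpowers]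
    exact Nat.le_of_dvd Nat.card_pos (Subgroup.card_dvd_of_le fun y _ => hall y)
  have hordP : ∀ y : P, y ≠ 1 → orderOf y = p := by
    intro y hy
    obtain ⟨i, hi⟩ := IsPGroup.iff_orderOf.1 hP y
    rw [← Subgroup.orderOf_coe]
    refine pow_prime_eq_one_of_dvd h hp hp2 ?_
    rw [Subgroup.orderOf_coe, hi]
    refine dvd_pow_self p fun e => hy ?_
    rw [e, pow_zero, orderOf_eq_one_iff] at hi
    exact hi
  have hb1 : b ≠ 1 := fun e => hb (e ▸ one_mem _)
  set W := omegaZ V with hW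
  haveI : IsMulCommutative W := ⟨⟨fun u v => Subtype.ext (omegaZ_comm u.2 v.2.1).eq⟩⟩
  letI : CommGroup W := { (inferInstance : Group W) with mul_comm := fun u v => mul_comm' u v }
  let ι : P →* normalizer (W : Set G) := Subgroup.inclusion (hPV.trans (normalizer_le_omegaZ V))
  have hfix : ∀ y : P, y ≠ 1 → ∀ v : W, ι y • v = v → v = 1 := by
    intro y hy v hv
    refine Subtype.ext (h.fpf hV (x := (y : G)) ?_ (by simpa using hy) v.2.1
      (congrArg Subtype.val hv))
    rw [Subgroup.orderOf_coe, hordP y hy]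
    exact hp.odd_of_ne_two hp2
  have hpow : ∀ y : P, y ^ p = 1 := fun y => by
    by_cases hy : y = 1
    · rw [hy, one_pow]
    · rw [← hordP y hy]; exact pow_orderOf_eq_one y
  obtain ⟨v, hv, hv1⟩ := (omegaZ V).bot_or_exists_ne_one.resolve_left (omegaZ_ne_bot hV hne)
  have hab : Commute a b := (mem_center_iff.1 hac b).symm
  have := pow_eq_one_of_commuting (N := normalizer (W : Set G)) (M := W) hp (a := ι b) (b := ι a)
    (hab.symm.map ι) (by rw [← map_pow, hpow, map_one]) (by rw [← map_pow, hpow, map_one])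
    (hfix a (fun e => by rw [e, orderOf_one] at hao; exact hp.ne_one hao.symm))
    (fun j => by
      rw [← map_pow, ← map_mul]
      refine hfix _ fun e => hb ?_
      rw [eq_inv_of_mul_eq_one_left e]
      exact inv_mem (pow_mem (mem_zpowers a) j)) (⟨v, hv⟩ : W)
  have hvp : v ^ p = 1 := by simpa using congrArg Subtype.val this
  refine hv1 ?_
  rw [← Nat.div_add_mod p 2, Nat.odd_iff.1 (hp.odd_of_ne_two hp2), pow_succ, pow_mul, pow_two,
    hv.2.1, one_pow, one_mul] at hvp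
  exact hvp

theorem exists_normal_comm {X : Type*} [Group X] [Finite X] [Group.IsSolvable X] [Nontrivial X] :
    ∃ N : Subgroup X, N.Normal ∧ N ≠ ⊥ ∧ IsMulCommutative N := by
  classical
  obtain ⟨n, hn⟩ := (Group.isSolvable_def (G := X)).1 inferInstance
  have hex : ∃ n, derivedSeries X n = ⊥ := ⟨n, hn⟩
  rcases hm : Nat.find hex with _ | m
  · have := Nat.find_spec hex
    rw [hm, derivedSeries_zero] at this
    exact absurd this top_ne_bot
  refine ⟨derivedSeries X m, derivedSeries_normal _ m, Nat.find_min hex (by omega), ?_⟩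
  have := Nat.find_spec hex
  rw [hm, derivedSeries_succ, commutator_eq_bot_iff_le_centralizer] at this
  exact ⟨⟨fun u v => Subtype.ext ((mem_centralizer_iff.1 (this u.2) v v.2).symm)⟩⟩

/-- A maximal 2-local which is not 2-closed gives a block. -/
theorem exists_blk (S : Setting G) {M : Subgroup G} (hM : Cfsg.IsMaximalTwoLocal M) {R : Subgroup G}
    (hR : SylIn M R) (hne : R ≠ oTwo M) :
    ∃ p x, x ∈ M ∧ Blk R (oTwo M) p x := by
  classical
  haveI : Fact (Nat.Prime 2) := ⟨Nat.prime_two⟩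
  obtain ⟨U, hU, hUne, hMU⟩ := hM.1
  haveI hsol : Group.IsSolvable M := isSolvable_of_le_two (by
    rw [hMU]; exact S.two_primes U hU hUne)
  set K := Cfsg.pCore 2 M with hK
  haveI : K.Normal := Cfsg.pCore_normal 2 _
  haveI : Nontrivial (M ⧸ K) := by
    rw [← not_subsingleton_iff_nontrivial]
    intro hs
    have hMQ : M ≤ oTwo M := fun m hm =>
      ⟨⟨m, hm⟩, (QuotientGroup.eq_one_iff _).1 (Subsingleton.elim _ _), rfl⟩
    exact hne (le_antisymm (hR.1.trans hMQ) (oTwo_le_sylIn hR))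
  obtain ⟨N, hNn, hN1, hNc⟩ := exists_normal_comm (X := M ⧸ K)
  haveI := hNn
  haveI := hNc
  -- an odd prime dividing the order of `N`
  obtain ⟨p, hp, hp2, hpd⟩ : ∃ p, p.Prime ∧ p ≠ 2 ∧ p ∣ Nat.card N := by
    by_contra! hall
    have h2 : IsPGroup 2 N := by
      refine IsPGroup.of_card (n := (Nat.card N).primeFactorsList.length)
        (Nat.eq_prime_pow_of_unique_prime_dvd Nat.card_pos.ne' fun {d} hd hdd => ?_)
      by_contra hd2
      exact hall d hd hd2 hdd
    exact hN1 (le_bot_iff.1 ((PCore.le_pCore hNn h2).trans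
      (PCore.pCore_quotient_pCore (p := 2) (G := M)).le))
  haveI : Fact p.Prime := ⟨hp⟩
  haveI hPn : ∀ P : Sylow p N, (P : Subgroup N).Normal := fun P => inferInstance
  obtain ⟨P₀⟩ := (inferInstance : Nonempty (Sylow p N))
  haveI : (P₀ : Subgroup N).Characteristic := Sylow.characteristic_of_normal P₀ (hPn P₀)
  set A' : Subgroup (M ⧸ K) := (P₀ : Subgroup N).map N.subtype with hA'
  haveI hA'n : A'.Normal := ConjAct.normal_of_characteristic_of_normal
  have hA'p : IsPGroup p A' := P₀.2.map _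
  have hA'ne : A' ≠ ⊥ := by
    rw [Ne, hA', map_eq_bot_iff_of_injective _ N.subtype_injective]
    exact P₀.ne_bot_of_dvd_card hpd
  set A : Subgroup M := A'.comap (QuotientGroup.mk' K) with hA
  haveI : A.Normal := hA'n.comap _
  obtain ⟨X₀⟩ := (inferInstance : Nonempty (Sylow p A))
  set X : Subgroup G := (X₀ : Subgroup A).map (M.subtype.comp A.subtype) with hX
  have hXp : IsPGroup p X := X₀.2.map _
  have hXM : X ≤ M := by
    rintro _ ⟨y, -, rfl⟩
    exact (A.subtype y).2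
  have hXn : X ≤ normalizer (oTwo M : Set G) := hXM.trans (le_normalizer_oTwo M)
  have hXne : X ≠ ⊥ := by
    rw [Ne, hX, map_eq_bot_iff_of_injective _
      (show Function.Injective (M.subtype.comp A.subtype) from
        M.subtype_injective.comp A.subtype_injective)]
    refine X₀.ne_bot_of_dvd_card ?_
    have h1 : Nat.card A' ∣ Nat.card A := by
      have := card_dvd_of_surjective ((QuotientGroup.mk' K).subgroupComap A')
        (MonoidHom.subgroupComap_surjective_of_surjective _ A' (QuotientGroup.mk'_surjective K))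
      exact this
    refine dvd_trans ?_ h1
    obtain ⟨i, hi⟩ := hA'p.exists_card_eq
    rw [hi]
    refine dvd_pow_self p fun e => hA'ne (Subgroup.card_eq_one.1 ?_)
    rw [hi, e, pow_zero]
  have hXc : Nat.card X = p := by
    refine le_antisymm (card_le_of_fpf S.hyp (isPGroup_oTwo M) (oTwo_ne_bot hM) hp2 hXp hXn) ?_
    obtain ⟨i, hi⟩ := hXp.exists_card_eq
    rw [hi]
    refine Nat.le_self_pow (fun e => hXne (Subgroup.card_eq_one.1 ?_)) p
    rw [hi, e, pow_zero]
  obtain ⟨⟨x, hxX⟩, hxgen⟩ : ∃ x : X, zpowers x = ⊤ := by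
    haveI : IsCyclic X := isCyclic_of_prime_card hXc
    obtain ⟨g, hg⟩ := IsCyclic.exists_generator (α := X)
    exact ⟨g, eq_top_iff.2 fun y _ => hg y⟩
  have hXz : zpowers x = X := by
    refine le_antisymm (zpowers_le.2 hxX) fun y hy => ?_
    obtain ⟨i, hi⟩ := mem_zpowers_iff.1 (hxgen.ge (mem_top (⟨y, hy⟩ : X)))
    exact mem_zpowers_iff.2 ⟨i, congrArg Subtype.val hi⟩
  have hxo : orderOf x = p := by rw [← Nat.card_zpowers, hXz, hXc]
  refine ⟨p, x, hXM hxX,
    { hp := hp, hodd := hp2, hT := hR.2.1, hQT := oTwo_le_sylIn hR, hQ := oTwo_ne_bot hM,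
      hQn := hR.1.trans (le_normalizer_oTwo M), hxo := hxo, hxQ := hXn hxX, frat := ?_ }⟩
  intro s hs
  -- the image of `x` generates `A'`
  set π := QuotientGroup.mk' K
  set xM : M := ⟨x, hXM hxX⟩ with hxM
  have hxA : π xM ∈ A' := by
    obtain ⟨y, -, hy⟩ := hxX
    have : (A.subtype y) = xM := Subtype.ext hy
    rw [← this]
    exact y.2
  have hxne : π xM ≠ 1 := by
    intro e
    have hmem : xM ∈ K := (QuotientGroup.eq_one_iff _).1 e
    have h1 : x = 1 := isPGroup_two_odd_order (isPGroup_oTwo M) ⟨xM, hmem, rfl⟩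
      (hxo ▸ hp.odd_of_ne_two hp2)
    rw [h1, orderOf_one] at hxo
    exact hp.ne_one hxo.symm
  have hA'c : Nat.card A' ∣ p := by
    obtain ⟨i, hi⟩ := hA'p.exists_card_eq
    have h1 : Nat.card A' ∣ Nat.card A :=
      card_dvd_of_surjective (π.subgroupComap A')
        (MonoidHom.subgroupComap_surjective_of_surjective _ A' (QuotientGroup.mk'_surjective K))
    rw [hi] at h1 ⊢
    have h2 := X₀.pow_dvd_card_of_pow_dvd_card h1
    have h3 : Nat.card X = Nat.card (X₀ : Subgroup A) :=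
      Subgroup.card_map_of_injective (M.subtype_injective.comp A.subtype_injective)
    rw [h3.symm.trans hXc] at h2
    exact h2
  have hA'z : A' = zpowers (π xM) := by
    refine (Subgroup.eq_of_le_of_card_ge (zpowers_le.2 hxA) ?_).symm
    rw [Nat.card_zpowers]
    rcases (Nat.dvd_prime hp).1 hA'c with e | e
    · rw [e]; exact orderOf_pos _
    · rw [e]
      have h1 := orderOf_map_dvd π xM
      rw [show orderOf xM = p by rw [← hxo, ← orderOf_injective M.subtype M.subtype_injective]; rfl]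
        at h1
      exact (((Nat.dvd_prime hp).1 h1).resolve_left fun e1 => hxne (orderOf_eq_one_iff.1 e1)).ge
  set m : M := ⟨s, hR.1 hs⟩
  have hconj : π m * π xM * (π m)⁻¹ ∈ zpowers (π xM) := hA'z ▸ hA'n.conj_mem _ hxA (π m)
  obtain ⟨l, hl⟩ := mem_zpowers_iff.1 hconj
  have hy1 : x ^ l ≠ 1 := by
    intro e
    have : π xM ^ l = 1 := by
      rw [← map_zpow, show xM ^ l = 1 from Subtype.ext (by simpa [hxM] using e), map_one]
    rw [this] at hl
    exact hxne (by simpa using conj_eq_one_iff.1 hl.symm)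
  set r : G := s * x * s⁻¹ * (x ^ l)⁻¹ with hr
  have hrQ : r ∈ oTwo M := by
    refine ⟨m * xM * m⁻¹ * (xM ^ l)⁻¹, (QuotientGroup.eq_one_iff _).1 ?_, by simp [hr, m, hxM]⟩
    change π (m * xM * m⁻¹ * (xM ^ l)⁻¹) = 1
    rw [map_mul, map_mul, map_mul, map_inv, map_inv, map_zpow, hl, mul_inv_cancel]
  have hzn : x ^ l ∈ normalizer (oTwo M : Set G) := zpow_mem (hXn hxX) l
  have hzo : Odd (orderOf (x ^ l)) :=
    (hxo ▸ hp.odd_of_ne_two hp2 : Odd (orderOf x)).of_dvd_nat (orderOf_dvd_of_mem_zpowers (zpow_mem_zpowers x l))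
  let ψ : oTwo M → oTwo M := fun q => ⟨(q : G)⁻¹ * (x ^ l * q * (x ^ l)⁻¹),
    mul_mem (inv_mem q.2) (conj_mem_of_normalizer hzn q.2)⟩
  have hψ : Function.Injective ψ := by
    intro u v huv
    have he : (u : G)⁻¹ * (x ^ l * u * (x ^ l)⁻¹) = (v : G)⁻¹ * (x ^ l * v * (x ^ l)⁻¹) :=
      congrArg Subtype.val huv
    refine Subtype.ext (mul_inv_eq_one.1 (S.hyp.fpf (isPGroup_oTwo M) hzo hy1
      (mul_mem u.2 (inv_mem v.2)) ?_))
    calc x ^ l * ((u : G) * (v : G)⁻¹) * (x ^ l)⁻¹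
        = (u : G) * ((u : G)⁻¹ * (x ^ l * u * (x ^ l)⁻¹)) * (x ^ l * v * (x ^ l)⁻¹)⁻¹ := by group
      _ = (u : G) * ((v : G)⁻¹ * (x ^ l * v * (x ^ l)⁻¹)) * (x ^ l * v * (x ^ l)⁻¹)⁻¹ := by rw [he]
      _ = _ := by group
  obtain ⟨q, hq⟩ := Finite.injective_iff_surjective.1 hψ ⟨r, hrQ⟩
  have hqe : (q : G)⁻¹ * (x ^ l * q * (x ^ l)⁻¹) = r := congrArg Subtype.val hq
  refine ⟨q, q.2, mem_zpowers_iff.2 ⟨l, ?_⟩⟩
  calc x ^ l = (q : G) * ((q : G)⁻¹ * (x ^ l * q * (x ^ l)⁻¹) * x ^ l) * (q : G)⁻¹ := by group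
    _ = (q : G) * (r * x ^ l) * (q : G)⁻¹ := by rw [hqe]
    _ = (q : G) * s * x * ((q : G) * s)⁻¹ := by rw [hr]; group

end CfsgLib.EPPO21
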