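import Cfsg.Agent.Lib.EPPO21.Basic
import Cfsg.Agent.Lib.SpecLin.PSLOrders
import Cfsg.Agent.Lib.PSL2.Basic
import Cfsg.Agent.Lib.Small.Order4080
import Cfsg.Agent.Lib.Small.Order168

/-!
# The two-dimensional linear groups whose element orders are 2-powers or primes, of order prime to 5
-/

set_option autoImplicit false
set_option linter.style.haveILetI false

namespace CfsgLib.EPPO21

open Matrix

variable {F : Type*} [Field F] [Fintype F]

/-- A number dividing the order of some element. -/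
def Adm (m : ℕ) : Prop := (∃ k, m = 2 ^ k) ∨ m.Prime

theorem Hyp.adm {G : Type*} [Group G] [Finite G] (h : Hyp G) {g : G} {m : ℕ} (hm : m ∣ orderOf g) :
    Adm m := by
  by_cases hg : g = 1
  · rw [hg, orderOf_one, Nat.dvd_one] at hm
    exact Or.inl ⟨0, by simpa using hm⟩
  rcases h g hg with ⟨k, hk⟩ | hp
  · rw [hk] at hm
    obtain ⟨i, -, hi⟩ := (Nat.dvd_prime_pow Nat.prime_two).1 hm
    exact Or.inl ⟨i, hi⟩
  · rcases (Nat.dvd_prime hp).1 hm with e | e
    · exact Or.inl ⟨0, by simpa using e⟩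
    · exact Or.inr (e ▸ hp)

theorem exists_sl_orderOf_sub_one :
    ∃ A : SpecialLinearGroup (Fin 2) F, orderOf A = Fintype.card F - 1 := by
  obtain ⟨g, hg⟩ := IsCyclic.exists_generator (α := Fˣ)
  have hcard : orderOf g = Fintype.card F - 1 := by
    rw [orderOf_eq_card_of_forall_mem_zpowers hg, Nat.card_units, Nat.card_eq_fintype_card]
  let φ : Fˣ →* SpecialLinearGroup (Fin 2) F :=
    { toFun := fun u => ⟨!![(u : F), 0; 0, (↑u⁻¹ : F)], by simp [Matrix.det_fin_two]⟩
      map_one' := by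
        apply Subtype.ext
        simp [Matrix.one_fin_two]
      map_mul' := fun u v => by
        apply Subtype.ext
        change _ = !![(u : F), 0; 0, (↑u⁻¹ : F)] * !![(v : F), 0; 0, (↑v⁻¹ : F)]
        rw [Matrix.mul_fin_two]
        simp [mul_comm] }
  refine ⟨φ g, ?_⟩
  rw [orderOf_injective φ ?_, hcard]
  intro u v huv
  have := congrArg (fun A : SpecialLinearGroup (Fin 2) F => (A : Matrix (Fin 2) (Fin 2) F) 0 0) huv
  exact Units.ext this

theorem sq_eq_one_of_mem_center {A : SpecialLinearGroup (Fin 2) F}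
    (hA : A ∈ Subgroup.center (SpecialLinearGroup (Fin 2) F)) : A ^ 2 = 1 := by
  obtain ⟨s, hs1, hs⟩ := SpecLin.PSLOrders.exists_scalar_of_mem_center hA
  apply Subtype.ext
  change (A : Matrix (Fin 2) (Fin 2) F) ^ 2 = 1
  rw [hs, _root_.smul_pow, one_pow,
    show s ^ 2 = 1 by simpa using hs1, one_smul]

theorem exists_psl_dvd_orderOf_sub :
    ∃ g : ProjectiveSpecialLinearGroup (Fin 2) F, Fintype.card F - 1 ∣ 2 * orderOf g := by
  obtain ⟨A, hA⟩ := exists_sl_orderOf_sub_one (F := F)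
  refine ⟨QuotientGroup.mk A, ?_⟩
  set o := orderOf (QuotientGroup.mk A : ProjectiveSpecialLinearGroup (Fin 2) F)
  rw [← hA, mul_comm]
  apply orderOf_dvd_of_pow_eq_one
  rw [pow_mul]
  apply sq_eq_one_of_mem_center
  rw [← QuotientGroup.eq_one_iff, QuotientGroup.mk_pow, pow_orderOf_eq_one]

theorem exists_psl_dvd_orderOf_add (hodd : Odd (Fintype.card F)) :
    ∃ g : ProjectiveSpecialLinearGroup (Fin 2) F, Fintype.card F + 1 ∣ 2 * orderOf g := by
  obtain ⟨g, hg⟩ := SpecLin.PSLOrders.exists_mk_singer (n := 2) (F := F) (by norm_num)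
  refine ⟨g, ?_⟩
  have hgcd : Nat.gcd 2 (Fintype.card F - 1) = 2 :=
    Nat.gcd_eq_left (by obtain ⟨k, hk⟩ := hodd; omega)
  have hcyc : SpecLin.PSLOrders.cyc (Fintype.card F) 2 = Fintype.card F + 1 := by
    simp [SpecLin.PSLOrders.cyc, Finset.sum_range_succ, add_comm]
  rw [hgcd, hcyc] at hg
  obtain ⟨k, hk⟩ := hodd
  obtain ⟨d, hd⟩ := hg
  exact ⟨d, by rw [hd, ← mul_assoc, Nat.mul_div_cancel' ⟨k + 1, by omega⟩]⟩

theorem three_dvd_two_pow (k : ℕ) : 2 ^ k % 3 = if Even k then 1 else 2 := by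
  induction k with
  | zero => simp
  | succ n ih =>
    rw [pow_succ, Nat.mul_mod, ih]
    rcases Nat.even_or_odd n with he | ho
    · simp [he, Nat.even_add_one]
    · simp [Nat.not_even_iff_odd.2 ho, Nat.even_add_one]

theorem two_pow_ne_three_pow {k f : ℕ} (hk : 4 ≤ k) :
    3 ^ f ≠ 2 ^ k + 1 ∧ 3 ^ f + 1 ≠ 2 ^ k := by
  have h16 : 2 ^ k % 16 = 0 := Nat.mod_eq_zero_of_dvd (pow_dvd_pow 2 hk)
  have key : ∀ f, 3 ^ f % 16 = 1 ∨ 3 ^ f % 16 = 3 ∨ 3 ^ f % 16 = 9 ∨ 3 ^ f % 16 = 11 := by
    intro f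
    induction f with
    | zero => simp
    | succ n ih => rw [pow_succ, Nat.mul_mod]; rcases ih with e | e | e | e <;> simp [e]
  refine ⟨fun e => ?_, fun e => ?_⟩
  · -- `3 ^ f ≡ 1 (mod 16)`, hence `f` is a multiple of `4` and `5 ∣ 3 ^ f - 1`
    have h4 : ∀ m, 3 ^ m % 16 = 1 → m % 4 = 0 := by
      intro m hm
      rw [← Nat.div_add_mod m 4, pow_add, pow_mul, Nat.mul_mod, Nat.pow_mod] at hm
      simp only [show (3 : ℕ) ^ 4 % 16 = 1 from rfl, one_pow] at hm
      have := Nat.mod_lt m (by norm_num : 4 > 0)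
      interval_cases hmm : m % 4 <;> simp at hm ⊢
    have hf := h4 f (by omega)
    have h5 : 3 ^ f % 5 = 1 := by
      rw [show f = 4 * (f / 4) by omega, pow_mul, Nat.pow_mod]
      simp
    have : 2 ^ k % 5 = 0 := by omega
    have := (Nat.prime_dvd_prime_iff_eq (by norm_num : (5 : ℕ).Prime) Nat.prime_two).1
      ((by norm_num : (5 : ℕ).Prime).dvd_of_dvd_pow (Nat.dvd_of_mod_eq_zero this))
    omega
  · rcases key f with e' | e' | e' | e' <;> omega

theorem card_primeFactors_le {n a : ℕ} (hn : n ≠ 0) (s : Finset ℕ) (hs : s.card ≤ a)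
    (h : ∀ p, p.Prime → p ∣ n → p ∈ s) : n.primeFactors.card ≤ a :=
  (Finset.card_le_card fun p hp => h p (Nat.prime_of_mem_primeFactors hp)
    (Nat.dvd_of_mem_primeFactors hp)).trans hs

theorem exists_three_pow (h3q : 3 ∣ Fintype.card F) : ∃ f, Fintype.card F = 3 ^ f := by
  obtain ⟨n, hr, hn⟩ := FiniteField.card F (ringChar F)
  rw [hn] at h3q
  have := (Nat.prime_dvd_prime_iff_eq Nat.prime_three hr).1 (Nat.prime_three.dvd_of_dvd_pow h3q)
  exact ⟨n, by rw [hn, ← this]⟩

/-- The projective case. -/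
theorem card_eq_seven_of_psl {G : Type*} [Group G] [Finite G] (h : Hyp G)
    (h3 : 3 ≤ (Nat.card G).primeFactors.card) (h5 : ¬ 5 ∣ Nat.card G) (hodd : Odd (Fintype.card F))
    (e : G ≃* ProjectiveSpecialLinearGroup (Fin 2) F) : Fintype.card F = 7 := by
  classical
  set q := Fintype.card F with hq
  have hP : Hyp (ProjectiveSpecialLinearGroup (Fin 2) F) := h.of_surjective e.toMonoidHom e.surjective
  obtain ⟨b, hb⟩ : ∃ b, q + 1 = 2 * b := ⟨(q + 1) / 2, by obtain ⟨k, hk⟩ := hodd; omega⟩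
  obtain ⟨a, ha⟩ : ∃ a, q - 1 = 2 * a := ⟨(q - 1) / 2, by obtain ⟨k, hk⟩ := hodd; omega⟩
  have hq2 : 2 ≤ q := Fintype.one_lt_card
  obtain ⟨g, hg⟩ := exists_psl_dvd_orderOf_add (F := F) hodd
  obtain ⟨g', hg'⟩ := exists_psl_dvd_orderOf_sub (F := F)
  rw [← hq, hb] at hg
  rw [← hq, ha] at hg'
  have hA : Adm a := hP.adm ((Nat.mul_dvd_mul_iff_left two_pos).1 hg')
  have hB : Adm b := hP.adm ((Nat.mul_dvd_mul_iff_left two_pos).1 hg)
  have hcard : 2 * Nat.card G = (q + 1) * (q * (q - 1)) := by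
    rw [Nat.card_congr e.toEquiv, ← PSL2.card_psl (F := F),
      show Nat.gcd 2 (Fintype.card F - 1) = 2 from Nat.gcd_eq_left ⟨a, ha⟩]
  have hq3 : q ≠ 3 := by
    intro e3
    rw [e3] at hcard
    have hn : Nat.card G = 12 := by omega
    rw [hn] at h3
    have := card_primeFactors_le (n := 12) (a := 2) (by norm_num) {2, 3} (by simp) (by
      intro p hp hd
      have := Nat.le_of_dvd (by norm_num) hd
      interval_cases p <;> revert hp hd <;> decide)
    omega
  have hq5 : q ≠ 5 := by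
    intro e5
    rw [e5] at hcard
    exact h5 ⟨12, by omega⟩
  have hq9 : q ≠ 9 := by
    intro e9
    rw [e9] at hcard
    exact h5 ⟨72, by omega⟩
  have hab : b = a + 1 := by omega
  rcases Nat.even_or_odd b with hbe | hbo
  · -- `b = 2 ^ k`
    rcases hB with ⟨k, hk⟩ | hp
    swap
    · have : b = 2 := hp.even_iff.1 hbe
      omega
    have hk3 : k ≠ 1 := fun e1 => by rw [e1] at hk; omega
    have ha2 : a % 2 = 1 := by rw [Nat.even_iff] at hbe; omega
    have haP : a.Prime := by
      rcases hA with ⟨i, hi⟩ | hp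
      · rcases Nat.eq_zero_or_pos i with rfl | hi0
        · simp at hi; omega
        · have : 2 ∣ a := hi ▸ dvd_pow_self 2 (by omega)
          omega
      · exact hp
    have h3k := three_dvd_two_pow k
    rcases Nat.even_or_odd k with hke | hko
    · rw [if_pos hke] at h3k
      have : 3 ∣ a := by omega
      have := (Nat.prime_dvd_prime_iff_eq Nat.prime_three haP).1 this
      omega
    · rw [if_neg (Nat.not_even_iff_odd.2 hko)] at h3k
      have hd3 : 3 ∣ q := by omega
      obtain ⟨f, hf⟩ := exists_three_pow hd3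
      obtain ⟨j, hj⟩ := hko
      exfalso
      refine (two_pow_ne_three_pow (k := k + 1) (f := f) ?_).2 ?_
      · omega
      · rw [pow_succ]; omega
  · -- `a = 2 ^ k`
    have hae : Even a := by rw [Nat.even_iff]; rw [Nat.odd_iff] at hbo; omega
    rcases hA with ⟨k, hk⟩ | hp
    swap
    · have : a = 2 := hp.even_iff.1 hae
      omega
    have hb2 : b % 2 = 1 := Nat.odd_iff.1 hbo
    have hbP : b.Prime := by
      rcases hB with ⟨i, hi⟩ | hp
      · rcases Nat.eq_zero_or_pos i with rfl | hi0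
        · simp at hi; omega
        · have : 2 ∣ b := hi ▸ dvd_pow_self 2 (by omega)
          omega
      · exact hp
    have h3k := three_dvd_two_pow k
    exfalso
    rcases Nat.even_or_odd k with hke | hko
    · rw [if_pos hke] at h3k
      have hd3 : 3 ∣ q := by omega
      obtain ⟨f, hf⟩ := exists_three_pow hd3
      have hk3 : 3 ≤ k := by
        by_contra hlt
        obtain ⟨j, hj⟩ := hke
        interval_cases k <;> simp at hk <;> omega
      refine (two_pow_ne_three_pow (k := k + 1) (f := f) (by omega)).1 ?_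
      rw [pow_succ]; omega
    · rw [if_neg (Nat.not_even_iff_odd.2 hko)] at h3k
      have : 3 ∣ b := by omega
      have := (Nat.prime_dvd_prime_iff_eq Nat.prime_three hbP).1 this
      omega

/-- The characteristic two case is impossible. -/
theorem false_of_sl_two {G : Type*} [Group G] [Finite G] (h : Hyp G) [CharP F 2]
    (h3 : 3 ≤ (Nat.card G).primeFactors.card) (h5 : ¬ 5 ∣ Nat.card G)
    (e : G ≃* SpecialLinearGroup (Fin 2) F) : False := by
  classical
  set q := Fintype.card F with hq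
  obtain ⟨n, -, hn⟩ := FiniteField.card F 2
  rw [← hq] at hn
  have hS : Hyp (SpecialLinearGroup (Fin 2) F) := h.of_surjective e.toMonoidHom e.surjective
  obtain ⟨A, hA1, hA⟩ := SpecLin.PSLOrders.exists_singer (F := F) (d := 2) (by norm_num)
  obtain ⟨B, hB⟩ := exists_sl_orderOf_sub_one (F := F)
  have hcyc : SpecLin.PSLOrders.cyc q 2 = q + 1 := by
    simp [SpecLin.PSLOrders.cyc, Finset.sum_range_succ, add_comm]
  let A' : SpecialLinearGroup (Fin 2) F := ⟨A, hA1⟩
  have hA' : orderOf A' = q + 1 := by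
    rw [← hcyc, ← hA]
    exact (orderOf_injective (⟨⟨fun X => (X : Matrix (Fin 2) (Fin 2) F), rfl⟩, fun _ _ => rfl⟩ :
      SpecialLinearGroup (Fin 2) F →* Matrix (Fin 2) (Fin 2) F) Subtype.val_injective A').symm
  have hplus : Adm (q + 1) := hS.adm hA'.symm.dvd
  have hminus : Adm (q - 1) := hS.adm hB.symm.dvd
  have hq2 : 2 ≤ q := Fintype.one_lt_card
  have heven : q % 2 = 0 := by rw [hn]; simp [Nat.pow_mod, n.pos.ne']
  have hmod := three_dvd_two_pow n
  rw [← hn] at hmod
  have hqP : (q + 1).Prime ∧ q + 1 ≠ 5 := by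
    rcases hplus with ⟨i, hi⟩ | h'
    · rcases Nat.eq_zero_or_pos i with rfl | hi0
      · simp at hi; omega
      · have : 2 ∣ q + 1 := hi ▸ dvd_pow_self 2 (by omega)
        omega
    · refine ⟨h', fun e5 => h5 ?_⟩
      rw [Nat.card_congr e.toEquiv, ← e5, ← hA']
      exact orderOf_dvd_natCard _
  have hsmall : q = 2 := by
    rcases Nat.even_or_odd (n : ℕ) with hne | hno
    · rw [if_pos hne] at hmod
      rcases hminus with ⟨i, hi⟩ | hp
      · rcases Nat.eq_zero_or_pos i with rfl | hi0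
        · simp at hi; omega
        · have : 2 ∣ q - 1 := hi ▸ dvd_pow_self 2 (by omega)
          omega
      · have := (Nat.prime_dvd_prime_iff_eq Nat.prime_three hp).1 (by omega)
        omega
    · rw [if_neg (Nat.not_even_iff_odd.2 hno)] at hmod
      have := (Nat.prime_dvd_prime_iff_eq Nat.prime_three hqP.1).1 (by omega)
      omega
  have hle : Nat.card G ≤ 16 := by
    rw [Nat.card_congr e.toEquiv]
    refine le_trans (Nat.card_le_card_of_injective
      (fun X : SpecialLinearGroup (Fin 2) F => (X : Fin 2 → Fin 2 → F)) fun X Y hXY => Subtype.ext hXY) ?_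
    change Nat.card (Fin 2 → Fin 2 → F) ≤ 16
    rw [Nat.card_fun, Nat.card_fun, Nat.card_eq_fintype_card, Nat.card_eq_fintype_card, ← hq, hsmall]
    simp
  have hsub : (Nat.card G).primeFactors.card ≤ 2 := by
    refine card_primeFactors_le Nat.card_pos.ne' ((Nat.card G).divisors.filter Nat.Prime) ?_
      fun p hp hd => Finset.mem_filter.2 ⟨Nat.mem_divisors.2 ⟨hd, Nat.card_pos.ne'⟩, hp⟩
    generalize Nat.card G = m at hle ⊢
    interval_cases m <;> decide +kernel
  omega

/-- Groups of order 168 and `PSL(2,7)`. -/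
theorem nonempty_psl_seven {G : Type*} [Group G] {F₀ : Type*} [Field F₀] [Fintype F₀]
    (h0 : Fintype.card F₀ = 7) (hF : Fintype.card F = 7)
    (e : G ≃* ProjectiveSpecialLinearGroup (Fin 2) F₀) :
    Nonempty (G ≃* ProjectiveSpecialLinearGroup (Fin 2) F) := by
  obtain ⟨e'⟩ := Small.Order4080.nonempty_psl_congr (FiniteField.ringEquivOfCardEq (K := F₀) (K' := F) (h0.trans hF.symm))
  exact ⟨e.trans e'⟩

end CfsgLib.EPPO21
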