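import Cfsg.Agent.Lib.EPPO21.Main
import Cfsg.Agent.Lib.StrongEmbedding.PSLTwo

/-!
# Order prime to three

A group of order prime to three, with at most three prime divisors, all of whose elements have 2-power
or prime order, has at most two prime divisors.
-/

set_option autoImplicit false
set_option linter.style.haveILetI false

namespace CfsgLib.EPPO21

open Subgroup

universe u

theorem three_dvd_prod (q : ℕ) : 3 ∣ (q + 1) * (q * (q - 1)) := by
  rcases q with _ | q
  · simp
  have h : (q + 1 + 1) * ((q + 1) * (q + 1 - 1)) = q * (q + 1) * (q + 2) := by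
    rw [show q + 1 - 1 = q by omega]; ring
  rw [h]
  apply Nat.dvd_of_mod_eq_zero
  rw [Nat.mul_mod, Nat.mul_mod q, Nat.add_mod q 1, Nat.add_mod q 2]
  have := Nat.mod_lt q (by norm_num : 3 > 0)
  interval_cases (q % 3) <;> simp

/-- The order of a Suzuki group has at least four prime divisors. -/
theorem four_le_of_isSuzuki {G : Type*} [Group G] (h : Cfsg.IsSuzuki G) :
    4 ≤ (Nat.card G).primeFactors.card := by
  obtain ⟨-, m, hm, hc⟩ := h
  rw [hc]
  obtain ⟨q, hq⟩ : ∃ q, q = 2 ^ (2 * m + 1) := ⟨_, rfl⟩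
  obtain ⟨r, hr⟩ : ∃ r, r = 2 ^ (m + 1) := ⟨_, rfl⟩
  rw [← hq]
  have hrr : r * r = 2 * q := by rw [hr, hq, ← pow_add, ← pow_succ']; ring_nf
  have hqe : q % 2 = 0 := by
    rw [hq, pow_succ']
    omega
  have hre : r % 2 = 0 := by
    rw [hr, pow_succ']
    omega
  have hq8 : 8 ≤ q := by
    calc 8 = 2 ^ 3 := by norm_num
      _ ≤ q := hq ▸ Nat.pow_le_pow_right (by norm_num) (by omega)
  have hrq : r < q := hq ▸ hr ▸ Nat.pow_lt_pow_right (by norm_num) (by omega)
  obtain ⟨a, ha⟩ : ∃ a, a = q + r + 1 := ⟨_, rfl⟩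
  obtain ⟨b, hb⟩ : ∃ b, b = q - r + 1 := ⟨_, rfl⟩
  obtain ⟨c, hcc⟩ : ∃ c, c = q - 1 := ⟨_, rfl⟩
  rw [← hcc]
  have hab : a * b = q ^ 2 + 1 := by
    obtain ⟨d, hd⟩ : ∃ d, q = r + d := ⟨q - r, by omega⟩
    have hb' : b = d + 1 := by omega
    subst hd
    rw [ha, hb']
    have h1 : (r + d + r + 1) * (d + 1) + r * r = (r + d) ^ 2 + 1 + 2 * (r + d) := by ring
    omega
  have hcoAB : a.Coprime b := by
    rw [Nat.coprime_iff_gcd_eq_one]
    have hg2 : Nat.gcd a b ∣ 2 ^ (m + 2) := by
      have h1 : Nat.gcd a b ∣ a - b := Nat.dvd_sub (Nat.gcd_dvd_left a b) (Nat.gcd_dvd_right a b)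
      rwa [show a - b = 2 ^ (m + 2) by rw [pow_succ, ← hr]; omega] at h1
    obtain ⟨i, -, hi⟩ := (Nat.dvd_prime_pow Nat.prime_two).1 hg2
    rcases Nat.eq_zero_or_pos i with rfl | hi0
    · simpa using hi
    · have : 2 ∣ a := (hi ▸ dvd_pow_self 2 (by omega) : 2 ∣ Nat.gcd a b).trans (Nat.gcd_dvd_left a b)
      omega
  have hcoC : (a * b).Coprime c := by
    rw [hab, Nat.coprime_iff_gcd_eq_one]
    have hgc := Nat.gcd_dvd_right (q ^ 2 + 1) c
    have hg2 : Nat.gcd (q ^ 2 + 1) c ∣ 2 := by
      have hsq : q ^ 2 + 1 = 2 + (q + 1) * c := by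
        obtain ⟨d, hd⟩ : ∃ d, q = d + 1 := ⟨q - 1, by omega⟩
        rw [hcc, hd, show d + 1 - 1 = d by omega]
        ring
      have h1 := Nat.gcd_dvd_left (q ^ 2 + 1) c
      nth_rw 2 [hsq] at h1
      exact (Nat.dvd_add_left (hgc.mul_left _)).1 h1
    rcases (Nat.dvd_prime Nat.prime_two).1 hg2 with e | e
    · exact e
    · rw [e] at hgc; omega
  obtain ⟨p1, hp1, hd1⟩ := Nat.exists_prime_and_dvd (show a ≠ 1 by omega)
  obtain ⟨p2, hp2, hd2⟩ := Nat.exists_prime_and_dvd (show b ≠ 1 by omega)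
  obtain ⟨p3, hp3, hd3⟩ := Nat.exists_prime_and_dvd (show c ≠ 1 by omega)
  have h21 : 2 ≠ p1 := fun e => by rw [← e] at hd1; omega
  have h22 : 2 ≠ p2 := fun e => by rw [← e] at hd2; omega
  have h23 : 2 ≠ p3 := fun e => by rw [← e] at hd3; omega
  have h12 : p1 ≠ p2 := fun e => Nat.not_coprime_of_dvd_of_dvd hp1.one_lt hd1 (e ▸ hd2) hcoAB
  have h13 : p1 ≠ p3 := fun e =>
    Nat.not_coprime_of_dvd_of_dvd hp1.one_lt (hd1.mul_right b) (e ▸ hd3) hcoC
  have h23' : p2 ≠ p3 := fun e =>
    Nat.not_coprime_of_dvd_of_dvd hp2.one_lt (hd2.mul_left a) (e ▸ hd3) hcoC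
  have hne : q ^ 2 * (q ^ 2 + 1) * c ≠ 0 := by
    have : 0 < q ^ 2 := by positivity
    have : 0 < c := by omega
    positivity
  refine le_trans ?_ (Finset.card_le_card (s := ({2, p1, p2, p3} : Finset ℕ)) ?_)
  · rw [Finset.card_insert_of_notMem (by simp [h21, h22, h23]),
      Finset.card_insert_of_notMem (by simp [h12, h13]), Finset.card_pair h23']
  · intro x hx
    simp only [Finset.mem_insert, Finset.mem_singleton] at hx
    refine Nat.mem_primeFactors.2 ?_
    rcases hx with rfl | rfl | rfl | rfl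
    · exact ⟨Nat.prime_two, (((Nat.dvd_of_mod_eq_zero hqe).trans (dvd_pow_self q two_ne_zero)).mul_right
        _).mul_right _, hne⟩
    · exact ⟨hp1, ((hab ▸ hd1.mul_right b : x ∣ q ^ 2 + 1).mul_left _).mul_right _, hne⟩
    · exact ⟨hp2, ((hab ▸ hd2.mul_left a : x ∣ q ^ 2 + 1).mul_left _).mul_right _, hne⟩
    · exact ⟨hp3, hd3.mul_left _, hne⟩

/-- A group of order prime to three with at most three prime divisors, all of whose elements have
2-power or prime order, has at most two prime divisors. -/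
theorem card_primeFactors_le_two_of_not_three (n : ℕ) :
    ∀ (G : Type u) [Group G] [Finite G], Nat.card G = n → Hyp G → ¬ 3 ∣ Nat.card G →
      (Nat.card G).primeFactors.card ≤ 3 → (Nat.card G).primeFactors.card ≤ 2 := by
  induction n using Nat.strong_induction_on with
  | _ n ih =>
  intro G _ _ hn h hno3 hle
  by_contra hgt
  have h3 : 3 ≤ (Nat.card G).primeFactors.card := by omega
  haveI hnt : Nontrivial G := by
    rw [← not_subsingleton_iff_nontrivial]
    intro hs
    rw [Nat.card_unique] at h3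
    simp at h3
  have hrec : ∀ {X : Type u} [Group X] [Finite X], Nat.card X < n → Nat.card X ∣ Nat.card G → Hyp X →
      (Nat.card X).primeFactors.card ≤ 2 := fun hX hd hXh =>
    ih _ hX _ rfl hXh (fun e => hno3 (e.trans hd))
      ((Finset.card_le_card (Nat.primeFactors_mono hd Nat.card_pos.ne')).trans hle)
  have hlt : ∀ H : Subgroup G, H ≠ ⊤ → Nat.card H < n := by
    intro H hH
    rw [← hn]
    exact lt_of_le_of_ne (Nat.le_of_dvd Nat.card_pos H.card_subgroup_dvd_card)
      fun e => hH (H.eq_top_of_card_eq e)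
  by_cases hs : IsSimpleGroup G
  · haveI := hs
    have htwo : ∀ U : Subgroup G, IsPGroup 2 U → U ≠ ⊥ →
        (Nat.card (normalizer (U : Set G))).primeFactors.card ≤ 2 := by
      intro U hU hUne
      by_cases htop : normalizer (U : Set G) = ⊤
      · haveI : U.Normal := Subgroup.normalizer_eq_top_iff.1 htop
        rcases Subgroup.Normal.eq_bot_or_eq_top (inferInstance : U.Normal) with e | e
        · exact absurd e hUne
        · obtain ⟨k, hk⟩ := hU.exists_card_eq
          rw [e, Subgroup.card_top] at hk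
          rw [hk] at h3
          rcases Nat.eq_zero_or_pos k with rfl | hk0
          · simp at h3
          · rw [Nat.primeFactors_prime_pow hk0.ne' Nat.prime_two, Finset.card_singleton] at h3
            omega
      · exact hrec (hlt _ htop) (Subgroup.card_subgroup_dvd_card _) (h.subgroup _)
    have heven := h.even_card h3
    have S : Setting G := ⟨h, hs, h3, heven, htwo⟩
    by_cases hsc : SmallCase G
    · obtain ⟨F, _, _, hodd, ⟨e⟩⟩ := SmallCase.exists_psl S hsc
      have hc := PSL2.card_psl (F := F)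
      rw [← Nat.card_congr e.toEquiv] at hc
      rcases (Nat.Prime.dvd_mul Nat.prime_three).1
        (hc ▸ three_dvd_prod (Fintype.card F)) with hd | hd
      · have := Nat.le_of_dvd (by norm_num) (hd.trans (Nat.gcd_dvd_left 2 _))
        omega
      · exact hno3 hd
    · obtain ⟨M, T, p, c⟩ := exists_cfg S hsc
      rcases c.cases h3 heven with ⟨F, _, _, _, ⟨e⟩⟩ | hsz
      · classical
        exact hno3 (by
          rw [Nat.card_congr e.toEquiv, StrongEmbedding.PSLTwo.card_sl_two]; exact three_dvd_prod _)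
      · have := four_le_of_isSuzuki hsz
        omega
  obtain ⟨N, hN, hNne, hNtop⟩ : ∃ N : Subgroup G, N.Normal ∧ N ≠ ⊥ ∧ N ≠ ⊤ := by
    by_contra! hall
    exact hs ⟨fun H hH => or_iff_not_imp_left.2 (hall H hH)⟩
  haveI := hN
  haveI : Group.IsSolvable N := isSolvable_of_le_two
    (hrec (hlt N hNtop) N.card_subgroup_dvd_card (h.subgroup N))
  haveI : Group.IsSolvable (G ⧸ N) := isSolvable_of_le_two
    (hrec (by rw [← hn, Subgroup.card_eq_card_quotient_mul_card_subgroup N]
              exact lt_mul_of_one_lt_right Nat.card_pos ((Subgroup.one_lt_card_iff_ne_bot N).2 hNne))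
      N.card_quotient_dvd_card (h.of_surjective _ (QuotientGroup.mk'_surjective N)))
  exact h.not_solvable h3 (Group.isSolvable_of_ker_le_range N.subtype (QuotientGroup.mk' N)
    (by rw [QuotientGroup.ker_mk', Subgroup.range_subtype]))

end CfsgLib.EPPO21
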