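import Cfsg.Agent.Lib.EPPO21.Config
import Cfsg.Agent.Lib.EPPO21.Torus
import Cfsg.Agent.S2202
import Cfsg.Agent.S0347

/-!
# The trivial-intersection configuration is impossible

The Hecke algebra criterion shows that the two-point stabiliser is self-centralising, so the action
on the cosets of `M` is that of a Zassenhaus group; abelian `T` leads to `SL(2, 2^n)` and nonabelian
`T` to the order of a Suzuki group, which is divisible by 5.
-/

set_option autoImplicit false
set_option linter.style.haveILetI false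

namespace CfsgLib.EPPO21

open Subgroup

variable {G : Type*} [Group G] [Finite G] {M T : Subgroup G} {p : ℕ}

theorem Cfg.odd_order (c : Cfg M T p) {σ : G} (hσ : σ ∉ M) {d : G} (hd : d ∈ M ⊓ cj σ M)
    (hd1 : d ≠ 1) : orderOf d = p := by
  have h1 : orderOf d ∣ p := by
    rw [← c.inter σ hσ, ← Subgroup.orderOf_mk d hd]; exact orderOf_dvd_natCard _
  exact ((Nat.dvd_prime c.hp).1 h1).resolve_left fun e => hd1 (orderOf_eq_one_iff.1 e)

theorem Cfg.inter_eq_zpowers (c : Cfg M T p) {σ : G} (hσ : σ ∉ M) {d : G} (hd : d ∈ M ⊓ cj σ M)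
    (hd1 : d ≠ 1) : M ⊓ cj σ M = zpowers d :=
  (Subgroup.eq_of_le_of_card_ge (zpowers_le.2 hd)
    (by rw [c.inter σ hσ, Nat.card_zpowers, c.odd_order hσ hd hd1])).symm

theorem Cfg.conj_to (c : Cfg M T p) {D₁ D₂ : Subgroup G} (h₁ : D₁ ≤ M) (h₂ : D₂ ≤ M)
    (hc₁ : Nat.card D₁ = p) (hc₂ : Nat.card D₂ = p) : ∃ m ∈ M, cj m D₁ = D₂ := by
  haveI : Fact p.Prime := ⟨c.hp⟩
  haveI : Fact (Nat.Prime 2) := ⟨Nat.prime_two⟩
  have key : ∀ D : Subgroup G, D ≤ M → Nat.card D = p →
      ∃ P : Sylow p M, (P : Subgroup M) = D.subgroupOf M := by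
    intro D hD hDc
    have hc : Nat.card (D.subgroupOf M) = p := by
      rw [Nat.card_congr (Subgroup.subgroupOfEquivOfLe hD).toEquiv, hDc]
    have hp' : IsPGroup p (D.subgroupOf M) := IsPGroup.of_card (n := 1) (by rw [hc, pow_one])
    obtain ⟨P, hP⟩ := hp'.exists_le_sylow
    refine ⟨P, (Subgroup.eq_of_le_of_card_ge hP ?_).symm⟩
    rw [hc]
    obtain ⟨i, hi⟩ := P.2.exists_card_eq
    rw [hi]
    have hdvd : p ^ i ∣ Nat.card T * p := c.hcard ▸ hi ▸ Subgroup.card_subgroup_dvd_card _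
    obtain ⟨n, hn⟩ := c.hT.exists_card_eq
    rcases Nat.lt_or_ge i 2 with hlt | hge
    · calc p ^ i ≤ p ^ 1 := Nat.pow_le_pow_right c.hp.pos (by omega)
        _ = p := pow_one p
    · exfalso
      have h2 : p * p ∣ Nat.card T * p := by
        refine dvd_trans ?_ hdvd
        rw [← pow_two]; exact pow_dvd_pow p hge
      have h3 := Nat.dvd_of_mul_dvd_mul_right c.hp.pos h2
      rw [hn] at h3
      exact c.hodd ((Nat.prime_dvd_prime_iff_eq c.hp Nat.prime_two).1 (c.hp.dvd_of_dvd_pow h3))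
  obtain ⟨P₁, hP₁⟩ := key D₁ h₁ hc₁
  obtain ⟨P₂, hP₂⟩ := key D₂ h₂ hc₂
  obtain ⟨m, hm⟩ := MulAction.exists_smul_eq M P₁ P₂
  refine ⟨m, m.2, Subgroup.eq_of_le_of_card_ge ?_ ?_⟩
  · rintro _ ⟨a, ha, rfl⟩
    have hmem : MulAut.conj m • (⟨a, h₁ ha⟩ : M) ∈ ((m • P₁ : Sylow p M) : Subgroup M) := by
      rw [Sylow.coe_subgroup_smul]
      refine Subgroup.smul_mem_pointwise_smul _ _ _ ?_
      rw [hP₁]; exact ha
    rw [hm, hP₂] at hmem
    exact hmem
  · rw [cj, Subgroup.card_map_of_injective (MulAut.conj (m : G)).injective, hc₁, hc₂]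

theorem Cfg.exists_char (c : Cfg M T p) :
    ∃ χ : M →* ℂˣ, (∀ m : M, (m : G) ∈ T → χ m = 1) ∧
      ∀ d : M, Odd (orderOf (d : G)) → d ≠ 1 → (χ d : ℂ) ^ 2 ≠ 1 := by
  haveI : Fact p.Prime := ⟨c.hp⟩
  haveI : NeZero p := ⟨c.hp.ne_zero⟩
  haveI : (T.subgroupOf M).Normal := normal_subgroupOf_of_le_normalizer c.hMTn
  have hq : Nat.card (M ⧸ T.subgroupOf M) = p := by
    have h := Subgroup.card_mul_index (T.subgroupOf M)
    rw [Nat.card_congr (Subgroup.subgroupOfEquivOfLe c.hTM).toEquiv, c.hcard] at h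
    exact Nat.eq_of_mul_eq_mul_left Nat.card_pos h
  haveI : IsCyclic (M ⧸ T.subgroupOf M) := isCyclic_of_prime_card hq
  haveI : IsCyclic (rootsOfUnity p ℂ) := inferInstance
  let e : (M ⧸ T.subgroupOf M) ≃* rootsOfUnity p ℂ :=
    mulEquivOfCyclicCardEq (by rw [hq, Complex.card_rootsOfUnity])
  let χ : M →* ℂˣ := (rootsOfUnity p ℂ).subtype.comp (e.toMonoidHom.comp (QuotientGroup.mk' _))
  have hker : ∀ m : M, χ m = 1 ↔ (m : G) ∈ T := by
    intro m
    constructor
    · intro h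
      have h1 : e (QuotientGroup.mk m) = 1 := Subtype.ext h
      rw [MulEquiv.map_eq_one_iff, QuotientGroup.eq_one_iff] at h1
      exact h1
    · intro h
      have h1 : (QuotientGroup.mk m : M ⧸ T.subgroupOf M) = 1 := (QuotientGroup.eq_one_iff m).2 h
      simp [χ, h1]
  refine ⟨χ, fun m hm => (hker m).2 hm, fun d hd hd1 hsq => ?_⟩
  have h1 : χ (d ^ 2) = 1 := Units.ext (by simpa using hsq)
  obtain ⟨k, hk⟩ := mem_pGroup_pow c.hT ((hker _).1 h1)
  refine hd1 (Subtype.ext ?_)
  rcases c.hyp.odd_of_commute (Commute.refl (d : G)) hd (k := k + 1)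
    (by rw [pow_succ', pow_mul]; simpa using hk) with e1 | e1 <;> exact e1

/-- The two-point stabiliser is self-centralising. -/
theorem Cfg.mem_inter_of_commute (c : Cfg M T p) {σ : G} (hσ : σ ∉ M) {d : G} (hd : d ∈ M ⊓ cj σ M)
    (hd1 : d ≠ 1) {g : G} (hg : Commute g d) : g ∈ M ⊓ cj σ M := by
  haveI : Fact p.Prime := ⟨c.hp⟩
  haveI := Fintype.ofFinite G
  haveI := Fintype.ofFinite M
  have hdo := c.odd_order hσ hd hd1
  have hdodd : Odd (orderOf d) := hdo ▸ c.hp.odd_of_ne_two c.hodd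
  obtain ⟨t, ht, hto⟩ := exists_involution c.hT c.hne
  have htM := c.hTM ht
  have htiff : ∀ g : G, g⁻¹ * t * g ∈ M ↔ g ∈ M := fun g =>
    ⟨fun h => by
      have := c.se_mem t htM hto g⁻¹ (by rwa [inv_inv])
      simpa using M.inv_mem this, fun h => M.mul_mem (M.mul_mem (M.inv_mem h) htM) h⟩
  obtain ⟨χ, hχT, hχne⟩ := c.exists_char
  have hgM : g ∈ M := by
    by_contra hgM
    obtain ⟨h, hh, hh', hne⟩ := Hecke.exists_not_commute (H := M) (χ := χ) (orderOf_two_sq hto) htiff
      (fun g hg => hχT _ (c.two_mem _ hg ⟨1, by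
        rw [pow_one, pow_two, show g⁻¹ * t * g * (g⁻¹ * t * g) = g⁻¹ * (t * t) * g by group,
          orderOf_two_sq hto]
        group⟩))
      (fun i hi hi2 hi1 => by
        have hio : orderOf i = 2 := orderOf_two_of_sq hi2 hi1
        obtain ⟨d', hd', hd'1⟩ := (M ⊓ cj i M).bot_or_exists_ne_one.resolve_left fun e => by
          have h := c.inter i hi
          rw [e, Subgroup.card_bot] at h
          exact c.hp.ne_one h.symm
        exact ⟨⟨d', hd'.1⟩, c.inv i hi hio d' hd', hχne _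
          (c.odd_order hi hd' hd'1 ▸ c.hp.odd_of_ne_two c.hodd) fun e => hd'1 (congrArg Subtype.val e)⟩)
      hgM
    have hdg : d ∈ M ⊓ cj g M := ⟨hd.1, mem_cj.2 (by
      rw [mul_assoc, ← hg.eq, inv_mul_cancel_left]; exact hd.1)⟩
    have hhg : h ∈ M ⊓ cj g M := ⟨hh, mem_cj.2 hh'⟩
    rw [c.inter_eq_zpowers hgM hdg hd1] at hhg
    obtain ⟨l, rfl⟩ := mem_zpowers_iff.1 hhg
    refine hne ?_
    rw [mul_assoc, ← (hg.zpow_right l).eq, inv_mul_cancel_left]
  set C := M ⊓ centralizer ({d} : Set G) with hC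
  have hgC : g ∈ C := ⟨hgM, mem_centralizer_singleton_iff.2 hg.eq⟩
  have hexp : ∀ a ∈ C, a ≠ 1 → orderOf a = p := by
    intro a ha ha1
    by_contra hne
    have hcom : Commute a d := mem_centralizer_singleton_iff.1 ha.2
    rcases c.hyp a ha1 with ⟨k, hk⟩ | hr
    · rcases c.hyp.odd_of_commute hcom.symm hdodd (hk ▸ pow_orderOf_eq_one a) with e | e
      · exact hd1 e
      · exact ha1 e
    · rcases c.hyp.eq_one_of_commute hcom (by
        rw [hdo]; exact (Nat.coprime_primes hr c.hp).2 hne) with e | e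
      · exact ha1 e
      · exact hd1 e
  have hCcard : Nat.card C = p := card_eq_prime_of_exponent c.hyp c.hT c.hne c.hodd
    (fun e => hd1 (Subgroup.mem_bot.1 (e ▸ (show d ∈ C from ⟨hd.1, mem_centralizer_singleton_iff.2 rfl⟩))))
    hexp (inf_le_left.trans c.hMTn)
  have hdC : d ∈ C := ⟨hd.1, mem_centralizer_singleton_iff.2 rfl⟩
  have hCd : C = zpowers d :=
    (Subgroup.eq_of_le_of_card_ge (zpowers_le.2 hdC)
      (by rw [hCcard, Nat.card_zpowers, hdo])).symm
  rw [c.inter_eq_zpowers hσ hd hd1, ← hCd]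
  exact hgC

/-- All points other than the base point are in one orbit of `M`. -/
theorem Cfg.mem_orbit (c : Cfg M T p) {u : G} (hu : orderOf u = 2) (huM : u ∉ M) {σ : G} (hσ : σ ∉ M) :
    ∃ m ∈ M, (m * u)⁻¹ * σ ∈ M ∧
      (M ⊓ cj u M = M ⊓ cj σ M → (u⁻¹ * σ) ∈ M) := by
  classical
  haveI : Fact p.Prime := ⟨c.hp⟩
  set D := M ⊓ cj u M with hD
  -- elements normalising `D` and moving the base point
  have key : ∀ n : G, n ∉ M → cj n D = D → u⁻¹ * n ∈ M := by
    intro n hn hnD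
    obtain ⟨d, hd, hd1⟩ := D.bot_or_exists_ne_one.resolve_left fun e => by
      have h := c.inter u huM
      rw [← hD, e, Subgroup.card_bot] at h
      exact c.hp.ne_one h.symm
    have hdo := c.odd_order huM hd hd1
    have hDz := c.inter_eq_zpowers huM hd hd1
    have hmem : n * d * n⁻¹ ∈ zpowers d := by
      rw [← hDz, ← hD, ← hnD]; exact ⟨d, hd, rfl⟩
    obtain ⟨l, hl, he⟩ := Finset.mem_image.1 (mem_zpowers_iff_mem_range_orderOf.1 hmem)
    have hpow : ∀ k : ℕ, n ^ k * d * (n ^ k)⁻¹ = d ^ (l ^ k) := by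
      intro k
      induction k with
      | zero => simp
      | succ k ih =>
        rw [show n ^ (k + 1) * d * (n ^ (k + 1))⁻¹ = n * (n ^ k * d * (n ^ k)⁻¹) * n⁻¹ by
          rw [pow_succ']; group, ih, ← conj_pow, ← he, ← pow_mul, pow_succ']
    have hn1 : n ≠ 1 := fun e => hn (e ▸ M.one_mem)
    have hnotcomm : ¬ Commute n d := fun hc => hn (c.mem_inter_of_commute huM hd hd1 hc).1
    have hcast : ∀ k : ℕ, n ^ k = 1 → ((l : ZMod p)) ^ k = 1 := by
      intro k hk
      have h1 : d ^ 1 = d ^ (l ^ k) := by rw [pow_one, ← hpow, hk]; simp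
      rw [pow_eq_pow_iff_modEq, hdo, ← ZMod.natCast_eq_natCast_iff] at h1
      push_cast at h1
      exact h1.symm
    have hl1 : (l : ZMod p) ≠ 1 := by
      intro e
      refine hnotcomm (mul_inv_eq_iff_eq_mul.1 ?_)
      rw [← he]
      conv_rhs => rw [← pow_one d]
      rw [pow_eq_pow_iff_modEq, hdo, ← ZMod.natCast_eq_natCast_iff]
      simpa using e
    have hu1 : u * d * u = d⁻¹ := c.inv u huM hu d hd
    have huu := orderOf_two_sq hu
    have hui : u⁻¹ = u := inv_eq_of_mul_eq_one_right huu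
    -- `n * u` induces `-l`
    have hnu : n * u * d * (n * u)⁻¹ = (d ^ l)⁻¹ := by
      calc n * u * d * (n * u)⁻¹ = n * (u * d * u) * n⁻¹ := by rw [mul_inv_rev, hui]; group
        _ = (n * d * n⁻¹)⁻¹ := by rw [hu1]; group
        _ = (d ^ l)⁻¹ := by rw [he]
    have hpow' : ∀ k : ℕ, (n * u) ^ k * d * ((n * u) ^ k)⁻¹ = d ^ ((-(l : ℤ)) ^ k) := by
      intro k
      induction k with
      | zero => simp
      | succ k ih =>
        rw [show (n * u) ^ (k + 1) * d * ((n * u) ^ (k + 1))⁻¹ =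
          n * u * ((n * u) ^ k * d * ((n * u) ^ k)⁻¹) * (n * u)⁻¹ by
            rw [pow_succ', mul_inv_rev]; simp only [mul_assoc], ih,
          ← conj_zpow, hnu, ← zpow_natCast d l, ← zpow_neg, ← zpow_mul, pow_succ']
    have hcast' : ∀ k : ℕ, (n * u) ^ k = 1 → (-(l : ZMod p)) ^ k = 1 := by
      intro k hk
      have h1 : d ^ (1 : ℤ) = d ^ ((-(l : ℤ)) ^ k) := by rw [zpow_one, ← hpow', hk]; simp
      rw [zpow_eq_zpow_iff_modEq, hdo, ← ZMod.intCast_eq_intCast_iff] at h1
      push_cast at h1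
      exact h1.symm
    obtain ⟨k, hk'⟩ : ∃ k : ℕ, (l : ZMod p) ^ 2 ^ k = 1 := by
      rcases c.hyp n hn1 with ⟨k, hk⟩ | hr
      · exact ⟨k, hcast (2 ^ k) (hk ▸ pow_orderOf_eq_one n)⟩
      have hk := hcast _ (pow_orderOf_eq_one n)
      rcases hr.eq_two_or_odd' with h2 | hodd
      · exact ⟨1, by rw [h2] at hk; simpa using hk⟩
      have hnu1 : n * u ≠ 1 := fun e => by
        rw [eq_inv_of_mul_eq_one_left e, hui, hu] at hodd
        exact absurd hodd (by decide)
      rcases c.hyp _ hnu1 with ⟨k, hk2⟩ | hr'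
      · have h1 := hcast' (2 ^ k) (hk2 ▸ pow_orderOf_eq_one _)
        rcases Nat.eq_zero_or_pos k with rfl | hk0
        · exfalso
          rw [pow_zero, orderOf_eq_one_iff] at hk2
          exact hnu1 hk2
        · rw [(Nat.even_pow.2 ⟨even_two, hk0.ne'⟩).neg_pow] at h1
          exact ⟨k, h1⟩
      · have h1 := hcast' _ (pow_orderOf_eq_one (n * u))
        rcases hr'.eq_two_or_odd' with h2 | hodd'
        · rw [h2, neg_sq] at h1
          exact ⟨1, by simpa using h1⟩
        · exfalso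
          rw [hodd'.neg_pow] at h1
          have e1 := congrArg (fun a : ZMod p => a ^ orderOf n) h1
          simp only [one_pow, hodd.neg_pow] at e1
          rw [← pow_mul, mul_comm, pow_mul, hk, one_pow] at e1
          haveI : Fact (2 < p) := ⟨by have := c.hp4; have := c.hp.two_le; omega⟩
          exact ZMod.neg_one_ne_one e1
    have hlne : (l : ZMod p) ≠ 0 := fun e => by
      rw [e, zero_pow (by positivity)] at hk'; exact zero_ne_one hk'
    have hd' : orderOf (l : ZMod p) ∣ Nat.gcd (2 ^ k) (p - 1) :=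
      Nat.dvd_gcd (orderOf_dvd_of_pow_eq_one hk')
        (orderOf_dvd_of_pow_eq_one (ZMod.pow_card_sub_one_eq_one hlne))
    obtain ⟨i, -, hi⟩ := (Nat.dvd_prime_pow Nat.prime_two).1 (Nat.gcd_dvd_left (2 ^ k) (p - 1))
    have hi1 : i ≤ 1 := by
      by_contra hlt
      have h4 : 2 ^ 2 ∣ p - 1 :=
        (pow_dvd_pow 2 (by omega : 2 ≤ i)).trans (hi ▸ Nat.gcd_dvd_right (2 ^ k) (p - 1))
      have := c.hp4
      omega
    have hl2 : (l : ZMod p) * l = 1 := by
      rw [← pow_two]
      exact orderOf_dvd_iff_pow_eq_one.1 (hd'.trans (hi ▸ (pow_dvd_pow 2 hi1).trans (by norm_num)))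
    have hneg : (l : ZMod p) = -1 := (mul_self_eq_one_iff.1 hl2).resolve_left hl1
    have hninv : n * d * n⁻¹ = d⁻¹ := by
      rw [← he, eq_inv_iff_mul_eq_one, ← pow_succ, ← orderOf_dvd_iff_pow_eq_one, hdo,
        ← ZMod.natCast_eq_zero_iff]
      push_cast
      rw [hneg, neg_add_cancel]
    have hcomm : Commute (u⁻¹ * n) d := by
      refine mul_inv_eq_iff_eq_mul.1 ?_
      calc u⁻¹ * n * d * (u⁻¹ * n)⁻¹ = u⁻¹ * (n * d * n⁻¹) * u := by group
        _ = u * d⁻¹ * u := by rw [hninv, hui]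
        _ = (u⁻¹ * d * u⁻¹)⁻¹ := by group
        _ = d := by rw [hui, hu1, inv_inv]
    exact (c.mem_inter_of_commute huM hd hd1 hcomm).1
  have hσD : Nat.card (M ⊓ cj σ M : Subgroup G) = p := c.inter σ hσ
  obtain ⟨m, hm, hmD⟩ := c.conj_to inf_le_left inf_le_left hσD (c.inter u huM)
  have main : ∀ τ : G, τ ∉ M → M ⊓ cj τ M = D → u⁻¹ * τ ∈ M := by
    intro τ hτ hτD
    have h1 : cj τ⁻¹ D ≤ M := by
      rintro _ ⟨a, ha, rfl⟩
      have := mem_cj.1 ((hτD ▸ ha : a ∈ M ⊓ cj τ M).2)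
      simpa using this
    obtain ⟨k, hk, hkD⟩ := c.conj_to h1 (inf_le_left : D ≤ M)
      (by rw [cj, Subgroup.card_map_of_injective (MulAut.conj τ⁻¹).injective, c.inter u huM])
      (c.inter u huM)
    rw [cj_cj] at hkD
    have h2 : τ * k⁻¹ ∉ M := fun h => hτ (by simpa using M.mul_mem h hk)
    have h3 : cj (τ * k⁻¹) D = D := by
      have h4 := congrArg (cj (τ * k⁻¹)) hkD
      rw [cj_cj, show τ * k⁻¹ * (k * τ⁻¹) = 1 by group, cj_one] at h4
      exact h4.symm
    have := M.mul_mem (key _ h2 h3) hk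
    rwa [show u⁻¹ * (τ * k⁻¹) * k = u⁻¹ * τ by group] at this
  refine ⟨m⁻¹, M.inv_mem hm, ?_, fun e => main σ hσ e.symm⟩
  have h1 : m * σ ∉ M := fun h => hσ (by simpa using M.mul_mem (M.inv_mem hm) h)
  have h2 : M ⊓ cj (m * σ) M = D := by
    rw [show D = cj m (M ⊓ cj σ M) from hmD.symm, cj, cj, Subgroup.map_inf _ _ _ (MulAut.conj m).injective]
    congr 1
    · exact (cj_eq_of_mem hm).symm
    · exact (cj_cj m σ M).symm
  rw [show (m⁻¹ * u)⁻¹ * σ = u⁻¹ * (m * σ) by group]
  exact main _ h1 h2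

theorem Cfg.cases (c : Cfg M T p) [IsSimpleGroup G] (h3 : 3 ≤ (Nat.card G).primeFactors.card)
    (heven : Even (Nat.card G)) :
    (∃ (F : Type) (_ : Field F) (_ : Fintype F) (_ : CharP F 2),
      Nonempty (G ≃* Matrix.SpecialLinearGroup (Fin 2) F)) ∨ Cfsg.IsSuzuki G := by
  classical
  haveI : Fact p.Prime := ⟨c.hp⟩
  haveI : Fact (Nat.Prime 2) := ⟨Nat.prime_two⟩
  obtain ⟨u, hu, huM⟩ := c.hu
  obtain ⟨z, hzT, hzo⟩ := exists_involution c.hT c.hne
  have hzM := c.hTM hzT
  obtain ⟨d, hd, hd1⟩ := (M ⊓ cj u M).bot_or_exists_ne_one.resolve_left fun e => by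
    have h := c.inter u huM
    rw [e, Subgroup.card_bot] at h
    exact c.hp.ne_one h.symm
  have hdodd : Odd (orderOf d) := c.odd_order huM hd hd1 ▸ c.hp.odd_of_ne_two c.hodd
  have hdz : d * z * d⁻¹ ≠ z := fun e => by
    have hmem : d ∈ centralizer ({z} : Set G) :=
      mem_centralizer_singleton_iff.2 (mul_inv_eq_iff_eq_mul.1 e)
    rw [c.cent z hzM hzo] at hmem
    exact hd1 (isPGroup_two_odd_order c.hT hmem hdodd)
  by_cases hab : IsMulCommutative T
  · have hall : ∀ a b : G, orderOf a = 2 → orderOf b = 2 → IsConj a b :=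
      (Cfsg.Agent.S1225.result M c.hse u hu huM z z hzo hzM hzo hzM).2
    have hcomm : ∀ t : G, orderOf t = 2 → IsMulCommutative (centralizer ({t} : Set G)) := by
      intro t ht
      obtain ⟨g, hg⟩ := isConj_iff.1 (hall z t hzo ht)
      refine ⟨⟨fun a b => ?_⟩⟩
      have key : ∀ a : centralizer ({t} : Set G), g⁻¹ * (a : G) * g ∈ T := by
        intro a
        rw [← c.cent z hzM hzo]
        refine mem_centralizer_singleton_iff.2 ?_
        have ha : (a : G) * t = t * a := mem_centralizer_singleton_iff.1 a.2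
        have ha' : (a : G) * (g * z * g⁻¹) = g * z * g⁻¹ * a := by rw [hg]; exact ha
        calc g⁻¹ * (a : G) * g * z = g⁻¹ * ((a : G) * (g * z * g⁻¹)) * g := by group
          _ = g⁻¹ * (g * z * g⁻¹ * a) * g := by rw [ha']
          _ = z * (g⁻¹ * a * g) := by group
      have := congrArg (fun x : T => g * (x : G) * g⁻¹) (hab.is_comm.comm ⟨_, key a⟩ ⟨_, key b⟩)
      refine Subtype.ext ?_
      simpa [mul_assoc] using this
    rcases Cfsg.Agent.S2202.result heven hcomm with hcyc | hnorm | ⟨F, _, _, A, _, _, hch, hA, ⟨e⟩⟩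
    · exfalso
      obtain ⟨S, hS⟩ := c.hT.exists_le_sylow
      haveI := hcyc S
      haveI : IsCyclic T := by
        have := c.hTsyl S S.2 hS
        rw [← this]; infer_instance
      -- two involutions in a cyclic group are equal
      haveI := Fintype.ofFinite T
      have hmemT := conj_mem_of_normalizer (c.hMTn hd.1) hzT
      have h2 : 2 ∣ Fintype.card T := by
        rw [← Nat.card_eq_fintype_card, ← hzo, ← Subgroup.orderOf_mk z hzT]
        exact orderOf_dvd_natCard _
      have hcard := (IsCyclic.card_orderOf_eq_totient (α := T) h2).trans Nat.totient_two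
      have := Finset.card_le_one.1 hcard.le (⟨z, hzT⟩ : T) (by simp [hzo]) ⟨_, hmemT⟩
        (by simp [orderOf_conj_eq', hzo])
      exact hdz (congrArg Subtype.val this).symm
    · exfalso
      obtain ⟨S⟩ := (inferInstance : Nonempty (Sylow 2 G))
      rcases (hnorm S).eq_bot_or_eq_top with e | e
      · exact S.ne_bot_of_dvd_card (even_iff_two_dvd.1 heven) e
      · have hGp : IsPGroup 2 G := (e ▸ S.2 : IsPGroup 2 (⊤ : Subgroup G)).of_equiv Subgroup.topEquiv
        obtain ⟨n, hn⟩ := hGp.exists_card_eq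
        have hsub : (Nat.card G).primeFactors.card ≤ 1 := by
          rw [hn]
          rcases Nat.eq_zero_or_pos n with rfl | hn0
          · simp
          · rw [Nat.primeFactors_prime_pow hn0.ne' Nat.prime_two]; simp
        omega
    · have hG : Nonempty (G ≃* Matrix.SpecialLinearGroup (Fin 2) F) := by
        let π : G →* A := (MonoidHom.snd _ A).comp e.toMonoidHom
        rcases π.normal_ker.eq_bot_or_eq_top with hk | hk
        · exfalso
          have hd' := Subgroup.card_dvd_of_injective π ((MonoidHom.ker_eq_bot_iff π).1 hk)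
          exact (Nat.not_even_iff_odd.2 (hA.of_dvd_nat hd')) heven
        · refine ⟨MulEquiv.ofBijective ((MonoidHom.fst _ A).comp e.toMonoidHom) ⟨fun a b h => ?_, fun s => ?_⟩⟩
          · refine e.injective (Prod.ext h ?_)
            have ha : π a = 1 := MonoidHom.mem_ker.1 (hk ▸ mem_top a)
            have hb : π b = 1 := MonoidHom.mem_ker.1 (hk ▸ mem_top b)
            exact ha.trans hb.symm
          · exact ⟨e.symm (s, 1), by simp⟩
      exact Or.inl ⟨F, inferInstance, inferInstance, hch, hG⟩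
  · -- the action on the cosets of `M`
    have hna : ∃ a b : T, a * b ≠ b * a := by
      by_contra! h
      exact hab ⟨⟨h⟩⟩
    set o : G ⧸ M := ((1 : G) : G ⧸ M) with ho
    have hstab : ∀ g : G, g • o = o ↔ g ∈ M := by
      intro g
      rw [ho, MulAction.Quotient.smul_coe, smul_eq_mul, mul_one, QuotientGroup.eq]
      simp
    have horb : ∀ y : G ⧸ M, y ≠ o → ∃ m ∈ M, m • ((u : G) : G ⧸ M) = y := by
      intro y hy
      induction y using QuotientGroup.induction_on with
      | H σ =>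
        have hσ : σ ∉ M := fun h => hy (by rw [ho, QuotientGroup.eq]; simpa using h)
        obtain ⟨m, hm, hmu, -⟩ := c.mem_orbit hu huM hσ
        exact ⟨m, hm, by rw [MulAction.Quotient.smul_coe, smul_eq_mul, QuotientGroup.eq]; exact hmu⟩
    have huo : ((u : G) : G ⧸ M) ≠ o := fun e => huM (by
      rw [ho, QuotientGroup.eq] at e
      simpa using M.inv_mem e)
    have hreach : ∀ a b : G ⧸ M, a ≠ b → ∃ g : G, g • o = a ∧ g • ((u : G) : G ⧸ M) = b := by
      intro a b hab
      obtain ⟨g, hg⟩ := MulAction.exists_smul_eq G o a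
      obtain ⟨m, hm, hm'⟩ := horb (g⁻¹ • b) (fun e => hab (by rw [← hg, ← e, smul_inv_smul]))
      exact ⟨g * m, by rw [mul_smul, (hstab m).2 hm, hg], by rw [mul_smul, hm', smul_inv_smul]⟩
    have hfix2 : ∀ g : G, g • o = o → g • ((u : G) : G ⧸ M) = ((u : G) : G ⧸ M) → g ∈ M ⊓ cj u M := by
      intro g h1 h2
      refine ⟨(hstab g).1 h1, mem_cj.2 ?_⟩
      rw [MulAction.Quotient.smul_coe, smul_eq_mul, QuotientGroup.eq] at h2
      simpa [mul_assoc] using M.inv_mem h2
    have hdfix : d • o = o ∧ d • ((u : G) : G ⧸ M) = ((u : G) : G ⧸ M) := by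
      refine ⟨(hstab d).2 hd.1, ?_⟩
      rw [MulAction.Quotient.smul_coe, smul_eq_mul, QuotientGroup.eq]
      simpa [mul_assoc] using M.inv_mem (mem_cj.1 hd.2)
    have hthree : ∀ g : G, ∀ a b x : G ⧸ M, a ≠ b → b ≠ x → a ≠ x → g • a = a → g • b = b →
        g • x = x → g = 1 := by
      intro g a b x hab hbx hax ha hb hx
      obtain ⟨k, hk1, hk2⟩ := hreach a b hab
      set g' := k⁻¹ * g * k with hg'
      have e1 : g' • o = o := by rw [hg', mul_smul, mul_smul, hk1, ha, ← hk1, inv_smul_smul]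
      have e2 : g' • ((u : G) : G ⧸ M) = ((u : G) : G ⧸ M) := by
        rw [hg', mul_smul, mul_smul, hk2, hb, ← hk2, inv_smul_smul]
      have e3 : g' • (k⁻¹ • x) = k⁻¹ • x := by rw [hg', mul_smul, mul_smul, smul_inv_smul, hx]
      by_contra hg1
      have hg'1 : g' ≠ 1 := fun e => hg1 (by
        rw [hg'] at e
        calc g = k * (k⁻¹ * g * k) * k⁻¹ := by group
          _ = 1 := by rw [e]; group)
      have hg'D := hfix2 g' e1 e2
      have hxo : k⁻¹ • x ≠ o := fun e => hax (by rw [← hk1, ← e, smul_inv_smul])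
      have hxu : k⁻¹ • x ≠ ((u : G) : G ⧸ M) := fun e => hbx (by rw [← hk2, ← e, smul_inv_smul])
      revert e3 hxo hxu
      induction (k⁻¹ • x) using QuotientGroup.induction_on with
      | H σ =>
        intro e3 hxo hxu
        have hσ : σ ∉ M := fun h => hxo (by rw [ho, QuotientGroup.eq]; simpa using h)
        obtain ⟨-, -, -, himp⟩ := c.mem_orbit hu huM hσ
        refine hxu ?_
        rw [eq_comm, QuotientGroup.eq]
        refine himp ?_
        have hmem : g' ∈ M ⊓ cj σ M := by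
          refine ⟨hg'D.1, mem_cj.2 ?_⟩
          rw [MulAction.Quotient.smul_coe, smul_eq_mul, QuotientGroup.eq] at e3
          simpa [mul_assoc] using M.inv_mem e3
        rw [c.inter_eq_zpowers huM hg'D hg'1, c.inter_eq_zpowers hσ hmem hg'1]
    haveI hfaith : FaithfulSMul G (G ⧸ M) := by
      refine ⟨fun {g₁ g₂} h => ?_⟩
      have hker : (MulAction.toPermHom G (G ⧸ M)).ker = ⊥ := by
        rcases (MulAction.toPermHom G (G ⧸ M)).normal_ker.eq_bot_or_eq_top with e | e
        · exact e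
        · exfalso
          have hu' : MulAction.toPermHom G (G ⧸ M) u = 1 := MonoidHom.mem_ker.1 (e ▸ mem_top u)
          exact huM ((hstab u).1 (Equiv.ext_iff.1 hu' o))
      exact (MonoidHom.ker_eq_bot_iff _).1 hker (Equiv.ext h)
    have hZ : Cfsg.IsZassenhausGroup G (G ⧸ M) := by
      refine ⟨hfaith, MulAction.is_two_pretransitive_iff.2 fun {a b a' b'} hab hab' => ?_, hthree,
        ⟨d, hd1, o, _, huo.symm, hdfix.1, hdfix.2⟩, fun N hN htr => ?_⟩
      · obtain ⟨g, hg1, hg2⟩ := hreach a b hab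
        obtain ⟨g', hg1', hg2'⟩ := hreach a' b' hab'
        exact ⟨g' * g⁻¹, by rw [mul_smul, ← hg1, inv_smul_smul, hg1'],
          by rw [mul_smul, ← hg2, inv_smul_smul, hg2']⟩
      · refine ⟨o, fun e => ?_⟩
        rcases hN.eq_bot_or_eq_top with rfl | rfl
        · obtain ⟨⟨g, hg⟩, hgu⟩ := htr.exists_smul_eq o ((u : G) : G ⧸ M)
          have hg1 : g = 1 := Subgroup.mem_bot.1 hg
          change g • o = _ at hgu
          rw [hg1, one_smul] at hgu
          exact huo hgu.symm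
        · have hm : (⟨d, mem_top d⟩ : (⊤ : Subgroup G)) ∈
              MulAction.stabilizer (⊤ : Subgroup G) o := hdfix.1
          have hm' := Subgroup.mem_bot.1 ((SetLike.ext_iff.1 e _).1 hm)
          exact hd1 (congrArg Subtype.val hm')
    have hstabM : MulAction.stabilizer G o = M := by ext g; exact hstab g
    have hreg : ∀ y y' : G ⧸ M, y ≠ o → y' ≠ o → ∃! t : T, (t : G) • y = y' := by
      intro y y' hy hy'
      have hT1 : ∀ y : G ⧸ M, y ≠ o → ∃ t ∈ T, (t : G) • ((u : G) : G ⧸ M) = y := by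
        intro y hy
        obtain ⟨m, hm, rfl⟩ := horb y hy
        -- write `m = t * a` with `a` fixing `u`
        let f : T × (M ⊓ cj u M : Subgroup G) → M := fun a =>
          ⟨(a.1 : G) * a.2, M.mul_mem (c.hTM a.1.2) a.2.2.1⟩
        have hf : Function.Injective f := by
          rintro ⟨a, b⟩ ⟨a', b'⟩ e
          have e' : (a : G) * b = a' * b' := congrArg Subtype.val e
          have h1 : (a' : G)⁻¹ * a = (b' : G) * (b : G)⁻¹ := by
            rw [eq_mul_inv_iff_mul_eq, mul_assoc, e', inv_mul_cancel_left]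
          obtain ⟨k, hk⟩ := mem_pGroup_pow c.hT (T.mul_mem (T.inv_mem a'.2) a.2)
          have h2 : (a' : G)⁻¹ * a = 1 :=
            eq_one_of_two_pow_odd (H := M ⊓ cj u M) (by rw [c.inter u huM]; exact c.hp.odd_of_ne_two c.hodd)
              (h1 ▸ mul_mem b'.2 (inv_mem b.2)) hk
          rw [h2] at h1
          exact Prod.ext (Subtype.ext (inv_mul_eq_one.1 h2).symm)
            (Subtype.ext (mul_inv_eq_one.1 h1.symm).symm)
        have hsurj := (hf.bijective_of_nat_card_le (by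
          rw [Nat.card_prod, c.inter u huM, c.hcard])).2
        obtain ⟨⟨t, a⟩, hta⟩ := hsurj ⟨m, hm⟩
        refine ⟨t, t.2, ?_⟩
        have hta' : (t : G) * a = m := congrArg Subtype.val hta
        rw [← hta', mul_smul]
        congr 1
        rw [MulAction.Quotient.smul_coe, smul_eq_mul, QuotientGroup.eq]
        simpa [mul_assoc] using mem_cj.1 a.2.2
      obtain ⟨t, ht, rfl⟩ := hT1 y hy
      obtain ⟨t', ht', rfl⟩ := hT1 y' hy'
      refine ⟨⟨t' * t⁻¹, T.mul_mem ht' (T.inv_mem ht)⟩,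
        by simp only [mul_smul, inv_smul_smul], fun s hs => ?_⟩
      have hs' : ((t'⁻¹ * s * t : G)) • ((u : G) : G ⧸ M) = ((u : G) : G ⧸ M) := by
        rw [mul_smul, mul_smul, hs, inv_smul_smul]
      have hmemT : t'⁻¹ * (s : G) * t ∈ T := T.mul_mem (T.mul_mem (T.inv_mem ht') s.2) ht
      have hD := hfix2 _ ((hstab _).2 (c.hTM hmemT)) hs'
      obtain ⟨k, hk⟩ := mem_pGroup_pow c.hT hmemT
      have := eq_one_of_two_pow_odd (H := M ⊓ cj u M)
        (by rw [c.inter u huM]; exact c.hp.odd_of_ne_two c.hodd) hD hk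
      refine Subtype.ext ?_
      change (s : G) = t' * t⁻¹
      calc (s : G) = t' * (t'⁻¹ * s * t) * t⁻¹ := by group
        _ = t' * t⁻¹ := by rw [this, mul_one]
    exact Or.inr (Cfsg.Agent.S0347.result hZ o T (by rw [hstabM]; exact c.hTM)
      (by rw [hstabM]; exact normal_subgroupOf_of_le_normalizer c.hMTn) c.hT hna hreg)

theorem five_dvd_of_isSuzuki (h : Cfsg.IsSuzuki G) : 5 ∣ Nat.card G := by
  obtain ⟨-, m, -, hmcard⟩ := h
  rw [hmcard]
  refine dvd_mul_of_dvd_left (dvd_mul_of_dvd_right (Nat.dvd_of_mod_eq_zero ?_) _) _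
  rw [← pow_mul, show (2 * m + 1) * 2 = 4 * m + 2 by ring, pow_add, pow_mul, Nat.add_mod,
    Nat.mul_mod, Nat.pow_mod]
  simp

theorem Cfg.false (c : Cfg M T p) [IsSimpleGroup G] (h3 : 3 ≤ (Nat.card G).primeFactors.card)
    (h5 : ¬ 5 ∣ Nat.card G) (heven : Even (Nat.card G)) : False := by
  rcases c.cases h3 heven with ⟨F, _, _, _, ⟨e⟩⟩ | h
  · exact false_of_sl_two c.hyp h3 h5 e
  · exact h5 (five_dvd_of_isSuzuki h)

end CfsgLib.EPPO21
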