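import Cfsg.Agent.Lib.EPPO21.Small
import Cfsg.Agent.Lib.EPPO21.Zass
import Cfsg.Agent.Lib.Small.Order168
import Cfsg.Agent.Lib.CNGroup.Solvable
import Cfsg.Agent.S1475

/-!
# Groups with at least three prime divisors whose element orders are 2-powers or primes other than 5

Such a group is `PSL(2,7)`: induction on the order reduces to a simple group, which is either the
small case or has a trivial-intersection configuration.
-/

set_option autoImplicit false
set_option linter.style.haveILetI false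

namespace CfsgLib.EPPO21

open Subgroup Matrix

universe u v

variable {G : Type*} [Group G] [Finite G]

theorem Hyp.isPrimePow (h : Hyp G) (g : G) : IsPrimePow (orderOf g) ∨ g = 1 := by
  by_cases hg : g = 1
  · exact Or.inr hg
  rcases h g hg with ⟨k, hk⟩ | hp
  · refine Or.inl (hk ▸ Nat.prime_two.isPrimePow.pow fun e => hg ?_)
    rw [e, pow_zero] at hk
    exact orderOf_eq_one_iff.1 hk
  · exact Or.inl hp.isPrimePow

theorem Hyp.not_solvable (h : Hyp G) (h3 : 3 ≤ (Nat.card G).primeFactors.card) :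
    ¬ Group.IsSolvable G := fun hs => by
  have := Cfsg.Agent.S1475.result h.isPrimePow
  omega

/-- The centraliser of an element of odd prime order `p` is a `p`-group. -/
theorem Hyp.isPGroup_centralizer_of_prime (h : Hyp G) {p : ℕ} (hp : p.Prime) (hp2 : p ≠ 2) {a : G}
    (ha : orderOf a = p) {y : G} (hc : Commute y a) : orderOf y ∣ p := by
  by_cases hco : (orderOf y).Coprime p
  · rcases h.eq_one_of_commute hc (ha ▸ hco) with e | e
    · rw [e, orderOf_one]; exact one_dvd _
    · rw [e, orderOf_one] at ha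
      exact absurd ha.symm hp.ne_one
  · rw [Nat.coprime_comm, hp.coprime_iff_not_dvd, not_not] at hco
    exact (pow_prime_eq_one_of_dvd h hp hp2 hco).dvd

theorem Hyp.even_card (h : Hyp G) (h3 : 3 ≤ (Nat.card G).primeFactors.card) :
    Even (Nat.card G) := by
  by_contra hne
  have hodd : Odd (Nat.card G) := Nat.not_even_iff_odd.1 hne
  refine h.not_solvable h3 (CNGroup.cn_solvable_aux _ G rfl hodd fun g hg => ?_)
  have hgo : (orderOf g).Prime := by
    rcases h g hg with ⟨k, hk⟩ | hp
    · rcases Nat.eq_zero_or_pos k with rfl | hk0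
      · exact absurd (orderOf_eq_one_iff.1 (by simpa using hk)) hg
      · exact absurd ((even_iff_two_dvd.2 (hk ▸ dvd_pow_self 2 hk0.ne')).trans_dvd
          (orderOf_dvd_natCard g)) hne
    · exact hp
  haveI : Fact (orderOf g).Prime := ⟨hgo⟩
  have hg2 : orderOf g ≠ 2 := fun e => hne ((even_iff_two_dvd.2 e.symm.dvd).trans_dvd
    (orderOf_dvd_natCard g))
  refine IsPGroup.isNilpotent (p := orderOf g) fun y => ⟨1, ?_⟩
  rw [pow_one]
  refine Subtype.ext ?_
  rw [SubmonoidClass.coe_pow, OneMemClass.coe_one, ← orderOf_dvd_iff_pow_eq_one]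
  exact h.isPGroup_centralizer_of_prime hgo hg2 rfl (mem_centralizer_singleton_iff.1 y.2)

/-- The order of the normaliser of a subgroup of odd prime order. -/
theorem Hyp.card_normalizer_dvd (h : Hyp G) {p : ℕ} [Fact p.Prime] (hp2 : p ≠ 2) {P : Subgroup G}
    (hP : Nat.card P = p) : ∃ k, Nat.card (normalizer (P : Set G)) ∣ (p - 1) * p ^ k := by
  have hp : p.Prime := Fact.out
  set f := P.normalizerMonoidHom
  have hker : IsPGroup p f.ker := by
    rintro ⟨⟨y, hy⟩, hyk⟩
    refine ⟨1, ?_⟩
    obtain ⟨a, haP, ha1⟩ := P.bot_or_exists_ne_one.resolve_left fun e => by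
      rw [e, Subgroup.card_bot] at hP; exact hp.ne_one hP.symm
    have ha : orderOf a = p := by
      refine ((Nat.dvd_prime hp).1 (hP ▸ ?_)).resolve_left fun e => ha1 (orderOf_eq_one_iff.1 e)
      rw [← Subgroup.orderOf_mk a haP]
      exact orderOf_dvd_natCard _
    have hya : y * a * y⁻¹ = a := by
      have := congrArg (fun e : MulAut P => ((e ⟨a, haP⟩ : P) : G)) (MonoidHom.mem_ker.1 hyk)
      exact this
    rw [pow_one]
    refine Subtype.ext (Subtype.ext ?_)
    rw [SubmonoidClass.coe_pow, SubmonoidClass.coe_pow, OneMemClass.coe_one, OneMemClass.coe_one,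
      ← orderOf_dvd_iff_pow_eq_one]
    exact h.isPGroup_centralizer_of_prime hp hp2 ha (mul_inv_eq_iff_eq_mul.1 hya)
  obtain ⟨k, hk⟩ := hker.exists_card_eq
  refine ⟨k, ?_⟩
  rw [← f.ker.card_mul_index, hk, Subgroup.index_ker, mul_comm]
  refine mul_dvd_mul_right ((Subgroup.card_subgroup_dvd_card f.range).trans ?_) _
  haveI : IsCyclic P := isCyclic_of_prime_card hP
  rw [IsCyclic.card_mulAut, hP, Nat.totient_prime hp]

/-- Frattini: the index of a normal subgroup divides the normaliser of a Sylow subgroup. -/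
theorem Hyp.index_mul_dvd (h : Hyp G) {p : ℕ} [Fact p.Prime] (hp2 : p ≠ 2) {N : Subgroup G}
    [N.Normal] (P : Sylow p N) (hP : Nat.card P = p) :
    ∃ k, Nat.card (normalizer ((P : Subgroup N) : Set N)) * N.index ∣ (p - 1) * p ^ k := by
  set P' := (P : Subgroup N).map N.subtype
  set NG := normalizer (P' : Set G)
  obtain ⟨k, hk⟩ := h.card_normalizer_dvd hp2 (P := P')
    ((Subgroup.card_map_of_injective N.subtype_injective).trans hP)
  refine ⟨k, dvd_trans ?_ hk⟩
  have hidx : N.index = (N.subgroupOf NG).index := by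
    change N.index = N.relIndex NG
    rw [← Subgroup.relIndex_sup_right, Sylow.normalizer_sup_eq_top P, Subgroup.relIndex_top_right]
  have hle : (normalizer ((P : Subgroup N) : Set N)).map N.subtype ≤ N ⊓ NG :=
    le_inf (map_subtype_le _) (Subgroup.le_normalizer_map _)
  have hd : Nat.card (normalizer ((P : Subgroup N) : Set N)) ∣ Nat.card (N.subgroupOf NG) := by
    rw [← Subgroup.card_map_of_injective (K := normalizer ((P : Subgroup N) : Set N))
        N.subtype_injective,
      ← Subgroup.card_map_of_injective (K := N.subgroupOf NG) NG.subtype_injective,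
      Subgroup.subgroupOf_map_subtype]
    exact Subgroup.card_dvd_of_le hle
  rw [hidx, ← (N.subgroupOf NG).card_mul_index]
  exact mul_dvd_mul_right hd _

/-- A normal subgroup which is simple of order 168 is everything. -/
theorem Hyp.eq_top_of_card (h : Hyp G) {N : Subgroup G} [N.Normal] [IsSimpleGroup N]
    (hN : Nat.card N = 168) : N = ⊤ := by
  haveI h7 : Fact (Nat.Prime 7) := ⟨by norm_num⟩
  haveI h3 : Fact (Nat.Prime 3) := ⟨Nat.prime_three⟩
  obtain ⟨P⟩ := (inferInstance : Nonempty (Sylow 7 N))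
  obtain ⟨Q⟩ := (inferInstance : Nonempty (Sylow 3 N))
  obtain ⟨a, ha⟩ := h.index_mul_dvd (by norm_num) P (Small.Order168.card_seven hN P)
  obtain ⟨b, hb⟩ := h.index_mul_dvd (by norm_num) Q (Small.Order168.card_three hN Q)
  rw [(Small.Order168.normalizer_seven hN P).1] at ha
  rw [(Small.Order168.normalizer_three hN Q).1] at hb
  norm_num at ha hb
  rw [← Subgroup.index_eq_one]
  set i := N.index
  have h1 : i ∣ 2 * 7 ^ a := by
    have : 3 * i ∣ 3 * (2 * 7 ^ a) := by
      rw [← mul_assoc]; exact dvd_trans ⟨7, by ring⟩ ha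
    exact (Nat.mul_dvd_mul_iff_left (by norm_num)).1 this
  have h2 : i ∣ 3 ^ b := by
    have : 2 * i ∣ 2 * 3 ^ b := dvd_trans ⟨3, by ring⟩ hb
    exact (Nat.mul_dvd_mul_iff_left (by norm_num)).1 this
  refine Nat.eq_one_of_dvd_coprimes ?_ h1 h2
  refine Nat.Coprime.pow_right b ?_
  exact Nat.Coprime.mul_left (by norm_num) (Nat.Coprime.pow_left a (by norm_num))

/-- An abelian normal subgroup is an `r`-group for some prime `r`. -/
theorem Hyp.exists_prime_isPGroup (h : Hyp G) {N : Subgroup G} (hne : N ≠ ⊥)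
    (hcomm : ∀ a ∈ N, ∀ b ∈ N, Commute a b) : ∃ r, r.Prime ∧ IsPGroup r N := by
  obtain ⟨r, hr, hrd⟩ := Nat.exists_prime_and_dvd (n := Nat.card N)
    fun e => hne (Subgroup.card_eq_one.1 e)
  haveI : Fact r.Prime := ⟨hr⟩
  obtain ⟨v, hv⟩ := exists_prime_orderOf_dvd_card' (G := N) r hrd
  refine ⟨r, hr, fun w => ?_⟩
  by_cases hr2 : r = 2
  · subst hr2
    have := h.isPGroup_centralizer (t := (v : G)) (by rw [Subgroup.orderOf_coe, hv])
      ⟨(w : G), mem_centralizer_singleton_iff.2 (hcomm _ w.2 _ v.2).eq⟩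
    obtain ⟨k, hk⟩ := this
    exact ⟨k, Subtype.ext (by simpa using congrArg Subtype.val hk)⟩
  · refine ⟨1, Subtype.ext ?_⟩
    rw [pow_one, SubmonoidClass.coe_pow, OneMemClass.coe_one, ← orderOf_dvd_iff_pow_eq_one]
    exact h.isPGroup_centralizer_of_prime hr hr2 (by rw [Subgroup.orderOf_coe, hv])
      (hcomm _ w.2 _ v.2)

/-- An odd abelian normal subgroup with simple quotient of order 168 is impossible. -/
theorem Hyp.false_of_odd_kernel (h : Hyp G) {N : Subgroup G} [N.Normal] (hne : N ≠ ⊥) {r : ℕ}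
    [Fact r.Prime] (hr2 : r ≠ 2) (hN : IsPGroup r N) (hcomm : ∀ a ∈ N, ∀ b ∈ N, Commute a b)
    [IsSimpleGroup (G ⧸ N)] (hQ : Nat.card (G ⧸ N) = 168) : False := by
  have hr : r.Prime := Fact.out
  haveI : Fact (Nat.Prime 2) := ⟨Nat.prime_two⟩
  obtain ⟨t, ht⟩ := exists_prime_orderOf_dvd_card' (G := G) 2 (by
    refine dvd_trans ?_ (Subgroup.card_quotient_dvd_card N)
    rw [hQ]; norm_num)
  have htN : t ∉ N := by
    intro hm
    obtain ⟨i, hi⟩ := IsPGroup.iff_orderOf.1 hN ⟨t, hm⟩
    rw [Subgroup.orderOf_mk, ht] at hi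
    exact hr2 ((Nat.prime_dvd_prime_iff_eq Nat.prime_two hr).1
      (Nat.prime_two.dvd_of_dvd_pow (dvd_of_eq hi))).symm
  have hnorm : ∀ g : G, ∀ v ∈ N, g * v * g⁻¹ ∈ N := fun g v hv => Normal.conj_mem inferInstance v hv g
  -- every involution inverts `N`
  have hinv : ∀ s : G, orderOf s = 2 → ∀ v ∈ N, s * v * s⁻¹ = v⁻¹ := by
    intro s hs v hv
    have hss : s * s = 1 := by
      have := pow_orderOf_eq_one s
      rwa [hs, pow_two] at this
    set u := v * (s * v * s⁻¹) with hu
    have huN : u ∈ N := N.mul_mem hv (hnorm s v hv)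
    have huc : s * u * s⁻¹ = u := by
      have e : s * u * s⁻¹ = (s * v * s⁻¹) * ((s * s) * v * (s * s)⁻¹) := by rw [hu]; group
      rw [e, hss, hu, inv_one, mul_one, one_mul]
      exact (hcomm _ (hnorm s v hv) _ hv).eq
    have huo : Odd (orderOf u) := by
      obtain ⟨i, hi⟩ := IsPGroup.iff_orderOf.1 hN ⟨u, huN⟩
      rw [Subgroup.orderOf_mk] at hi
      rw [hi]
      exact (hr.odd_of_ne_two hr2).pow
    have hu1 : u = 1 := (h.odd_of_commute
      (show Commute u s from (mul_inv_eq_iff_eq_mul.1 huc).symm) huo (k := 1)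
        (by rw [pow_one, pow_two, hss])).resolve_right fun e => by
      rw [e, orderOf_one] at hs; omega
    exact eq_inv_of_mul_eq_one_right hu1
  set C := centralizer (N : Set G)
  haveI : C.Normal := inferInstanceAs (centralizer (N : Set G)).Normal
  obtain ⟨v, hv, hv1⟩ := N.bot_or_exists_ne_one.resolve_left hne
  have hCp : IsPGroup r C := by
    obtain ⟨i, hi⟩ := IsPGroup.iff_orderOf.1 hN ⟨v, hv⟩
    rw [Subgroup.orderOf_mk] at hi
    have hvr : orderOf v = r := by
      refine pow_prime_eq_one_of_dvd h hr hr2 ?_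
      rw [hi]
      refine dvd_pow_self r fun e => hv1 ?_
      rw [e, pow_zero] at hi
      exact orderOf_eq_one_iff.1 hi
    intro y
    refine ⟨1, Subtype.ext ?_⟩
    rw [pow_one, SubmonoidClass.coe_pow, OneMemClass.coe_one, ← orderOf_dvd_iff_pow_eq_one]
    exact h.isPGroup_centralizer_of_prime hr hr2 hvr (mem_centralizer_iff.1 y.2 v hv).symm
  have hmap : C.map (QuotientGroup.mk' N) = ⊥ := by
    haveI := Subgroup.Normal.map (inferInstance : C.Normal) _ (QuotientGroup.mk'_surjective N)
    refine (Subgroup.Normal.eq_bot_or_eq_top this).resolve_right fun e => ?_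
    obtain ⟨k, hk⟩ := (hCp.map (QuotientGroup.mk' N)).exists_card_eq
    rw [e, Subgroup.card_top, hQ] at hk
    have h2 := (Nat.prime_dvd_prime_iff_eq Nat.prime_two hr).1
      (Nat.prime_two.dvd_of_dvd_pow (show 2 ∣ r ^ k by rw [← hk]; norm_num))
    exact hr2 h2.symm
  have hcen : ((t : G) : G ⧸ N) ∈ Subgroup.center (G ⧸ N) := by
    rw [Subgroup.mem_center_iff]
    intro q
    obtain ⟨g, rfl⟩ := QuotientGroup.mk_surjective q
    have hC : (g * t * g⁻¹) * t⁻¹ ∈ C := by
      rw [mem_centralizer_iff]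
      intro w hw
      have h1 := hinv _ ((orderOf_conj_eq' g t).trans ht) w⁻¹ (N.inv_mem hw)
      have h2 := hinv t ht w hw
      rw [inv_inv] at h1
      calc w * ((g * t * g⁻¹) * t⁻¹)
          = ((g * t * g⁻¹) * w⁻¹ * (g * t * g⁻¹)⁻¹) * ((g * t * g⁻¹) * t⁻¹) := by rw [h1]
        _ = (g * t * g⁻¹) * (t * w * t⁻¹) * t⁻¹ := by rw [h2]; group
        _ = (g * t * g⁻¹) * t * w * (t * t)⁻¹ := by group
        _ = (g * t * g⁻¹) * t⁻¹ * w := by
            have htt : t * t = 1 := by
              have := pow_orderOf_eq_one t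
              rwa [ht, pow_two] at this
            rw [htt, inv_eq_of_mul_eq_one_right htt]
            simp
    have := Subgroup.mem_bot.1 (hmap ▸ Subgroup.mem_map_of_mem (QuotientGroup.mk' N) hC)
    simp only [map_mul, map_inv, QuotientGroup.mk'_apply] at this
    rw [mul_inv_eq_one, mul_inv_eq_iff_eq_mul] at this
    exact this
  rcases (Subgroup.instNormalCenter (G := G ⧸ N)).eq_bot_or_eq_top with e | e
  · rw [e, Subgroup.mem_bot] at hcen
    exact htN ((QuotientGroup.eq_one_iff _).1 hcen)
  · exact Small.Order168.nc (G := G ⧸ N) hQ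
      ⟨⟨fun x y => ((Subgroup.mem_center_iff.1 (e.ge (mem_top x))) y).symm⟩⟩

/-- A 2-group as abelian kernel over a simple group of order 168 is impossible. -/
theorem Hyp.false_of_two_kernel (h : Hyp G) {N : Subgroup G} [N.Normal] (hne : N ≠ ⊥)
    (hN : IsPGroup 2 N) (hcomm : ∀ a ∈ N, ∀ b ∈ N, Commute a b)
    [IsSimpleGroup (G ⧸ N)] (hQ : Nat.card (G ⧸ N) = 168) : False := by
  haveI : Fact (Nat.Prime 7) := ⟨by norm_num⟩
  haveI : Fact (Nat.Prime 3) := ⟨Nat.prime_three⟩
  haveI : Fact (Nat.Prime 2) := ⟨Nat.prime_two⟩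
  classical
  obtain ⟨m, hm⟩ := hN.exists_card_eq
  have hG : Nat.card G = 168 * 2 ^ m := by
    rw [← hm, ← hQ, Subgroup.card_eq_card_quotient_mul_card_subgroup N]
  obtain ⟨P⟩ := (inferInstance : Nonempty (Sylow 7 G))
  have hP : Nat.card P = 7 := by
    have := Small.card_sylow_of_card_eq (p := 7) (k := 1) (m := 24 * 2 ^ m)
      (by rw [hG]; ring) (Nat.Prime.not_dvd_mul (by norm_num) (by norm_num) fun hd => by
        have := (Nat.prime_dvd_prime_iff_eq (by norm_num) Nat.prime_two).1
          ((by norm_num : (7 : ℕ).Prime).dvd_of_dvd_pow hd)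
        omega) P
    simpa using this
  have hnorm : ∀ g : G, ∀ v ∈ N, g * v * g⁻¹ ∈ N := fun g v hv => Normal.conj_mem inferInstance v hv g
  have hNP : ∀ g ∈ N, g ∈ (P : Subgroup G) → g = 1 := by
    intro g hgN hgP
    obtain ⟨i, hi⟩ := mem_pGroup_pow hN hgN
    refine isPGroup_two_odd_order hN hgN ?_
    have h7 : orderOf g ∣ 7 := hP ▸ (Subgroup.orderOf_mk g hgP ▸ orderOf_dvd_natCard _)
    exact Odd.of_dvd_nat (by decide) h7
  obtain ⟨a, haP, ha1⟩ := (P : Subgroup G).bot_or_exists_ne_one.resolve_left fun e => by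
    rw [e, Subgroup.card_bot] at hP; omega
  have ha : orderOf a = 7 := by
    refine ((Nat.dvd_prime (by norm_num)).1 (hP ▸ ?_)).resolve_left
      fun e => ha1 (orderOf_eq_one_iff.1 e)
    rw [← Subgroup.orderOf_mk a haP]
    exact orderOf_dvd_natCard _
  have hPa : (P : Subgroup G) = zpowers a := (Subgroup.eq_of_le_of_card_ge (zpowers_le.2 haP)
    (by rw [hP, Nat.card_zpowers, ha])).symm
  set NP := normalizer ((P : Subgroup G) : Set G)
  -- an element of order three in the normaliser
  have h3 : 3 ∣ Nat.card NP := by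
    by_contra h3
    obtain ⟨k, hk⟩ := h.card_normalizer_dvd (by norm_num) hP
    -- the normaliser embeds in the quotient
    let φ : NP →* G ⧸ N := (QuotientGroup.mk' N).comp NP.subtype
    have hφ : Function.Injective φ := by
      rw [injective_iff_map_eq_one]
      rintro ⟨g, hg⟩ hg1
      have hgN : g ∈ N := (QuotientGroup.eq_one_iff _).1 hg1
      have h1 : g * a * g⁻¹ * a⁻¹ = 1 := hNP _
        (by rw [show g * a * g⁻¹ * a⁻¹ = g * (a * g⁻¹ * a⁻¹) by group]
            exact N.mul_mem hgN (hnorm a _ (N.inv_mem hgN)))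
        ((P : Subgroup G).mul_mem (conj_mem_of_normalizer hg haP) ((P : Subgroup G).inv_mem haP))
      have hfix : a * g * a⁻¹ = g := by
        rw [mul_inv_eq_one, mul_inv_eq_iff_eq_mul] at h1
        rw [← h1, mul_inv_cancel_right]
      exact Subtype.ext (h.fpf hN (ha ▸ (by decide : Odd 7)) ha1 hgN hfix)
    -- and lands in the normaliser of the image of `P`
    set P' : Sylow 7 (G ⧸ N) := P.mapSurjective (QuotientGroup.mk'_surjective N)
    have hrange : φ.range ≤ normalizer ((P' : Subgroup (G ⧸ N)) : Set (G ⧸ N)) := by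
      rintro _ ⟨⟨g, hg⟩, rfl⟩
      exact Subgroup.le_normalizer_map _ (Subgroup.mem_map_of_mem (QuotientGroup.mk' N) hg)
    have h21 : Nat.card NP ∣ 21 := by
      rw [Nat.card_congr (MonoidHom.ofInjective hφ).toEquiv,
        ← (Small.Order168.normalizer_seven hQ P').1]
      exact Subgroup.card_dvd_of_le hrange
    have h7 : Nat.card NP = 7 := by
      have h7d : 7 ∣ Nat.card NP := hP ▸ Subgroup.card_dvd_of_le Subgroup.le_normalizer
      have hle : Nat.card NP ≤ 21 := Nat.le_of_dvd (by norm_num) h21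
      obtain ⟨j, hj⟩ := h7d
      rw [hj] at h21 hle h3 ⊢
      have hj3 : j ≤ 3 := by omega
      interval_cases j <;> omega
    have hNPP : NP = (P : Subgroup G) :=
      (Subgroup.eq_of_le_of_card_ge Subgroup.le_normalizer (by rw [h7, hP])).symm
    haveI : IsCyclic (P : Subgroup G) := isCyclic_of_prime_card hP
    have hPC : normalizer ((P : Subgroup G) : Set G) ≤ centralizer ((P : Subgroup G) : Set G) := by
      intro g hg
      have hgP : g ∈ (P : Subgroup G) := hNPP.le hg
      rw [hPa] at hgP ⊢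
      rw [mem_centralizer_iff]
      intro y hy
      obtain ⟨i, rfl⟩ := mem_zpowers_iff.1 hgP
      obtain ⟨j, rfl⟩ := mem_zpowers_iff.1 hy
      exact ((Commute.refl a).zpow_zpow j i).eq
    have hcompl := MonoidHom.ker_transferSylow_isComplement' P hPC
    set K := (MonoidHom.transferSylow P hPC).ker
    have hK : Nat.card K * 7 = 168 * 2 ^ m := by rw [← hP, hcompl.card_mul, hG]
    haveI := Subgroup.Normal.map (inferInstance : K.Normal) _ (QuotientGroup.mk'_surjective N)
    rcases Subgroup.Normal.eq_bot_or_eq_top this with e | e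
    · have hKN : K ≤ N := by
        intro y hy
        have := Subgroup.mem_bot.1 (e ▸ Subgroup.mem_map_of_mem (QuotientGroup.mk' N) hy)
        exact (QuotientGroup.eq_one_iff _).1 this
      have := Nat.le_of_dvd Nat.card_pos (Subgroup.card_dvd_of_le hKN)
      rw [hm] at this
      have := Nat.two_pow_pos m
      omega
    · have hd : 168 ∣ Nat.card K := by
        rw [← hQ, ← Subgroup.card_top, ← e]
        exact Subgroup.card_map_dvd K (QuotientGroup.mk' N)
      have h7 : 7 ∣ 24 * 2 ^ m := by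
        rw [show 24 * 2 ^ m = Nat.card K by omega]
        exact dvd_trans (by norm_num) hd
      have := (Nat.prime_dvd_prime_iff_eq (by norm_num) Nat.prime_two).1
        ((by norm_num : (7 : ℕ).Prime).dvd_of_dvd_pow
          (((Nat.Prime.dvd_mul (by norm_num)).1 h7).resolve_left (by norm_num)))
      omega
  obtain ⟨b', hb'⟩ := exists_prime_orderOf_dvd_card' (G := NP) 3 h3
  obtain ⟨b, hbn⟩ := b'
  have hb : orderOf b = 3 := by rwa [Subgroup.orderOf_mk] at hb'
  obtain ⟨l, hl⟩ : ∃ l : ℕ, b * a * b⁻¹ = a ^ l := by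
    have h1 : b * a * b⁻¹ ∈ zpowers a := hPa ▸ conj_mem_of_normalizer hbn haP
    obtain ⟨l, -, hl⟩ := mem_zpowers_iff_mem_range_orderOf.1 h1 |> Finset.mem_image.1
    exact ⟨l, hl.symm⟩
  have hb1 : b ≠ 1 := fun e => by rw [e, orderOf_one] at hb; omega
  have hnc : ∀ j : ℕ, Commute (b ^ j) a → 3 ∣ j := by
    intro j hc
    have h1 := h.isPGroup_centralizer_of_prime (by norm_num) (by norm_num) ha hc
    have h2 : orderOf (b ^ j) ∣ 3 := hb ▸ orderOf_pow_dvd j
    have h3 : orderOf (b ^ j) = 1 := Nat.eq_one_of_dvd_coprimes (by norm_num) h1 h2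
    rw [← hb, orderOf_dvd_iff_pow_eq_one]
    exact orderOf_eq_one_iff.1 h3
  haveI : IsMulCommutative N := ⟨⟨fun u w => Subtype.ext (hcomm _ u.2 _ w.2).eq⟩⟩
  letI : CommGroup N := { (inferInstance : Group N) with mul_comm := fun u w => mul_comm' u w }
  let ι : G →* normalizer (N : Set G) :=
    (MonoidHom.id G).codRestrict _ fun g => by rw [Subgroup.normalizer_eq_top]; exact mem_top g
  have hfix : ∀ g : G, g ≠ 1 → Odd (orderOf g) → ∀ w : N, ι g • w = w → w = 1 := by
    intro g hg hgo w hw
    exact Subtype.ext (h.fpf hN hgo hg w.2 (congrArg Subtype.val hw))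
  obtain ⟨v, hv, hv1⟩ := N.bot_or_exists_ne_one.resolve_left hne
  have key := pow_eq_one_of_frobenius (N := normalizer (N : Set G)) (M := N) (p := 7) (r := 3)
    (by norm_num) (by norm_num) (a := ι a) (b := ι b) (l := l)
    (by rw [← map_pow, ← ha, pow_orderOf_eq_one, map_one])
    (by rw [← map_pow, ← hb, pow_orderOf_eq_one, map_one])
    (by rw [← map_inv, ← map_mul, ← map_mul, hl, map_pow])
    (fun i hi hi3 hcong => by
      have hpow : b ^ i * a * (b ^ i)⁻¹ = a ^ l ^ i := by
        clear hcong hi hi3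
        induction i with
        | zero => simp
        | succ n ih =>
          rw [show b ^ (n + 1) * a * (b ^ (n + 1))⁻¹ = b * (b ^ n * a * (b ^ n)⁻¹) * b⁻¹ by
            rw [pow_succ']; group, ih, ← conj_pow, hl, ← pow_mul, pow_succ']
      have h1 : a ^ l ^ i = a := by
        conv_rhs => rw [← pow_one a]
        rw [pow_eq_pow_iff_modEq, ha, ← Int.natCast_modEq_iff]
        push_cast
        exact hcong
      rw [h1] at hpow
      have := hnc i (mul_inv_eq_iff_eq_mul.1 hpow)
      omega)
    (hfix a ha1 (ha ▸ by decide))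
    (fun k => by
      rw [← map_pow, ← map_inv, ← map_mul, ← map_mul]
      refine hfix _ ?_ ?_
      · rw [Ne, conj_eq_one_iff]; exact hb1
      · rw [orderOf_conj_eq', hb]; decide)
    (⟨v, hv⟩ : N)
  have hv7 : v ^ 7 = 1 := by simpa using congrArg Subtype.val key
  exact hv1 (isPGroup_two_odd_order hN hv
    (Odd.of_dvd_nat (by decide) (orderOf_dvd_of_pow_eq_one hv7)))

theorem card_psl_seven {F : Type*} [Field F] [Fintype F] (hF : Fintype.card F = 7) :
    Nat.card (ProjectiveSpecialLinearGroup (Fin 2) F) = 168 := by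
  have h := PSL2.card_psl (F := F)
  rw [hF] at h
  norm_num at h
  omega

theorem isSimple_psl_seven {F : Type*} [Field F] [Fintype F] (hF : Fintype.card F = 7) :
    IsSimpleGroup (ProjectiveSpecialLinearGroup (Fin 2) F) :=
  ProjectiveSpecialLinearGroup.rank_two_simple (F := F)
    (by rw [Nat.card_eq_fintype_card, hF]; norm_num)

theorem main {F : Type v} [Field F] [Fintype F] (hF : Fintype.card F = 7) (n : ℕ) :
    ∀ (G : Type u) [Group G] [Finite G], Nat.card G = n → Hyp G → ¬ 5 ∣ Nat.card G →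
      3 ≤ (Nat.card G).primeFactors.card →
      Nonempty (G ≃* ProjectiveSpecialLinearGroup (Fin 2) F) := by
  induction n using Nat.strong_induction_on with
  | _ n ih =>
  intro G _ _ hn h h5 h3
  haveI hnt : Nontrivial G := by
    rw [← not_subsingleton_iff_nontrivial]
    intro hs
    rw [Nat.card_unique] at h3
    simp at h3
  have hrec : ∀ {X : Type u} [Group X] [Finite X], Nat.card X < n → Nat.card X ∣ Nat.card G → Hyp X →
      3 ≤ (Nat.card X).primeFactors.card → Nat.card X = 168 ∧ IsSimpleGroup X := by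
    intro X _ _ hX hXd hXh hX3
    obtain ⟨e⟩ := ih _ hX X rfl hXh (fun hd => h5 (hd.trans hXd)) hX3
    haveI := isSimple_psl_seven hF
    refine ⟨(Nat.card_congr e.toEquiv).trans (card_psl_seven hF), ?_⟩
    haveI : Nontrivial X := e.symm.injective.nontrivial
    exact IsSimpleGroup.isSimpleGroup_of_surjective e.symm.toMonoidHom e.symm.surjective
  have hlt : ∀ H : Subgroup G, H ≠ ⊤ → Nat.card H < n := by
    intro H hH
    rw [← hn]
    exact lt_of_le_of_ne (Nat.le_of_dvd Nat.card_pos H.card_subgroup_dvd_card)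
      fun e => hH (H.eq_top_of_card_eq e)
  by_cases hs : IsSimpleGroup G
  · have htwo : ∀ U : Subgroup G, IsPGroup 2 U → U ≠ ⊥ →
        (Nat.card (normalizer (U : Set G))).primeFactors.card ≤ 2 := by
      intro U hU hUne
      by_contra hgt
      by_cases htop : normalizer (U : Set G) = ⊤
      · haveI := hs
        haveI : U.Normal := Subgroup.normalizer_eq_top_iff.1 htop
        rcases Subgroup.Normal.eq_bot_or_eq_top (inferInstance : U.Normal) with e | e
        · exact hUne e
        · obtain ⟨k, hk⟩ := hU.exists_card_eq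
          rw [e, Subgroup.card_top] at hk
          rw [hk] at h3
          rcases Nat.eq_zero_or_pos k with rfl | hk0
          · simp at h3
          · rw [Nat.primeFactors_prime_pow hk0.ne' Nat.prime_two, Finset.card_singleton] at h3
            omega
      obtain ⟨-, hsimp⟩ := hrec (hlt _ htop) (Subgroup.card_subgroup_dvd_card _) (h.subgroup _) (by omega)
      haveI := hsimp
      haveI hUn : (U.subgroupOf (normalizer (U : Set G))).Normal :=
        Subgroup.normal_subgroupOf_of_le_normalizer le_rfl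
      rcases hUn.eq_bot_or_eq_top with e | e
      · rw [Subgroup.subgroupOf_eq_bot] at e
        exact hUne (disjoint_iff.1 e ▸ (inf_of_le_left Subgroup.le_normalizer).symm)
      · rw [Subgroup.subgroupOf_eq_top] at e
        obtain ⟨k, hk⟩ := (hU.to_le e).exists_card_eq
        rw [hk] at hgt
        rcases Nat.eq_zero_or_pos k with rfl | hk0
        · simp at hgt
        · rw [Nat.primeFactors_prime_pow hk0.ne' Nat.prime_two, Finset.card_singleton] at hgt
          omega
    have S : Setting G := ⟨h, hs, h3, h.even_card h3, htwo⟩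
    by_cases hsc : SmallCase G
    · exact SmallCase.nonempty_psl S hsc h5 hF
    · obtain ⟨M, T, p, c⟩ := exists_cfg S hsc
      haveI := hs
      exact (c.false h3 h5 (h.even_card h3)).elim
  exfalso
  obtain ⟨N₀, hN₀, hN₀1, hN₀2⟩ : ∃ N : Subgroup G, N.Normal ∧ N ≠ ⊥ ∧ N ≠ ⊤ := by
    by_contra! hall
    exact hs ⟨fun H hH => or_iff_not_imp_left.2 (hall H hH)⟩
  obtain ⟨N, hNle, ⟨hNn, hNne⟩, hNmin⟩ :=
    exists_minimal_le_of_wellFoundedLT (fun H : Subgroup G => H.Normal ∧ H ≠ ⊥) N₀ ⟨hN₀, hN₀1⟩
  haveI := hNn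
  have hNtop : N ≠ ⊤ := fun e => hN₀2 (top_le_iff.1 (e ▸ hNle))
  rcases Nat.lt_or_ge 2 (Nat.card N).primeFactors.card with h3N | h2N
  · obtain ⟨hN168, hNs⟩ := hrec (hlt N hNtop) N.card_subgroup_dvd_card (h.subgroup N) h3N
    exact hNtop (h.eq_top_of_card hN168)
  haveI : Group.IsSolvable N := isSolvable_of_le_two h2N
  have hcomm : ∀ a ∈ N, ∀ b ∈ N, Commute a b := by
    have hle : ⁅N, N⁆ ≤ N := Subgroup.commutator_le_left N N
    have hbot : ⁅N, N⁆ = ⊥ := by
      by_contra hb
      have heq : ⁅N, N⁆ = N := le_antisymm hle (hNmin ⟨inferInstance, hb⟩ hle)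
      obtain ⟨k, hk⟩ := (Group.isSolvable_def (G := N)).1 inferInstance
      have hall : ∀ j, (derivedSeries N j).map N.subtype = N := by
        intro j
        induction j with
        | zero => rw [derivedSeries_zero, ← MonoidHom.range_eq_map, Subgroup.range_subtype]
        | succ j ihj => rw [derivedSeries_succ, Subgroup.map_commutator, ihj, heq]
      have := hall k
      rw [hk, Subgroup.map_bot] at this
      exact hNne this.symm
    rw [commutator_eq_bot_iff_le_centralizer] at hbot
    exact fun a ha b hb => (mem_centralizer_iff.1 (hbot ha) b hb).symm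
  have hQh : Hyp (G ⧸ N) := h.of_surjective _ (QuotientGroup.mk'_surjective N)
  have hQ3 : 3 ≤ (Nat.card (G ⧸ N)).primeFactors.card := by
    by_contra hle
    haveI : Group.IsSolvable (G ⧸ N) := isSolvable_of_le_two (by omega)
    exact h.not_solvable h3 (Group.isSolvable_of_ker_le_range N.subtype (QuotientGroup.mk' N)
      (by rw [QuotientGroup.ker_mk', Subgroup.range_subtype]))
  have hQlt : Nat.card (G ⧸ N) < n := by
    rw [← hn, Subgroup.card_eq_card_quotient_mul_card_subgroup N]
    exact lt_mul_of_one_lt_right Nat.card_pos ((Subgroup.one_lt_card_iff_ne_bot N).2 hNne)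
  obtain ⟨hQ168, hQs⟩ := hrec hQlt N.card_quotient_dvd_card hQh hQ3
  haveI := hQs
  obtain ⟨r, hr, hrN⟩ := h.exists_prime_isPGroup hNne hcomm
  haveI : Fact r.Prime := ⟨hr⟩
  by_cases hr2 : r = 2
  · subst hr2
    exact h.false_of_two_kernel hNne hrN hcomm hQ168
  · exact h.false_of_odd_kernel hNne hr2 hrN hcomm hQ168

end CfsgLib.EPPO21
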