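import Mathlib
import Cfsg.Agent.Lib.PCore.Basic

/-!
# Groups in which every element is a 2-element or has prime order

Basic consequences: centralisers of odd elements contain no involution, subgroups and quotients
inherit the hypothesis, and the arithmetic of fixed points under an element of odd order inverted
modulo a normal 2-subgroup.
-/

set_option autoImplicit false

namespace CfsgLib.EPPO21

open Subgroup

variable {G : Type*} [Group G]

/-- Every nonidentity element has 2-power order or prime order. -/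
def Hyp (G : Type*) [Group G] : Prop :=
  ∀ g : G, g ≠ 1 → (∃ k : ℕ, orderOf g = 2 ^ k) ∨ (orderOf g).Prime

theorem Hyp.of_injective {H : Type*} [Group H] (h : Hyp G) (f : H →* G)
    (hf : Function.Injective f) : Hyp H := fun x hx => by
  have := h (f x) fun e => hx (hf (e.trans f.map_one.symm))
  rwa [orderOf_injective f hf] at this

theorem Hyp.subgroup (h : Hyp G) (H : Subgroup G) : Hyp H :=
  h.of_injective H.subtype H.subtype_injective

theorem Hyp.of_surjective [Finite G] {H : Type*} [Group H] (h : Hyp G) (f : G →* H)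
    (hf : Function.Surjective f) : Hyp H := by
  intro y hy
  obtain ⟨x, rfl⟩ := hf y
  have hd := orderOf_map_dvd f x
  rcases h x fun e => hy (by rw [e, map_one]) with ⟨k, hk⟩ | hp
  · rw [hk] at hd
    obtain ⟨i, -, hi⟩ := (Nat.dvd_prime_pow Nat.prime_two).1 hd
    exact Or.inl ⟨i, hi⟩
  · rcases (Nat.dvd_prime hp).1 hd with e | e
    · exact absurd (orderOf_eq_one_iff.1 e) hy
    · exact Or.inr (e ▸ hp)

/-- Commuting elements of coprime orders cannot both be nontrivial. -/
theorem Hyp.eq_one_of_commute [Finite G] (h : Hyp G) {a b : G} (hc : Commute a b)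
    (hco : (orderOf a).Coprime (orderOf b)) : a = 1 ∨ b = 1 := by
  by_contra! hne
  obtain ⟨ha, hb⟩ := hne
  have hab : orderOf (a * b) = orderOf a * orderOf b := hc.orderOf_mul_eq_mul_orderOf_of_coprime hco
  have ha1 : orderOf a ≠ 1 := fun e => ha (orderOf_eq_one_iff.1 e)
  have hb1 : orderOf b ≠ 1 := fun e => hb (orderOf_eq_one_iff.1 e)
  have hne : a * b ≠ 1 := fun e => by
    rw [e, orderOf_one] at hab
    exact ha1 (Nat.eq_one_of_mul_eq_one_right hab.symm)
  rcases h _ hne with ⟨k, hk⟩ | hp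
  · rw [hab] at hk
    obtain ⟨i, -, hi⟩ := (Nat.dvd_prime_pow Nat.prime_two).1 (hk ▸ Dvd.intro _ rfl)
    obtain ⟨j, -, hj⟩ := (Nat.dvd_prime_pow Nat.prime_two).1 (hk ▸ Dvd.intro_left _ rfl)
    rw [hi, hj] at hco
    rw [hi] at ha1
    rw [hj] at hb1
    have hi0 : i ≠ 0 := fun e => ha1 (by rw [e, pow_zero])
    have hj0 : j ≠ 0 := fun e => hb1 (by rw [e, pow_zero])
    exact Nat.not_coprime_of_dvd_of_dvd (by norm_num) (dvd_pow_self 2 hi0) (dvd_pow_self 2 hj0) hco
  · rw [hab, Nat.prime_mul_iff] at hp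
    rcases hp with ⟨-, e⟩ | ⟨-, e⟩
    · exact hb1 e
    · exact ha1 e

/-- An element of odd order centralising a nontrivial 2-element is trivial. -/
theorem Hyp.odd_of_commute [Finite G] (h : Hyp G) {a b : G} (hc : Commute a b)
    (ha : Odd (orderOf a)) {k : ℕ} (hb : b ^ 2 ^ k = 1) : a = 1 ∨ b = 1 := by
  refine h.eq_one_of_commute hc ?_
  obtain ⟨i, -, hi⟩ := (Nat.dvd_prime_pow Nat.prime_two).1 (orderOf_dvd_of_pow_eq_one hb)
  rw [hi]
  exact (Nat.coprime_two_right.2 ha).pow_right i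

/-- An element that is no 2-element has odd prime order. -/
theorem Hyp.odd_prime (h : Hyp G) {e : G} (he : ∀ k : ℕ, e ^ 2 ^ k ≠ 1) :
    (orderOf e).Prime ∧ Odd (orderOf e) := by
  have h1 : e ≠ 1 := fun x => he 0 (by rw [x, one_pow])
  rcases h e h1 with ⟨k, hk⟩ | hp
  · exact absurd (hk ▸ pow_orderOf_eq_one e) (he k)
  · refine ⟨hp, hp.eq_two_or_odd'.resolve_left fun e2 => he 1 ?_⟩
    rw [pow_one, ← e2]
    exact pow_orderOf_eq_one e

theorem commute_of_mem_centralizer {S : Set G} {g s : G} (hg : g ∈ centralizer S) (hs : s ∈ S) :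
    Commute s g := mem_centralizer_iff.1 hg s hs

/-- The centraliser of an involution is a 2-group. -/
theorem Hyp.isPGroup_centralizer [Finite G] (h : Hyp G) {t : G} (ht : orderOf t = 2) :
    IsPGroup 2 (centralizer ({t} : Set G)) := by
  rintro ⟨g, hg⟩
  have hc : Commute g t := (commute_of_mem_centralizer hg rfl).symm
  by_contra hne
  push Not at hne
  have hne' : ∀ k : ℕ, g ^ 2 ^ k ≠ 1 := fun k e => hne k (Subtype.ext (by simpa using e))
  obtain ⟨-, hodd⟩ := h.odd_prime hne'
  rcases h.odd_of_commute hc hodd (k := 1) (by rw [pow_one, ← ht]; exact pow_orderOf_eq_one t)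
    with e | e
  · exact hne' 0 (by rw [e, one_pow])
  · rw [e, orderOf_one] at ht; omega

theorem mem_pGroup_pow {Q : Subgroup G} (hQ : IsPGroup 2 Q) {q : G} (hq : q ∈ Q) :
    ∃ k : ℕ, q ^ 2 ^ k = 1 := by
  obtain ⟨k, hk⟩ := hQ ⟨q, hq⟩
  exact ⟨k, by simpa using congrArg Subtype.val hk⟩

/-- An element of odd order fixes only `1` in a normalised 2-subgroup. -/
theorem Hyp.fpf [Finite G] (h : Hyp G) {Q : Subgroup G} (hQ : IsPGroup 2 Q) {x : G}
    (hx : Odd (orderOf x)) (hx1 : x ≠ 1) {q : G} (hq : q ∈ Q) (hc : x * q * x⁻¹ = q) : q = 1 := by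
  obtain ⟨k, hk⟩ := mem_pGroup_pow hQ hq
  exact (h.odd_of_commute (show Commute x q from mul_inv_eq_iff_eq_mul.1 hc) hx hk).resolve_left hx1

theorem isPGroup_two_odd_order {Q : Subgroup G} (hQ : IsPGroup 2 Q) {x : G} (hxQ : x ∈ Q)
    (hx : Odd (orderOf x)) : x = 1 := by
  obtain ⟨k, hk⟩ := mem_pGroup_pow hQ hxQ
  obtain ⟨i, -, hi⟩ := (Nat.dvd_prime_pow Nat.prime_two).1 (orderOf_dvd_of_pow_eq_one hk)
  rcases Nat.eq_zero_or_pos i with rfl | hi0
  · exact orderOf_eq_one_iff.1 (by simpa using hi)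
  · exact absurd (hi ▸ dvd_pow_self 2 (by omega) : 2 ∣ orderOf x) (Nat.two_dvd_ne_zero.2
      (Nat.odd_iff.1 hx))

end CfsgLib.EPPO21
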