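import Cfsg.Agent.Lib.EPPO21.Basic
import Cfsg.Agent.Lib.PLocal5.PGroupBasic

/-!
# Blocks: a 2-group with a normal subgroup normalised by an element of odd prime order

`Blk T Q p x` records a 2-group `T`, a normal subgroup `Q` normalised by the element `x` of odd
prime order `p`, such that every element of `T` normalises `⟨x⟩` after correction by an element of
`Q`.  The file proves the fixed point bound, the commutator lemma for blocks with `p = 3`, and the
behaviour of elementary abelian subgroups for `p ≥ 5`.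
-/

set_option autoImplicit false

namespace CfsgLib.EPPO21

open Subgroup

variable {G : Type*} [Group G]

/-- See the file header. -/
structure Blk (T Q : Subgroup G) (p : ℕ) (x : G) : Prop where
  hp : p.Prime
  hodd : p ≠ 2
  hT : IsPGroup 2 T
  hQT : Q ≤ T
  hQ : Q ≠ ⊥
  hQn : T ≤ normalizer (Q : Set G)
  hxo : orderOf x = p
  hxQ : x ∈ normalizer (Q : Set G)
  frat : ∀ s ∈ T, ∃ q ∈ Q, (q * s) * x * (q * s)⁻¹ ∈ zpowers x

theorem conj_mem_of_normalizer {H : Subgroup G} {g h : G} (hg : g ∈ normalizer (H : Set G))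
    (hh : h ∈ H) : g * h * g⁻¹ ∈ H := (mem_normalizer_iff.1 hg h).1 hh

theorem conj_mem_of_normalizer' {H : Subgroup G} {g h : G} (hg : g ∈ normalizer (H : Set G))
    (hh : h ∈ H) : g⁻¹ * h * g ∈ H := (mem_normalizer_iff''.1 hg h).1 hh

theorem mul_pow_mem {Q : Subgroup G} {y q : G} (hy : y ∈ normalizer (Q : Set G)) (hq : q ∈ Q)
    (n : ℕ) : (q * y) ^ n * (y ^ n)⁻¹ ∈ Q := by
  induction n with
  | zero => simp
  | succ n ih =>
    have e : (q * y) ^ (n + 1) * (y ^ (n + 1))⁻¹ =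
        q * (y * ((q * y) ^ n * (y ^ n)⁻¹) * y⁻¹) := by
      rw [pow_succ' (q * y) n, pow_succ' y n]; group
    rw [e]
    exact Q.mul_mem hq (conj_mem_of_normalizer hy ih)

theorem zpowers_le_normalizer {Q : Subgroup G} {x : G} (hx : x ∈ normalizer (Q : Set G)) :
    zpowers x ≤ normalizer (Q : Set G) := zpowers_le.2 hx

namespace Blk

variable {T Q : Subgroup G} {p : ℕ} {x : G}

theorem hQp (B : Blk T Q p x) : IsPGroup 2 Q := B.hT.to_le B.hQT

theorem odd_x (B : Blk T Q p x) : Odd (orderOf x) :=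
  B.hxo ▸ B.hp.eq_two_or_odd'.resolve_left B.hodd

theorem x_ne_one (B : Blk T Q p x) : x ≠ 1 := fun e =>
  B.hp.ne_one (by rw [← B.hxo, e, orderOf_one])

theorem three_le (B : Blk T Q p x) : 3 ≤ p := by
  have := B.hp.two_le; have := B.hodd; omega

theorem odd_zpow [Finite G] (B : Blk T Q p x) {y : G} (hy : y ∈ zpowers x) : Odd (orderOf y) :=
  B.odd_x.of_dvd_nat (orderOf_dvd_of_mem_zpowers hy)

theorem fpf [Finite G] (h : Hyp G) (B : Blk T Q p x) {q : G} (hq : q ∈ Q) (hc : x * q * x⁻¹ = q) :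
    q = 1 := h.fpf B.hQp B.odd_x B.x_ne_one hq hc

theorem x_not_mem_T (B : Blk T Q p x) : x ∉ T := fun hm =>
  B.x_ne_one (isPGroup_two_odd_order B.hT hm B.odd_x)

/-- A subgroup of `Q` centralised by an element of `T \ Q` meets its `x`-conjugate trivially. -/
theorem disjoint_conj [Finite G] (h : Hyp G) (B : Blk T Q p x) {s : G} (hs : s ∈ T) (hsQ : s ∉ Q)
    {c : G} (hc : c ∈ Q) (hcs : Commute s c) (hcx : Commute s (x⁻¹ * c * x)) : c = 1 := by
  obtain ⟨q, hq, hqs⟩ := B.frat s hs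
  have hx := B.hxQ
  set e := s⁻¹ * (x * s * x⁻¹) with he
  have hce : Commute e c := by
    have h2 : Commute (x * s * x⁻¹) c := by
      have h' := congrArg (fun g => x * g * x⁻¹) hcx.eq
      simp only [mul_assoc, mul_inv_cancel_left, mul_inv_cancel, mul_one] at h'
      change x * s * x⁻¹ * c = c * (x * s * x⁻¹)
      simp only [mul_assoc]
      exact h'
    exact hcs.inv_left.mul_left h2
  set w := q * s with hw
  have hwn : w ∈ normalizer (Q : Set G) :=
    mul_mem (Subgroup.le_normalizer hq) (B.hQn hs)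
  have hwT : w ∈ T := T.mul_mem (B.hQT hq) hs
  obtain ⟨i, hi⟩ := Subgroup.mem_zpowers_iff.1 hqs
  set y := w⁻¹ * x * w * x⁻¹ with hy
  have hyz : y ∈ zpowers x := by
    have hmem : w⁻¹ * x * w ∈ zpowers x := by
      have hall : ∀ n : ℕ, w ^ n * x * (w ^ n)⁻¹ ∈ zpowers x := by
        intro n
        induction n with
        | zero => simp
        | succ n ih =>
          obtain ⟨j, hj⟩ := Subgroup.mem_zpowers_iff.1 ih
          rw [show w ^ (n + 1) * x * (w ^ (n + 1))⁻¹ = w * (w ^ n * x * (w ^ n)⁻¹) * w⁻¹ by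
            rw [pow_succ']; group, ← hj, ← conj_zpow, ← hi, ← zpow_mul]
          exact zpow_mem_zpowers x _
      have hpos : 1 ≤ orderOf w := orderOf_pos w
      have hinv : w ^ (orderOf w - 1) = w⁻¹ :=
        eq_inv_of_mul_eq_one_left (by rw [← pow_succ, Nat.sub_add_cancel hpos, pow_orderOf_eq_one])
      have := hall (orderOf w - 1)
      rwa [hinv, inv_inv] at this
    exact mul_mem hmem (inv_mem (mem_zpowers x))
  obtain ⟨r, hr, her⟩ : ∃ r ∈ Q, e = r * y := by
    refine ⟨w⁻¹ * (q * (x * q * x⁻¹)⁻¹) * w, ?_, ?_⟩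
    · exact conj_mem_of_normalizer' hwn (Q.mul_mem hq (Q.inv_mem (conj_mem_of_normalizer hx hq)))
    · rw [he, hy, hw]; group
  have hy1 : y ≠ 1 := by
    intro e1
    have hcw : Commute x w := by
      rw [hy, mul_inv_eq_one, mul_assoc, inv_mul_eq_iff_eq_mul] at e1
      exact e1
    obtain ⟨k, hk⟩ := mem_pGroup_pow B.hT hwT
    rcases h.odd_of_commute hcw B.odd_x hk with e2 | e2
    · exact B.x_ne_one e2
    · exact hsQ (by
        rw [show s = q⁻¹ from (inv_eq_of_mul_eq_one_right e2).symm]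
        exact Q.inv_mem hq)
  have hne : ∀ k : ℕ, e ^ 2 ^ k ≠ 1 := by
    intro k hk
    have hm := mul_pow_mem (zpowers_le_normalizer hx hyz) hr (2 ^ k)
    rw [← her, hk, one_mul, inv_mem_iff] at hm
    have h1 : y ^ 2 ^ k = 1 :=
      isPGroup_two_odd_order B.hQp hm (B.odd_zpow (pow_mem hyz _))
    exact hy1 (by
      rcases h.odd_of_commute (Commute.refl y) (B.odd_zpow hyz) h1 with e1 | e1 <;> exact e1)
  obtain ⟨hpr, hodd⟩ := h.odd_prime hne
  obtain ⟨k, hk⟩ := mem_pGroup_pow B.hQp hc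
  refine (h.odd_of_commute hce hodd hk).resolve_left fun e1 => ?_
  exact hne 0 (by rw [e1, one_pow])

/-- The fixed point bound. -/
theorem card_sq_le [Finite G] (h : Hyp G) (B : Blk T Q p x) {s : G} (hs : s ∈ T) (hsQ : s ∉ Q)
    {W A : Subgroup G} (hWA : W ≤ A) (hAQ : A ≤ Q) (hxA : x ∈ normalizer (A : Set G))
    (hWs : ∀ c ∈ W, Commute s c) : Nat.card W * Nat.card W ≤ Nat.card A := by
  set W' := W.map (MulAut.conj x).toMonoidHom with hW'
  have hdis : Disjoint W W' := by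
    rw [Subgroup.disjoint_def]
    rintro c hc hc'
    obtain ⟨d, hd, rfl⟩ := hc'
    refine B.disjoint_conj h hs hsQ (hAQ (hWA hc)) (hWs _ hc) ?_
    have : x⁻¹ * ((MulAut.conj x).toMonoidHom d) * x = d := by simp [mul_assoc]
    rw [this]
    exact hWs d hd
  have hinj := Subgroup.mul_injective_of_disjoint hdis
  have hcard : Nat.card W' = Nat.card W :=
    Subgroup.card_map_of_injective (MulAut.conj x).injective
  let f : W × W' → A := fun g => ⟨g.1 * g.2, A.mul_mem (hWA g.1.2) (by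
    obtain ⟨d, hd, hd'⟩ := g.2.2
    rw [← hd']
    exact conj_mem_of_normalizer hxA (hWA hd))⟩
  have := Nat.card_le_card_of_injective f fun a b hab => hinj (congrArg Subtype.val hab)
  rwa [Nat.card_prod, hcard] at this

end Blk

/-- The central involutions of `Q`, with `1`. -/
def omegaZ (Q : Subgroup G) : Subgroup G where
  carrier := {g | g ∈ Q ∧ g * g = 1 ∧ ∀ r ∈ Q, g * r = r * g}
  one_mem' := ⟨Q.one_mem, one_mul 1, fun r _ => by rw [one_mul, mul_one]⟩
  mul_mem' := by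
    rintro a b ⟨ha, ha2, hac⟩ ⟨hb, hb2, hbc⟩
    refine ⟨Q.mul_mem ha hb, ?_, fun r hr => ?_⟩
    · rw [show a * b * (a * b) = a * (b * a) * b by group, hbc a ha, ← mul_assoc, ha2, one_mul, hb2]
    · rw [mul_assoc, hbc r hr, ← mul_assoc, hac r hr, mul_assoc]
  inv_mem' := by
    rintro a ⟨ha, ha2, hac⟩
    rw [inv_eq_of_mul_eq_one_right ha2]
    exact ⟨ha, ha2, hac⟩

theorem omegaZ_le (Q : Subgroup G) : omegaZ Q ≤ Q := fun _ h => h.1

theorem omegaZ_comm {Q : Subgroup G} {g r : G} (hg : g ∈ omegaZ Q) (hr : r ∈ Q) : Commute g r :=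
  hg.2.2 r hr

theorem conj_mem_omegaZ {Q : Subgroup G} {g v : G} (hg : g ∈ normalizer (Q : Set G))
    (hv : v ∈ omegaZ Q) : g * v * g⁻¹ ∈ omegaZ Q := by
  refine ⟨conj_mem_of_normalizer hg hv.1, ?_, fun r hr => ?_⟩
  · rw [show g * v * g⁻¹ * (g * v * g⁻¹) = g * (v * v) * g⁻¹ by group, hv.2.1]
    group
  · have := hv.2.2 _ (conj_mem_of_normalizer' hg hr)
    calc g * v * g⁻¹ * r = g * (v * (g⁻¹ * r * g)) * g⁻¹ := by group
      _ = g * (g⁻¹ * r * g * v) * g⁻¹ := by rw [this]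
      _ = r * (g * v * g⁻¹) := by group

theorem normalizer_le_omegaZ (Q : Subgroup G) :
    normalizer (Q : Set G) ≤ normalizer (omegaZ Q : Set G) := by
  intro g hg
  rw [mem_normalizer_iff]
  refine fun v => ⟨conj_mem_omegaZ hg, fun hv => ?_⟩
  have := conj_mem_omegaZ (inv_mem hg) hv
  rwa [show g⁻¹ * (g * v * g⁻¹) * g⁻¹⁻¹ = v by group] at this

theorem omegaZ_ne_bot [Finite G] {Q : Subgroup G} (hQ : IsPGroup 2 Q) (hne : Q ≠ ⊥) :
    omegaZ Q ≠ ⊥ := by
  haveI : Fact (Nat.Prime 2) := ⟨Nat.prime_two⟩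
  obtain ⟨z, -, hzc, hzo⟩ := PGroupBasic.exists_central_orderOf_eq hQ (⊤ : Subgroup Q) (by
    rw [Ne, ← Subgroup.card_eq_one, Subgroup.card_top]
    exact fun e => hne (Subgroup.card_eq_one.1 e))
  intro e
  have hmem : (z : G) ∈ omegaZ Q := by
    refine ⟨z.2, ?_, fun r hr => ?_⟩
    · have := pow_orderOf_eq_one z
      rw [hzo, pow_two] at this
      simpa using congrArg Subtype.val this
    · simpa using (congrArg Subtype.val (Subgroup.mem_center_iff.1 hzc ⟨r, hr⟩)).symm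
  rw [e, Subgroup.mem_bot, OneMemClass.coe_eq_one] at hmem
  rw [hmem, orderOf_one] at hzo
  omega

namespace Blk

variable {T Q : Subgroup G} {p : ℕ} {x : G}

theorem card_omegaZ [Finite G] (h : Hyp G) (B : Blk T Q p x) :
    ∃ i : ℕ, 1 ≤ i ∧ Nat.card (omegaZ Q) = 2 ^ i ∧ p ∣ 2 ^ i - 1 := by
  haveI : Fact p.Prime := ⟨B.hp⟩
  haveI : Fact (Nat.Prime 2) := ⟨Nat.prime_two⟩
  obtain ⟨i, hi⟩ := (B.hQp.to_le (omegaZ_le Q)).exists_card_eq
  have hne := omegaZ_ne_bot B.hQp B.hQ
  refine ⟨i, Nat.one_le_iff_ne_zero.2 fun e => hne ?_, hi, ?_⟩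
  · exact Subgroup.card_eq_one.1 (by rw [hi, e, pow_zero])
  let φ : zpowers x →* normalizer (omegaZ Q : Set G) :=
    Subgroup.inclusion ((zpowers_le_normalizer B.hxQ).trans (normalizer_le_omegaZ Q))
  letI : MulAction (zpowers x) (omegaZ Q) := MulAction.compHom _ φ
  have hP : IsPGroup p (zpowers x) :=
    IsPGroup.of_card (n := 1) (by rw [Nat.card_zpowers, B.hxo, pow_one])
  have hmod := hP.card_modEq_card_fixedPoints (omegaZ Q)
  have hfix : Nat.card (MulAction.fixedPoints (zpowers x) (omegaZ Q)) = 1 := by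
    rw [Nat.card_eq_one_iff_unique]
    refine ⟨⟨fun a b => ?_⟩, ⟨⟨1, fun g => ?_⟩⟩⟩
    · have key : ∀ a : MulAction.fixedPoints (zpowers x) (omegaZ Q), ((a.1 : omegaZ Q) : G) = 1 := by
        rintro ⟨a, ha⟩
        exact B.fpf h (omegaZ_le Q a.2) (congrArg Subtype.val (ha ⟨x, mem_zpowers x⟩))
      exact Subtype.ext (Subtype.ext ((key a).trans (key b).symm))
    · exact Subtype.ext (by
        change ((g : G) * 1 * (g : G)⁻¹) = 1
        group)
  rw [hi, hfix] at hmod
  exact (Nat.modEq_iff_dvd' (Nat.one_le_two_pow)).1 hmod.symm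

theorem four_le_omegaZ [Finite G] (h : Hyp G) (B : Blk T Q p x) : 4 ≤ Nat.card (omegaZ Q) := by
  obtain ⟨i, hi1, hi, hd⟩ := B.card_omegaZ h
  rcases Nat.lt_or_ge i 2 with hlt | hge
  · interval_cases i
    have := Nat.le_of_dvd (by norm_num) hd
    have := B.three_le
    omega
  · rw [hi]
    calc 4 = 2 ^ 2 := by norm_num
      _ ≤ 2 ^ i := Nat.pow_le_pow_right (by norm_num) hge

end Blk

end CfsgLib.EPPO21
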