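import Mathlib

/-!
# A trace criterion in the Hecke algebra of a monomial representation

Let `χ` be a linear character of `H ≤ G` and `t ∈ H` an involution with `t ^ G ∩ H` inside the kernel
and `{g | g⁻¹ t g ∈ H} = H`.  If every involution `i ∉ H` has an element `d ∈ H` with `i d i = d⁻¹`
and `χ d ^ 2 ≠ 1`, then the induced module is irreducible; in particular no `σ ∉ H` centralises
`H ∩ σ H σ⁻¹`.
-/

set_option autoImplicit false

namespace CfsgLib.EPPO21.Hecke

open MonoidAlgebra LinearMap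

variable {G : Type*} [Group G] [Fintype G]

theorem trace_left_right (t : G) (f : MonoidAlgebra ℂ G) :
    trace ℂ (MonoidAlgebra ℂ G) (mulLeft ℂ (single t (1 : ℂ)) ∘ₗ mulRight ℂ f) =
      ∑ g : G, f.coeff (g⁻¹ * t⁻¹ * g) := by
  classical
  rw [trace_eq_matrix_trace ℂ (MonoidAlgebra.basis G ℂ), Matrix.trace]
  refine Finset.sum_congr rfl fun g _ => ?_
  rw [Matrix.diag_apply, LinearMap.toMatrix_apply, LinearMap.comp_apply, mulRight_apply,
    mulLeft_apply, MonoidAlgebra.basis_apply]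
  change (single t (1 : ℂ) * (single g (1 : ℂ) * f)).coeff g = _
  rw [← mul_assoc, single_mul_single, mul_one, coeff_single_mul_apply, one_mul, mul_inv_rev]

theorem trace_right (f : MonoidAlgebra ℂ G) :
    trace ℂ (MonoidAlgebra ℂ G) (mulRight ℂ f) = Fintype.card G * f.coeff 1 := by
  have h : mulLeft ℂ (single (1 : G) (1 : ℂ)) ∘ₗ mulRight ℂ f = mulRight ℂ f := by
    ext a
    simp [← one_def]
  rw [← h, trace_left_right]
  simp

theorem trace_idem {M : Type*} [AddCommGroup M] [Module ℂ M] [FiniteDimensional ℂ M]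
    (P : M →ₗ[ℂ] M) (h : ∀ v, P (P v) = P v) :
    trace ℂ M P = Module.finrank ℂ (LinearMap.range P) :=
  IsProj.trace ⟨fun v => LinearMap.mem_range_self P v, fun v hv => by
    obtain ⟨w, rfl⟩ := hv
    exact h w⟩

variable (H : Subgroup G) [Fintype H] (χ : H →* ℂˣ)

/-- The idempotent of `χ`. -/
noncomputable def idem : MonoidAlgebra ℂ G :=
  (Nat.card H : ℂ)⁻¹ • ∑ h : H, single (h : G) (χ h : ℂ)

theorem card_ne_zero : (Nat.card H : ℂ) ≠ 0 := Nat.cast_ne_zero.2 Nat.card_pos.ne'

theorem single_mul_idem (k : H) :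
    single ((k : G)⁻¹) (1 : ℂ) * idem H χ = (χ k : ℂ) • idem H χ := by
  rw [idem, Algebra.mul_smul_comm, smul_comm (χ k : ℂ), Finset.mul_sum]
  congr 1
  rw [Finset.smul_sum]
  refine Fintype.sum_equiv (Equiv.mulLeft k⁻¹) _ _ fun h => ?_
  rw [single_mul_single, one_mul, smul_single]
  simp

theorem idem_mul_single (k : H) :
    idem H χ * single ((k : G)⁻¹) (1 : ℂ) = (χ k : ℂ) • idem H χ := by
  rw [idem, Algebra.smul_mul_assoc, smul_comm (χ k : ℂ), Finset.sum_mul]
  congr 1
  rw [Finset.smul_sum]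
  refine Fintype.sum_equiv (Equiv.mulRight k⁻¹) _ _ fun h => ?_
  rw [single_mul_single, mul_one, smul_single]
  simp [mul_left_comm (χ k : ℂ)]

theorem idem_mul_idem : idem H χ * idem H χ = idem H χ := by
  have key : ∀ h : H, single (h : G) (χ h : ℂ) * idem H χ = idem H χ := by
    intro h
    have h1 := single_mul_idem H χ h⁻¹
    rw [Subgroup.coe_inv, inv_inv] at h1
    rw [show single (h : G) (χ h : ℂ) = (χ h : ℂ) • single (h : G) (1 : ℂ) by simp,
      Algebra.smul_mul_assoc, h1, smul_smul]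
    simp
  rw [show idem H χ * idem H χ = ((Nat.card H : ℂ)⁻¹ • ∑ h : H, single (h : G) (χ h : ℂ)) *
    idem H χ from rfl, Algebra.smul_mul_assoc, Finset.sum_mul, Finset.sum_congr rfl fun h _ => key h,
    Finset.sum_const, Finset.card_univ, ← Nat.card_eq_fintype_card, ← Nat.cast_smul_eq_nsmul ℂ,
    smul_smul, inv_mul_cancel₀ (card_ne_zero H), one_smul]

theorem idem_coeff_of_mem {g : G} (hg : g ∈ H) :
    (idem H χ).coeff g = (Nat.card H : ℂ)⁻¹ * χ ⟨g, hg⟩ := by
  classical
  rw [idem, coeff_smul_apply, coeff_sum, Finsupp.finsetSum_apply, smul_eq_mul]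
  congr 1
  rw [Finset.sum_eq_single ⟨g, hg⟩]
  · simp
  · intro h _ hne
    rw [coeff_single]
    exact Finsupp.single_eq_of_ne fun e => hne (Subtype.ext e.symm)
  · intro h; exact absurd (Finset.mem_univ _) h

theorem idem_coeff_of_not_mem {g : G} (hg : g ∉ H) : (idem H χ).coeff g = 0 := by
  classical
  rw [idem, coeff_smul_apply, coeff_sum, Finsupp.finsetSum_apply, Finset.sum_eq_zero, smul_zero]
  intro h _
  rw [coeff_single]
  exact Finsupp.single_eq_of_ne fun e => hg (e ▸ h.2)

theorem idem_coeff_one : (idem H χ).coeff 1 = (Nat.card H : ℂ)⁻¹ := by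
  rw [idem_coeff_of_mem H χ H.one_mem, show (⟨1, H.one_mem⟩ : H) = 1 from rfl, map_one,
    Units.val_one, mul_one]

variable {H χ}

theorem coeff_left {f : MonoidAlgebra ℂ G} (hf : idem H χ * f = f) (k : H) (g : G) :
    f.coeff ((k : G) * g) = χ k * f.coeff g := by
  have h1 : single ((k : G)⁻¹) (1 : ℂ) * f = (χ k : ℂ) • f := by
    conv_lhs => rw [← hf, ← mul_assoc, single_mul_idem, Algebra.smul_mul_assoc, hf]
  have h2 := congrArg (fun a : MonoidAlgebra ℂ G => a.coeff g) h1
  simp only [coeff_single_mul_apply, coeff_smul_apply, inv_inv, one_mul, smul_eq_mul] at h2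
  exact h2

theorem coeff_right {f : MonoidAlgebra ℂ G} (hf : f * idem H χ = f) (k : H) (g : G) :
    f.coeff (g * (k : G)) = χ k * f.coeff g := by
  have h1 : f * single ((k : G)⁻¹) (1 : ℂ) = (χ k : ℂ) • f := by
    conv_lhs => rw [← hf, mul_assoc, idem_mul_single, Algebra.mul_smul_comm, hf]
  have h2 := congrArg (fun a : MonoidAlgebra ℂ G => a.coeff g) h1
  simp only [coeff_mul_single_apply, coeff_smul_apply, inv_inv, mul_one, smul_eq_mul] at h2
  exact h2

variable {t : G}

/-- Under the hypotheses every idempotent between `0` and `idem` is trivial. -/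
theorem idem_trivial (ht : t * t = 1) (htH : ∀ g, g⁻¹ * t * g ∈ H ↔ g ∈ H)
    (hker : ∀ g (hg : g⁻¹ * t * g ∈ H), χ ⟨g⁻¹ * t * g, hg⟩ = 1)
    (hout : ∀ i : G, i ∉ H → i * i = 1 → i ≠ 1 →
      ∃ d : H, i * (d : G) * i = (d : G)⁻¹ ∧ (χ d : ℂ) ^ 2 ≠ 1)
    {f : MonoidAlgebra ℂ G} (h1 : idem H χ * f = f) (h2 : f * idem H χ = f) (h3 : f * f = f) :
    f = 0 ∨ f = idem H χ := by
  classical
  have htinv : t⁻¹ = t := inv_eq_of_mul_eq_one_right ht
  have hval : ∀ g, f.coeff (g⁻¹ * t * g) = if g ∈ H then f.coeff 1 else 0 := by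
    intro g
    split_ifs with hg
    · have hm := (htH g).2 hg
      have := coeff_left h1 ⟨_, hm⟩ 1
      rw [mul_one, hker g hm] at this
      simpa using this
    · have hi : g⁻¹ * t * g ∉ H := fun e => hg ((htH g).1 e)
      obtain ⟨d, hd, hne⟩ := hout _ hi
        (by rw [show g⁻¹ * t * g * (g⁻¹ * t * g) = g⁻¹ * (t * t) * g by group, ht]; group)
        (fun e => hi (e ▸ H.one_mem))
      set i := g⁻¹ * t * g with hidef
      have hii : i⁻¹ = i := inv_eq_of_mul_eq_one_right (by
        rw [hidef, show g⁻¹ * t * g * (g⁻¹ * t * g) = g⁻¹ * (t * t) * g by group, ht]; group)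
      have hcomm : (d : G) * i = i * ((d⁻¹ : H) : G) := by
        rw [Subgroup.coe_inv, ← hd]
        calc (d : G) * i = (i⁻¹ * i) * d * i := by group
          _ = i * (i * d * i) := by rw [hii]; group
      have e1 := coeff_left h1 d i
      rw [hcomm, coeff_right h2] at e1
      by_contra hne0
      refine hne ?_
      have e2 : ((χ d⁻¹ : ℂˣ) : ℂ) = χ d := mul_right_cancel₀ hne0 e1
      rw [map_inv, Units.val_inv_eq_inv_val] at e2
      rw [pow_two]
      nth_rewrite 1 [← e2]
      exact inv_mul_cancel₀ (Units.ne_zero _)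
  set L := mulLeft ℂ (single t (1 : ℂ)) with hL
  set R := mulRight ℂ f with hR
  have hRR : ∀ v, R (R v) = R v := fun v => by simp [hR, mul_assoc, h3]
  have hLL : ∀ v, L (L v) = v := fun v => by
    simp [hL, ← mul_assoc, ht, ← one_def]
  have hLR : ∀ v, L (R v) = R (L v) := fun v => by simp [hL, hR, mul_assoc]
  have htrLR : trace ℂ (MonoidAlgebra ℂ G) (L ∘ₗ R) = Nat.card H * f.coeff 1 := by
    rw [hL, hR, trace_left_right]
    simp only [htinv, hval, ← Finset.sum_filter, Finset.sum_const, nsmul_eq_mul]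
    rw [Nat.card_eq_fintype_card, Fintype.card_subtype]
  set P := (1 / 2 : ℂ) • (R + L ∘ₗ R) with hP
  have hPP : ∀ v, P (P v) = P v := by
    intro v
    have e1 : R (L (R v)) = L (R v) := by rw [← hLR, hRR]
    have e2 : L (R (L (R v))) = R v := by rw [e1, hLL]
    simp only [hP, LinearMap.smul_apply, LinearMap.add_apply, LinearMap.comp_apply, map_smul,
      map_add, hRR, e1, hLL, smul_add, smul_smul]
    module
  have htrR : trace ℂ (MonoidAlgebra ℂ G) R = Fintype.card G * f.coeff 1 := trace_right f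
  set r := Module.finrank ℂ (LinearMap.range R) with hr
  set k := Module.finrank ℂ (LinearMap.range P)
  have hk : (k : ℂ) = (1 / 2) * (Fintype.card G * f.coeff 1 + Nat.card H * f.coeff 1) := by
    rw [← trace_idem P hPP, hP, map_smul, map_add, htrR, htrLR, smul_eq_mul]
  have hrr : (r : ℂ) = Fintype.card G * f.coeff 1 := by rw [← trace_idem R hRR, htrR]
  have hidem : ∀ v, mulRight ℂ (idem H χ) (mulRight ℂ (idem H χ) v) = mulRight ℂ (idem H χ) v :=
    fun v => by simp [mul_assoc, idem_mul_idem]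
  have hn : Module.finrank ℂ (LinearMap.range (mulRight ℂ (idem H χ))) = H.index := by
    have := trace_idem _ hidem
    rw [trace_right, idem_coeff_one, ← Nat.card_eq_fintype_card, ← H.card_mul_index,
      Nat.cast_mul, mul_comm (Nat.card H : ℂ), mul_assoc,
      mul_inv_cancel₀ (card_ne_zero H), mul_one] at this
    exact_mod_cast this.symm
  have hle : LinearMap.range R ≤ LinearMap.range (mulRight ℂ (idem H χ)) := by
    rintro _ ⟨v, rfl⟩
    exact ⟨R v, by simp [hR, mul_assoc, h2]⟩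
  have hrn : r ≤ H.index := hn ▸ Submodule.finrank_mono hle
  -- `r = index * (2 k - r)`
  have heq : (r : ℤ) = H.index * (2 * k - r) := by
    have hc : ((r : ℤ) : ℂ) = ((H.index * (2 * k - r) : ℤ) : ℂ) := by
      push_cast
      rw [hk, hrr, ← Nat.card_eq_fintype_card, ← H.card_mul_index, Nat.cast_mul]
      ring
    exact_mod_cast hc
  rcases Nat.eq_zero_or_pos r with h0 | hpos
  · left
    have : LinearMap.range R = ⊥ := Submodule.finrank_eq_zero.1 h0
    have h' := LinearMap.range_eq_bot.1 this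
    simpa [hR] using LinearMap.congr_fun h' 1
  · right
    have hm : (1 : ℤ) ≤ 2 * k - r := by
      by_contra hlt
      have : (H.index : ℤ) * (2 * k - r) ≤ 0 :=
        mul_nonpos_of_nonneg_of_nonpos (Int.natCast_nonneg _) (by omega)
      omega
    have hrn' : r = H.index := by
      refine le_antisymm hrn ?_
      have : (H.index : ℤ) * 1 ≤ H.index * (2 * k - r) :=
        mul_le_mul_of_nonneg_left hm (Int.natCast_nonneg _)
      omega
    have heq' := Submodule.eq_of_le_of_finrank_eq hle (hrn'.trans hn.symm)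
    obtain ⟨a, ha⟩ : idem H χ ∈ LinearMap.range R := heq' ▸ ⟨1, by simp⟩
    have he : idem H χ * f = idem H χ := by
      rw [← ha]; simp [hR, mul_assoc, h3]
    rw [← he, h1]

/-- No element outside `H` centralises `H ∩ σ H σ⁻¹`. -/
theorem exists_not_commute (ht : t * t = 1) (htH : ∀ g, g⁻¹ * t * g ∈ H ↔ g ∈ H)
    (hker : ∀ g (hg : g⁻¹ * t * g ∈ H), χ ⟨g⁻¹ * t * g, hg⟩ = 1)
    (hout : ∀ i : G, i ∉ H → i * i = 1 → i ≠ 1 →
      ∃ d : H, i * (d : G) * i = (d : G)⁻¹ ∧ (χ d : ℂ) ^ 2 ≠ 1)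
    {σ : G} (hσ : σ ∉ H) : ∃ h ∈ H, σ⁻¹ * h * σ ∈ H ∧ σ⁻¹ * h * σ ≠ h := by
  classical
  by_contra hcon
  push Not at hcon
  set e := idem H χ with he
  set c := e * single σ (1 : ℂ) * e with hc
  have hec : e * c = c := by simp [hc, he, ← mul_assoc, idem_mul_idem]
  have hce : c * e = c := by simp [hc, he, mul_assoc, idem_mul_idem]
  have heσ : e.coeff σ = 0 := idem_coeff_of_not_mem H χ hσ
  have hcσ : c.coeff σ ≠ 0 := by
    have hexp : c = ∑ a : H, ∑ b : H, single ((a : G) * σ * b)
        ((Nat.card H : ℂ)⁻¹ * (Nat.card H : ℂ)⁻¹ * ((χ a : ℂ) * χ b)) := by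
      simp only [hc, he, idem, Algebra.smul_mul_assoc, Algebra.mul_smul_comm, Finset.sum_mul,
        Finset.mul_sum, Finset.smul_sum, single_mul_single, smul_smul, smul_single, smul_eq_mul,
        mul_one]
      rw [Finset.sum_comm]
      refine Fintype.sum_congr _ _ fun a => Fintype.sum_congr _ _ fun b => ?_
      congr 1
      ring
    have hS : c.coeff σ = ∑ a : H, if σ⁻¹ * (a : G)⁻¹ * σ ∈ H then
        ((Nat.card H : ℂ)⁻¹ * (Nat.card H : ℂ)⁻¹) else 0 := by
      rw [hexp, coeff_sum, Finsupp.finsetSum_apply]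
      refine Finset.sum_congr rfl fun a _ => ?_
      rw [coeff_sum, Finsupp.finsetSum_apply]
      split_ifs with ha
      · have hb : σ⁻¹ * (a : G)⁻¹ * σ = (a : G)⁻¹ := hcon _ (H.inv_mem a.2) ha
        rw [Finset.sum_eq_single a⁻¹]
        · have : (a : G) * σ * ((a⁻¹ : H) : G) = σ := by
            rw [Subgroup.coe_inv]
            calc (a : G) * σ * (a : G)⁻¹ = (a : G) * σ * (σ⁻¹ * (a : G)⁻¹ * σ) := by rw [hb]
              _ = σ := by group
          rw [coeff_single, this, Finsupp.single_eq_same, map_inv, Units.val_inv_eq_inv_val,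
            mul_inv_cancel₀ (Units.ne_zero _), mul_one]
        · intro b _ hne
          rw [coeff_single]
          refine Finsupp.single_eq_of_ne fun e' => hne (Subtype.ext ?_)
          rw [Subgroup.coe_inv, ← hb]
          calc (b : G) = σ⁻¹ * (a : G)⁻¹ * ((a : G) * σ * b) := by group
            _ = σ⁻¹ * (a : G)⁻¹ * σ := by rw [← e']
        · intro h; exact absurd (Finset.mem_univ _) h
      · refine Finset.sum_eq_zero fun b _ => ?_
        rw [coeff_single]
        refine Finsupp.single_eq_of_ne fun e' => ha ?_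
        have : σ⁻¹ * (a : G)⁻¹ * σ = b := by
          calc σ⁻¹ * (a : G)⁻¹ * σ = σ⁻¹ * (a : G)⁻¹ * ((a : G) * σ * b) := by rw [← e']
            _ = b := by group
        rw [this]; exact b.2
    rw [hS, ← Finset.sum_filter, Finset.sum_const, nsmul_eq_mul]
    refine mul_ne_zero (Nat.cast_ne_zero.2 (Finset.card_ne_zero.2 ⟨1, ?_⟩))
      (mul_ne_zero (inv_ne_zero (card_ne_zero H)) (inv_ne_zero (card_ne_zero H)))
    simp
  -- an eigenvalue of `c` on `A e`
  set M := LinearMap.range (mulRight ℂ e) with hM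
  have hmem : ∀ v ∈ M, mulRight ℂ c v ∈ M := by
    intro v _
    exact ⟨v * c, by simp [mul_assoc, hce]⟩
  have hene : e ≠ 0 := fun h0 => by
    have := idem_coeff_one H χ
    rw [← he, h0] at this
    simp [eq_comm] at this
  haveI : Nontrivial M := ⟨⟨⟨e, 1, by simp⟩, 0, fun h => hene (congrArg Subtype.val h)⟩⟩
  obtain ⟨μ, hμ⟩ := Module.End.exists_eigenvalue ((mulRight ℂ c).restrict hmem)
  obtain ⟨w, hw⟩ := hμ.exists_hasEigenvector
  have hw1 : (w : MonoidAlgebra ℂ G) * c = μ • (w : MonoidAlgebra ℂ G) := by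
    simpa using congrArg Subtype.val hw.apply_eq_smul
  have hw2 : (w : MonoidAlgebra ℂ G) * e = w := by
    obtain ⟨a, ha⟩ := w.2
    rw [← ha]
    simp [mul_assoc, he, idem_mul_idem]
  let W : Submodule (MonoidAlgebra ℂ G) (MonoidAlgebra ℂ G) :=
    { carrier := {a | a * e = a ∧ a * c = μ • a}
      add_mem' := fun {a b} ha hb => ⟨by rw [add_mul, ha.1, hb.1],
        by rw [add_mul, ha.2, hb.2, smul_add]⟩
      zero_mem' := ⟨zero_mul _, by rw [zero_mul, smul_zero]⟩
      smul_mem' := fun b a ha => ⟨by rw [smul_eq_mul, mul_assoc, ha.1],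
        by rw [smul_eq_mul, mul_assoc, ha.2, Algebra.mul_smul_comm]⟩ }
  haveI : NeZero (Nat.card G : ℂ) := ⟨Nat.cast_ne_zero.2 Nat.card_pos.ne'⟩
  obtain ⟨π, hπ⟩ := MonoidAlgebra.exists_leftInverse_of_injective W.subtype W.ker_subtype
  set f : MonoidAlgebra ℂ G := (π e : MonoidAlgebra ℂ G) with hf
  have hfW : f ∈ W := (π e).2
  have hlin : ∀ a, (π (a * e) : MonoidAlgebra ℂ G) = a * f := by
    intro a
    rw [show a * e = a • e from rfl, map_smul]
    rfl
  have hfix : ∀ a ∈ W, a * f = a := by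
    intro a ha
    rw [← hlin, ha.1]
    exact congrArg Subtype.val (LinearMap.congr_fun hπ ⟨a, ha⟩)
  have hef : e * f = f := by
    rw [← hlin, he, idem_mul_idem]
  rcases idem_trivial ht htH hker hout hef hfW.1 (hfix f hfW) with h0 | h0
  · refine hw.2 (Subtype.ext ?_)
    have := hfix (w : MonoidAlgebra ℂ G) ⟨hw2, hw1⟩
    rw [h0, mul_zero] at this
    exact this.symm
  · have := hfW.2
    rw [h0, hec] at this
    refine hcσ ?_
    rw [this, coeff_smul_apply, heσ, smul_zero]

end CfsgLib.EPPO21.Hecke
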