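import Cfsg.Agent.Lib.EPPO21.Embedded
import Cfsg.Agent.Lib.EPPO21.Hecke
import Cfsg.Agent.S0225
import Cfsg.Agent.S1224

/-!
# The case of trivial-intersection Sylow 2-subgroups

If the setting is not the small case, the normaliser `M` of a Sylow 2-subgroup `T` is `T` extended by
a group of prime order and acts on its cosets as a Zassenhaus group.
-/

set_option autoImplicit false
set_option linter.style.haveILetI false

namespace CfsgLib.EPPO21

open Subgroup

variable {G : Type*} [Group G] [Finite G]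

/-- The configuration reached outside the small case. -/
structure Cfg (M T : Subgroup G) (p : ℕ) : Prop where
  hyp : Hyp G
  hp : p.Prime
  hodd : p ≠ 2
  hMTn : M ≤ normalizer (T : Set G)
  hTM : T ≤ M
  hT : IsPGroup 2 T
  hne : T ≠ ⊥
  two_mem : ∀ g ∈ M, (∃ k : ℕ, g ^ 2 ^ k = 1) → g ∈ T
  hcard : Nat.card M = Nat.card T * p
  hTsyl : ∀ S : Subgroup G, IsPGroup 2 S → T ≤ S → S = T
  hse : Cfsg.IsStronglyEmbedded M
  se_mem : ∀ i ∈ M, orderOf i = 2 → ∀ g : G, g * i * g⁻¹ ∈ M → g ∈ M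
  cent : ∀ i ∈ M, orderOf i = 2 → centralizer ({i} : Set G) = T
  hu : ∃ u : G, orderOf u = 2 ∧ u ∉ M
  inter : ∀ σ : G, σ ∉ M → Nat.card (M ⊓ cj σ M : Subgroup G) = p
  inv : ∀ i : G, i ∉ M → orderOf i = 2 → ∀ d ∈ M ⊓ cj i M, i * d * i = d⁻¹
  hp4 : p % 4 = 3

theorem orderOf_two_sq {t : G} (h : orderOf t = 2) : t * t = 1 := by
  rw [← pow_two, ← h]; exact pow_orderOf_eq_one t

theorem cj_eq_of_mem {M : Subgroup G} {m : G} (h : m ∈ M) : cj m M = M :=
  cj_eq_self (Subgroup.le_normalizer h)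

theorem eq_one_of_two_pow_odd {H : Subgroup G} (hH : Odd (Nat.card H)) {g : G} (hg : g ∈ H)
    {k : ℕ} (hk : g ^ 2 ^ k = 1) : g = 1 := by
  have h1 : orderOf g ∣ Nat.card H := by
    rw [← Subgroup.orderOf_mk g hg]; exact orderOf_dvd_natCard _
  have hco : (2 ^ k).Coprime (Nat.card H) := (Nat.coprime_two_left.2 hH).pow_left k
  exact orderOf_eq_one_iff.1 (Nat.eq_one_of_dvd_coprimes hco (orderOf_dvd_of_pow_eq_one hk) h1)

theorem card_eq_prime_of_exponent (h : Hyp G) {V D : Subgroup G} (hV : IsPGroup 2 V) (hVne : V ≠ ⊥)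
    {p : ℕ} [Fact p.Prime] (hp2 : p ≠ 2) (hne : D ≠ ⊥) (hD : ∀ d ∈ D, d ≠ 1 → orderOf d = p)
    (hDV : D ≤ normalizer (V : Set G)) : Nat.card D = p := by
  have hP : IsPGroup p D := fun d => by
    by_cases hd : d = 1
    · exact ⟨0, by rw [hd, one_pow]⟩
    · refine ⟨1, ?_⟩
      rw [pow_one, ← hD d d.2 (by simpa using hd), Subgroup.orderOf_coe]
      exact pow_orderOf_eq_one d
  refine le_antisymm (card_le_of_fpf h hV hVne hp2 hP hDV) ?_
  obtain ⟨i, hi⟩ := hP.exists_card_eq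
  rw [hi]
  refine Nat.le_self_pow (fun e => hne (Subgroup.card_eq_one.1 ?_)) p
  rw [hi, e, pow_zero]

theorem exists_cfg (S : Setting G) (hns : ¬ SmallCase G) : ∃ M T p, Cfg (G := G) M T p := by
  classical
  haveI : Fact (Nat.Prime 2) := ⟨Nat.prime_two⟩
  haveI := S.simple
  obtain ⟨t, ht⟩ := exists_prime_orderOf_dvd_card' (G := G) 2 (even_iff_two_dvd.1 S.heven)
  obtain ⟨M, -, hM⟩ := exists_maximal (isPGroup_zpowers_of_two ht) (zpowers_ne_bot_of_two ht)
  obtain ⟨R, -, hR⟩ := exists_sylIn (bot_le : ⊥ ≤ M) IsPGroup.of_bot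
  have hc : R = oTwo M := closed S hns hM hR
  set T := oTwo M with hT
  subst hc
  have hMTn := le_normalizer_oTwo M
  have hse := isStronglyEmbedded S hns hM
  have h2mem : ∀ g ∈ M, (∃ k : ℕ, g ^ 2 ^ k = 1) → g ∈ T := fun g hg hk =>
    hR.eq_of_map hg (hMTn hg) hk
  have hsemem : ∀ i ∈ M, orderOf i = 2 → ∀ g : G, g * i * g⁻¹ ∈ M → g ∈ M := by
    intro i hi hio g hg
    refine mem_of_cj_eq hM (eq_of_common S hns (cj_isMaximal hM) hM
      (isPGroup_zpowers_of_two (t := g * i * g⁻¹) (by rw [orderOf_conj_eq']; exact hio))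
      (zpowers_ne_bot_of_two (by rw [orderOf_conj_eq']; exact hio))
      (zpowers_le.2 (mem_cj.2 (by simpa [mul_assoc] using hi))) (zpowers_le.2 hg))
  have hcentle : ∀ i ∈ M, orderOf i = 2 → centralizer ({i} : Set G) ≤ T := by
    intro i hi hio g hg
    have hgi : g * i * g⁻¹ = i := by
      rw [mul_inv_eq_iff_eq_mul]; exact mem_centralizer_singleton_iff.1 hg
    obtain ⟨k, hk⟩ := S.hyp.isPGroup_centralizer hio ⟨g, hg⟩
    exact h2mem g (hsemem i hi hio g (by rw [hgi]; exact hi)) ⟨k, by simpa using congrArg Subtype.val hk⟩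
  obtain ⟨u₀, hu₀, hu₀M⟩ := exists_outside S hns hM
  obtain ⟨z, hzV, hz1⟩ := (omegaZ T).bot_or_exists_ne_one.resolve_left
    (omegaZ_ne_bot hR.2.1 (oTwo_ne_bot hM))
  have hzM : z ∈ M := hR.1 hzV.1
  have hzo : orderOf z = 2 := orderOf_two_of_sq hzV.2.1 hz1
  -- the odd subgroups `M ⊓ iMi`
  have hDodd : ∀ σ, σ ∉ M → Odd (Nat.card (M ⊓ cj σ M : Subgroup G)) := fun σ hσ => hse.2.2 σ hσ
  have htrans : ∀ i, i ∉ M → orderOf i = 2 → ∀ a ∈ M, orderOf a = 2 →
      ∃ d ∈ M ⊓ cj i M, d * z * d⁻¹ = a := fun i hi hio a ha hao =>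
    (Cfsg.Agent.S1225.result M hse i hio hi z a hzo hzM hao ha).1
  have hcentral : ∀ a ∈ M, orderOf a = 2 → a ∈ omegaZ T := by
    intro a ha hao
    obtain ⟨d, hd, rfl⟩ := htrans u₀ hu₀M hu₀ a ha hao
    exact conj_mem_omegaZ (hMTn hd.1) hzV
  have hcent : ∀ i ∈ M, orderOf i = 2 → centralizer ({i} : Set G) = T := fun i hi hio =>
    le_antisymm (hcentle i hi hio) fun g hg =>
      mem_centralizer_singleton_iff.2 (omegaZ_comm (hcentral i hi hio) hg).eq.symm
  have hDne : ∀ i, i ∉ M → orderOf i = 2 → M ⊓ cj i M ≠ ⊥ := by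
    intro i hi hio hbot
    have hone : ∀ a ∈ M, orderOf a = 2 → a = z := by
      intro a ha hao
      obtain ⟨d, hd, hda⟩ := htrans i hi hio a ha hao
      rw [hbot, Subgroup.mem_bot] at hd
      rw [hd] at hda
      simpa using hda.symm
    have hrank : ∀ E : Subgroup G, ¬ IsKleinFour E := by
      intro E hE
      have hE2 : IsPGroup 2 E := IsPGroup.of_card (n := 2) (by rw [hE.card_four]; norm_num)
      obtain ⟨P, hEP⟩ := hE2.exists_le_sylow
      obtain ⟨S', hTS'⟩ := hR.2.1.exists_le_sylow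
      have hS' : (S' : Subgroup G) = T := full S hns hM hR S'.2 hTS'
      obtain ⟨g, hg⟩ := MulAction.exists_smul_eq G P S'
      have hgE : ∀ a ∈ E, g * a * g⁻¹ ∈ M := by
        intro a ha
        refine hR.1 ?_
        rw [← hS', ← hg, Sylow.coe_subgroup_smul]
        exact Subgroup.smul_mem_pointwise_smul a (MulAut.conj g) _ (hEP ha)
      have h4 := hE.card_four
      have hsub : ∀ a : E, a = 1 ∨ g * (a : G) * g⁻¹ = z := by
        intro a
        by_cases ha : a = 1
        · exact Or.inl ha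
        · refine Or.inr (hone _ (hgE a a.2) ?_)
          rw [orderOf_conj_eq']
          refine orderOf_two_of_sq ?_ (by simpa using ha)
          simpa using congrArg Subtype.val (haveI := hE; IsKleinFour.mul_self a)
      have : Nat.card E ≤ 2 := by
        refine le_trans (Nat.card_le_card_of_injective
          (fun a : E => decide (a = 1)) ?_) (by simp)
        intro a b hab
        rcases hsub a with ha | ha <;> rcases hsub b with hb | hb
        · rw [ha, hb]
        · simp [ha] at hab; exact ha.trans hab.symm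
        · simp [hb] at hab; exact hab.trans hb.symm
        · exact Subtype.ext (mul_left_cancel (mul_right_cancel (ha.trans hb.symm)))
      omega
    obtain ⟨z', hz'o, N, hN, hNodd, hNc⟩ := Cfsg.Agent.S0225.result S.heven hrank
    rcases hN.eq_bot_or_eq_top with hb | htop
    · subst hb
      have hz'c : z' ∈ center G := mem_center_iff.2 fun g => by
        have := hNc g
        rw [Subgroup.mem_bot, mul_inv_eq_one, mul_inv_eq_iff_eq_mul] at this
        exact this.symm
      rcases (inferInstance : (center G).Normal).eq_bot_or_eq_top with e | e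
      · rw [e, Subgroup.mem_bot] at hz'c
        rw [hz'c, orderOf_one] at hz'o
        omega
      · exact hu₀M (hR.1 (hcentle z hzM hzo
          (mem_centralizer_singleton_iff.2 (mem_center_iff.1 (e ▸ mem_top z) u₀))))
    · subst htop
      rw [Subgroup.card_top] at hNodd
      exact (Nat.not_even_iff_odd.2 hNodd) S.heven
  -- the prime
  have hnotTwo : ∀ i, i ∉ M → ∀ d ∈ M ⊓ cj i M, d ≠ 1 → ∀ k : ℕ, d ^ 2 ^ k ≠ 1 :=
    fun i hi d hd hd1 k hk => hd1 (eq_one_of_two_pow_odd (hDodd i hi) hd hk)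
  obtain ⟨d₀, hd₀, hd₀1⟩ := (M ⊓ cj u₀ M).bot_or_exists_ne_one.resolve_left (hDne u₀ hu₀M hu₀)
  obtain ⟨hp, hpodd⟩ := S.hyp.odd_prime (hnotTwo u₀ hu₀M d₀ hd₀ hd₀1)
  set p := orderOf d₀ with hp'
  haveI : Fact p.Prime := ⟨hp⟩
  have hp2 : p ≠ 2 := fun e => by rw [e] at hpodd; exact absurd hpodd (by decide)
  have hMcard : (Nat.card M).primeFactors.card ≤ 2 := by
    obtain ⟨U, hU, hUne, hMU⟩ := hM.1
    rw [hMU]
    exact S.two_primes U hU hUne
  have horder : ∀ i, i ∉ M → ∀ d ∈ M ⊓ cj i M, d ≠ 1 → orderOf d = p := by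
    intro i hi d hd hd1
    obtain ⟨hr, hrodd⟩ := S.hyp.odd_prime (hnotTwo i hi d hd hd1)
    by_contra hne
    have hM2 : Nat.card M ≠ 0 := Nat.card_pos.ne'
    have hsub : ({2, p, orderOf d} : Finset ℕ) ⊆ (Nat.card M).primeFactors := by
      intro q hq
      simp only [Finset.mem_insert, Finset.mem_singleton] at hq
      rcases hq with rfl | rfl | rfl
      · exact Nat.mem_primeFactors.2 ⟨Nat.prime_two, even_iff_two_dvd.1 hse.2.1, hM2⟩
      · refine Nat.mem_primeFactors.2 ⟨hp, ?_, hM2⟩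
        rw [hp', ← Subgroup.orderOf_mk d₀ hd₀.1]; exact orderOf_dvd_natCard _
      · refine Nat.mem_primeFactors.2 ⟨hr, ?_, hM2⟩
        rw [← Subgroup.orderOf_mk d hd.1]; exact orderOf_dvd_natCard _
    have h3 : ({2, p, orderOf d} : Finset ℕ).card = 3 := by
      have h1 : (2 : ℕ) ≠ orderOf d := fun e => by rw [← e] at hrodd; exact absurd hrodd (by decide)
      rw [Finset.card_insert_of_notMem (by simp [Ne.symm hp2, h1]),
        Finset.card_insert_of_notMem (by simpa using Ne.symm hne), Finset.card_singleton]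
    have := (Finset.card_le_card hsub).trans hMcard
    omega
  have hDcard : ∀ i, i ∉ M → orderOf i = 2 → Nat.card (M ⊓ cj i M : Subgroup G) = p := fun i hi hio =>
    card_eq_prime_of_exponent S.hyp hR.2.1 (oTwo_ne_bot hM) hp2 (hDne i hi hio) (horder i hi)
      (inf_le_left.trans hMTn)
  have hMc : Nat.card M = Nat.card T * p := by
    let f : T × (M ⊓ cj u₀ M : Subgroup G) → M := fun a =>
      ⟨(a.2 : G) * a.1, M.mul_mem a.2.2.1 (hR.1 a.1.2)⟩
    have hf : Function.Bijective f := by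
      constructor
      · rintro ⟨a, b⟩ ⟨a', b'⟩ e
        have e' : (b : G) * a = b' * a' := congrArg Subtype.val e
        have h1 : (b' : G)⁻¹ * b = (a' : G) * (a : G)⁻¹ := by
          rw [eq_mul_inv_iff_mul_eq, mul_assoc, e', inv_mul_cancel_left]
        obtain ⟨k, hk⟩ := mem_pGroup_pow hR.2.1 (T.mul_mem a'.2 (T.inv_mem a.2))
        have h2 : (b' : G)⁻¹ * b = 1 :=
          eq_one_of_two_pow_odd (hDodd u₀ hu₀M) (mul_mem (inv_mem b'.2) b.2) (h1 ▸ hk)
        rw [h2] at h1
        exact Prod.ext (Subtype.ext (mul_inv_eq_one.1 h1.symm).symm)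
          (Subtype.ext (inv_mul_eq_one.1 h2).symm)
      · rintro ⟨m, hm⟩
        obtain ⟨d, hd, hdz⟩ := htrans u₀ hu₀M hu₀ (m * z * m⁻¹)
          (M.mul_mem (M.mul_mem hm hzM) (M.inv_mem hm)) (by rw [orderOf_conj_eq']; exact hzo)
        have hmem : d⁻¹ * m ∈ T := hcentle z hzM hzo (mem_centralizer_singleton_iff.2 (by
          calc d⁻¹ * m * z = d⁻¹ * (m * z * m⁻¹) * m := by group
            _ = d⁻¹ * (d * z * d⁻¹) * m := by rw [hdz]
            _ = z * (d⁻¹ * m) := by group))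
        exact ⟨⟨⟨_, hmem⟩, ⟨d, hd⟩⟩, Subtype.ext (mul_inv_cancel_left d m)⟩
    rw [← Nat.card_eq_of_bijective f hf, Nat.card_prod, hDcard u₀ hu₀M hu₀]
  -- every coset is swapped with `M` by an involution
  have hinter : ∀ σ, σ ∉ M → Nat.card (M ⊓ cj σ M : Subgroup G) = p := by
    intro σ hσ
    have hne : ((1 : G) : G ⧸ M) ≠ (σ : G ⧸ M) := fun e => hσ (by
      rw [QuotientGroup.eq] at e; simpa using e)
    have hpos : 0 < Nat.card {i : G // orderOf i = 2 ∧ i • ((1 : G) : G ⧸ M) = (σ : G ⧸ M)} := by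
      rw [Cfsg.Agent.S1224.result M hse _ _ hne]
      haveI : Nonempty {t : G // orderOf t = 2 ∧ t ∈ M} := ⟨⟨z, hzo, hzM⟩⟩
      exact Nat.card_pos
    obtain ⟨⟨i, hio, hi⟩⟩ := (Nat.card_pos_iff.1 hpos).1
    rw [MulAction.Quotient.smul_coe, smul_eq_mul, mul_one, QuotientGroup.eq] at hi
    have hcj : cj i M = cj σ M := by
      rw [show σ = i * (i⁻¹ * σ) by group, ← cj_cj, cj_eq_of_mem hi]
    have hiM : i ∉ M := fun h => hσ (by simpa using M.mul_mem h hi)
    rw [← hcj]
    exact hDcard i hiM hio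
  have hinv : ∀ i : G, i ∉ M → orderOf i = 2 → ∀ d ∈ M ⊓ cj i M, i * d * i = d⁻¹ := by
    intro i hi hio d hd
    have hii := orderOf_two_sq hio
    have hinv' : i⁻¹ = i := inv_eq_of_mul_eq_one_right hii
    set d' := i * d * i with hd'
    have hd'D : d' ∈ M ⊓ cj i M := by
      refine ⟨?_, ?_⟩
      · have := mem_cj.1 hd.2
        rwa [hinv'] at this
      · show d' ∈ cj i M
        rw [mem_cj, hinv', hd', show i * (i * d * i) * i = (i * i) * d * (i * i) by group, hii,
          one_mul, mul_one]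
        exact hd.1
    haveI : IsCyclic (M ⊓ cj i M : Subgroup G) := isCyclic_of_prime_card (hDcard i hi hio)
    have hcom : d * d' = d' * d := congrArg Subtype.val
      ((IsCyclic.commGroup (α := (M ⊓ cj i M : Subgroup G))).mul_comm ⟨d, hd⟩ ⟨d', hd'D⟩)
    have he : Commute (d * d') i := by
      change d * d' * i = i * (d * d')
      calc d * d' * i = d * i * d * (i * i) := by rw [hd']; group
        _ = d * i * d := by rw [hii, mul_one]
        _ = (i * i) * d * i * d := by rw [hii, one_mul]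
        _ = i * (d' * d) := by rw [hd']; group
        _ = i * (d * d') := by rw [hcom]
    have hmem : d * d' ∈ M ⊓ cj i M := mul_mem hd hd'D
    have hodd' : Odd (orderOf (d * d')) := by
      refine (hDodd i hi).of_dvd_nat ?_
      rw [← Subgroup.orderOf_mk _ hmem]
      exact orderOf_dvd_natCard _
    rcases S.hyp.odd_of_commute he hodd' (k := 1) (by rw [pow_one, pow_two, hii]) with e | e
    · exact eq_inv_of_mul_eq_one_right e
    · rw [e, orderOf_one] at hio; omega
  refine ⟨M, T, p,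
    { hyp := S.hyp, hp := hp, hodd := hp2, hMTn := hMTn, hTM := hR.1, hT := hR.2.1,
      hne := oTwo_ne_bot hM, two_mem := h2mem, hcard := hMc,
      hTsyl := fun S' hS' hle => full S hns hM hR hS' hle, hse := hse, se_mem := hsemem,
      cent := hcent, hu := ⟨u₀, hu₀, hu₀M⟩, inter := hinter, inv := hinv, hp4 := ?_ }⟩
  -- `p + 1` is the order of the group of central involutions
  obtain ⟨n, hn⟩ := (hR.2.1.to_le (omegaZ_le T)).exists_card_eq
  have hI : Nat.card {a : omegaZ T // a ≠ 1} = p := by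
    rw [← hDcard u₀ hu₀M hu₀]
    let f : (M ⊓ cj u₀ M : Subgroup G) → {a : omegaZ T // a ≠ 1} := fun d =>
      ⟨⟨_, conj_mem_omegaZ (hMTn d.2.1) hzV⟩, fun e => hz1 (conj_eq_one_iff.1 (congrArg Subtype.val e))⟩
    refine (Nat.card_eq_of_bijective f ⟨fun a b e => ?_, fun a => ?_⟩).symm
    · have e' : (a : G) * z * (a : G)⁻¹ = (b : G) * z * (b : G)⁻¹ :=
        congrArg (fun c : {a : omegaZ T // a ≠ 1} => ((c.1 : omegaZ T) : G)) e
      have hmem : (b : G)⁻¹ * a ∈ T := hcentle z hzM hzo (mem_centralizer_singleton_iff.2 (by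
        calc (b : G)⁻¹ * a * z = (b : G)⁻¹ * ((a : G) * z * (a : G)⁻¹) * a := by group
          _ = (b : G)⁻¹ * ((b : G) * z * (b : G)⁻¹) * a := by rw [e']
          _ = z * ((b : G)⁻¹ * a) := by group))
      obtain ⟨k, hk⟩ := mem_pGroup_pow hR.2.1 hmem
      exact Subtype.ext (inv_mul_eq_one.1
        (eq_one_of_two_pow_odd (hDodd u₀ hu₀M) (mul_mem (inv_mem b.2) a.2) hk)).symm
    · obtain ⟨⟨a, ha⟩, ha1⟩ := a
      obtain ⟨d, hd, hda⟩ := htrans u₀ hu₀M hu₀ a (hR.1 ha.1)
        (orderOf_two_of_sq ha.2.1 fun e => ha1 (Subtype.ext e))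
      exact ⟨⟨d, hd⟩, Subtype.ext (Subtype.ext hda)⟩
  haveI := Fintype.ofFinite (omegaZ T)
  have h1 : Nat.card {a : omegaZ T // a ≠ 1} = 2 ^ n - 1 := by
    rw [← hn, Nat.card_eq_fintype_card, Nat.card_eq_fintype_card, Fintype.card_subtype_compl,
      Fintype.card_subtype_eq]
  have hp3 : 3 ≤ p := by have := hp.two_le; omega
  have h2n : 2 ≤ n := by
    by_contra hlt
    interval_cases n <;> omega
  have h4 : 4 ∣ 2 ^ n := pow_dvd_pow 2 h2n
  omega

end CfsgLib.EPPO21
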