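import Cfsg.Agent.Lib.EPPO21.Local
import Cfsg.Agent.S1225

/-!
# Uniqueness of the maximal 2-local over a Sylow 2-subgroup

Outside the small case (a block with `p = 3` on a group of order 8) every maximal 2-local is strongly
embedded and has a normal Sylow 2-subgroup.
-/

set_option autoImplicit false
set_option linter.style.haveILetI false

namespace CfsgLib.EPPO21

open Subgroup

variable {G : Type*} [Group G] [Finite G]

/-- A block with `p = 3` over a group of order 8. -/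
def SmallCase (G : Type*) [Group G] : Prop :=
  ∃ (M R : Subgroup G) (x : G), Cfsg.IsMaximalTwoLocal M ∧ SylIn M R ∧ x ∈ M ∧
    Blk R (oTwo M) 3 x ∧ R ≠ oTwo M ∧ Nat.card R = 8

/-- The join of the elementary abelian subgroups of maximal order. -/
def jSub (T : Subgroup G) : Subgroup G := sSup {A | MaxEl T A}

theorem jSub_le (T : Subgroup G) : jSub T ≤ T := sSup_le fun _ hA => hA.1

theorem exists_maxEl {T : Subgroup G} (hT : IsPGroup 2 T) (hne : T ≠ ⊥) :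
    ∃ A, MaxEl T A ∧ A ≠ ⊥ := by
  obtain ⟨A, ⟨hA1, hA2⟩, hmax⟩ := Set.exists_max_image
    {A : Subgroup G | A ≤ T ∧ ∀ a ∈ A, a * a = 1} (fun A => Nat.card A) (Set.toFinite _)
    ⟨⊥, bot_le, fun a ha => by rw [Subgroup.mem_bot.1 ha, one_mul]⟩
  refine ⟨A, ⟨hA1, hA2, fun E hE1 hE2 => hmax E ⟨hE1, hE2⟩⟩, fun e => ?_⟩
  have h := hmax (omegaZ T) ⟨omegaZ_le T, fun a ha => ha.2.1⟩
  simp only [e, Subgroup.card_bot] at h
  exact omegaZ_ne_bot hT hne (Subgroup.card_eq_one.1 (le_antisymm h Nat.card_pos))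

theorem jSub_ne_bot {T : Subgroup G} (hT : IsPGroup 2 T) (hne : T ≠ ⊥) : jSub T ≠ ⊥ := by
  obtain ⟨A, hA, hA1⟩ := exists_maxEl hT hne
  exact fun e => hA1 (le_bot_iff.1 (e ▸ le_sSup hA))

theorem normalizer_jSub {M R : Subgroup G} (hM : Cfsg.IsMaximalTwoLocal M) (hR : SylIn M R)
    (hall : ∀ A, MaxEl R A → A ≤ oTwo M) : normalizer (jSub R : Set G) = M := by
  have hQR := oTwo_le_sylIn hR
  have hne : R ≠ ⊥ := fun e => oTwo_ne_bot hM (le_bot_iff.1 (e ▸ hQR))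
  have hconj : ∀ m ∈ M, ∀ A, MaxEl R A → MaxEl R (A.map (MulAut.conj m).toMonoidHom) := by
    intro m hm A hA
    refine ⟨?_, ?_, fun E hE1 hE2 => ?_⟩
    · rintro _ ⟨a, ha, rfl⟩
      exact hQR (conj_mem_of_normalizer (le_normalizer_oTwo M hm) (hall A hA ha))
    · rintro _ ⟨a, ha, rfl⟩
      rw [← map_mul, hA.2.1 a ha, map_one]
    · rw [Subgroup.card_map_of_injective (MulAut.conj m).injective]
      exact hA.2.2 E hE1 hE2
  have hle : ∀ m ∈ M, ∀ n ∈ jSub R, m * n * m⁻¹ ∈ jSub R := by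
    intro m hm n hn
    have h1 : jSub R ≤ (jSub R).comap (MulAut.conj m).toMonoidHom :=
      sSup_le fun A hA => Subgroup.map_le_iff_le_comap.1 (le_sSup (hconj m hm A hA))
    exact h1 hn
  refine hM.2 _ ⟨jSub R, hR.2.1.to_le (jSub_le R), jSub_ne_bot hR.2.1 hne, rfl⟩ fun m hm => ?_
  rw [mem_normalizer_iff]
  refine fun n => ⟨hle m hm n, fun hn => ?_⟩
  have := hle _ (M.inv_mem hm) _ hn
  rwa [show m⁻¹ * (m * n * m⁻¹) * m⁻¹⁻¹ = n by group] at this

theorem card_eq_two_mul (h : Hyp G) {R Q : Subgroup G} {x : G} (B : Blk R Q 3 x) (hne : R ≠ Q) :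
    Nat.card R = 2 * Nat.card Q := by
  have hle := B.card_le_two h (by norm_num)
  obtain ⟨d, hd⟩ := Subgroup.card_dvd_of_le B.hQT
  have hne' : Nat.card R ≠ Nat.card Q := fun e =>
    hne (Subgroup.eq_of_le_of_card_ge B.hQT e.le).symm
  have hpos : 0 < Nat.card Q := Nat.card_pos
  have hTpos : 0 < Nat.card R := Nat.card_pos
  have hd2 : d ≤ 2 := by nlinarith
  interval_cases d <;> simp_all [mul_comm]

theorem two_blks_aux (S : Setting G) (hns : ¬ SmallCase G) {M₁ M₂ R : Subgroup G}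
    (hM₁ : Cfsg.IsMaximalTwoLocal M₁) (hM₂ : Cfsg.IsMaximalTwoLocal M₂) (hR₁ : SylIn M₁ R)
    (hR₂ : SylIn M₂ R) (h₁ : R ≠ oTwo M₁) (h₂ : R ≠ oTwo M₂) {p₁ : ℕ} {x₁ x₂ : G}
    (B₁ : Blk R (oTwo M₁) p₁ x₁) (hx₂ : x₂ ∈ M₂) (B₂ : Blk R (oTwo M₂) 3 x₂) : M₁ = M₂ := by
  by_cases hle : oTwo M₁ ≤ oTwo M₂
  · by_cases hp : p₁ = 3
    · subst hp
      have e1 := card_eq_two_mul S.hyp B₁ h₁
      have e2 := card_eq_two_mul S.hyp B₂ h₂
      have : oTwo M₁ = oTwo M₂ := Subgroup.eq_of_le_of_card_ge hle (by omega)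
      rw [← normalizer_oTwo hM₁, this, normalizer_oTwo hM₂]
    · rw [← normalizer_jSub hM₁ hR₁ fun A hA => B₁.maxEl_le S.hyp hp hA,
        normalizer_jSub hM₂ hR₂ fun A hA => (B₁.maxEl_le S.hyp hp hA).trans hle]
  · obtain ⟨-, h8⟩ := amalgam S.hyp B₁ B₂ (fun hle' => h₁ (le_antisymm hle' B₁.hQT)) hle
    exact absurd ⟨M₂, R, x₂, hM₂, hR₂, hx₂, B₂, h₂, h8⟩ hns

theorem two_blks (S : Setting G) (hns : ¬ SmallCase G) {M₁ M₂ R : Subgroup G}
    (hM₁ : Cfsg.IsMaximalTwoLocal M₁) (hM₂ : Cfsg.IsMaximalTwoLocal M₂) (hR₁ : SylIn M₁ R)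
    (hR₂ : SylIn M₂ R) (h₁ : R ≠ oTwo M₁) (h₂ : R ≠ oTwo M₂) : M₁ = M₂ := by
  obtain ⟨p₁, x₁, hx₁, B₁⟩ := exists_blk S hM₁ hR₁ h₁
  obtain ⟨p₂, x₂, hx₂, B₂⟩ := exists_blk S hM₂ hR₂ h₂
  by_cases hp₂ : p₂ = 3
  · subst hp₂
    exact two_blks_aux S hns hM₁ hM₂ hR₁ hR₂ h₁ h₂ B₁ hx₂ B₂
  by_cases hp₁ : p₁ = 3
  · subst hp₁
    exact (two_blks_aux S hns hM₂ hM₁ hR₂ hR₁ h₂ h₁ B₂ hx₁ B₁).symm
  rw [← normalizer_jSub hM₁ hR₁ fun A hA => B₁.maxEl_le S.hyp hp₁ hA,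
    normalizer_jSub hM₂ hR₂ fun A hA => B₂.maxEl_le S.hyp hp₂ hA]

/-- The image of a subgroup under conjugation. -/
def cj (g : G) (M : Subgroup G) : Subgroup G := M.map (MulAut.conj g).toMonoidHom

omit [Finite G] in
theorem mem_cj {g a : G} {M : Subgroup G} : a ∈ cj g M ↔ g⁻¹ * a * g ∈ M := by
  constructor
  · rintro ⟨b, hb, rfl⟩
    simpa [mul_assoc] using hb
  · intro h
    exact ⟨_, h, by simp [mul_assoc]⟩

omit [Finite G] in
theorem cj_cj (g k : G) (M : Subgroup G) : cj g (cj k M) = cj (g * k) M := by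
  ext a; simp [mem_cj, mul_assoc]

omit [Finite G] in
theorem cj_one (M : Subgroup G) : cj 1 M = M := by ext a; simp [mem_cj]

omit [Finite G] in
theorem cj_mono {g : G} {M N : Subgroup G} (h : M ≤ N) : cj g M ≤ cj g N := map_mono h

omit [Finite G] in
theorem cj_eq_self {g : G} {M : Subgroup G} (h : g ∈ normalizer (M : Set G)) : cj g M = M := by
  ext a; rw [mem_cj]; exact (mem_normalizer_iff''.1 h a).symm

omit [Finite G] in
theorem mem_normalizer_of_cj {g : G} {M : Subgroup G} (h : cj g M = M) :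
    g ∈ normalizer (M : Set G) :=
  mem_normalizer_iff''.2 fun a => by rw [← mem_cj, h]

omit [Finite G] in
theorem cj_normalizer (g : G) (U : Subgroup G) :
    cj g (normalizer (U : Set G)) = normalizer (cj g U : Set G) := by
  ext a
  rw [mem_cj, mem_normalizer_iff, mem_normalizer_iff]
  constructor
  · intro h n
    rw [mem_cj, mem_cj, h (g⁻¹ * n * g)]
    constructor <;> intro hh <;> convert hh using 1 <;> group
  · intro h n
    have := h (g * n * g⁻¹)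
    simp only [mem_cj] at this
    convert this using 2 <;> group

theorem cj_isTwoLocal {g : G} {M : Subgroup G} (h : Cfsg.IsTwoLocal M) : Cfsg.IsTwoLocal (cj g M) := by
  obtain ⟨U, hU, hne, rfl⟩ := h
  refine ⟨cj g U, hU.map _, ?_, cj_normalizer g U⟩
  rw [cj, Ne, map_eq_bot_iff_of_injective _ (MulAut.conj g).injective]
  exact hne

theorem cj_isMaximal {g : G} {M : Subgroup G} (h : Cfsg.IsMaximalTwoLocal M) :
    Cfsg.IsMaximalTwoLocal (cj g M) := by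
  refine ⟨cj_isTwoLocal h.1, fun N hN hle => ?_⟩
  have := h.2 (cj g⁻¹ N) (cj_isTwoLocal hN) (by
    have h1 := cj_mono (g := g⁻¹) hle
    rwa [cj_cj, inv_mul_cancel, cj_one] at h1)
  rw [← this, cj_cj, mul_inv_cancel, cj_one]

theorem cj_sylIn {g : G} {M R : Subgroup G} (h : SylIn M R) : SylIn (cj g M) (cj g R) := by
  refine ⟨cj_mono h.1, h.2.1.map _, fun S hS hS2 hRS => ?_⟩
  have := h.2.2 (cj g⁻¹ S) (by
    have h1 := cj_mono (g := g⁻¹) hS
    rwa [cj_cj, inv_mul_cancel, cj_one] at h1) (hS2.map _) (by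
    have h1 := cj_mono (g := g⁻¹) hRS
    rwa [cj_cj, inv_mul_cancel, cj_one] at h1)
  rw [← this, cj_cj, mul_inv_cancel, cj_one]

theorem oTwo_cj (g : G) (M : Subgroup G) : oTwo (cj g M) = cj g (oTwo M) := by
  have key : ∀ (k : G) (N : Subgroup G), cj k (oTwo N) ≤ oTwo (cj k N) := fun k N =>
    le_oTwo ((isPGroup_oTwo N).map _) (cj_mono (oTwo_le N))
      (by rw [← cj_normalizer]; exact cj_mono (le_normalizer_oTwo N))
  refine le_antisymm ?_ (key g M)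
  have h := cj_mono (g := g) (key g⁻¹ (cj g M))
  rw [cj_cj, mul_inv_cancel, cj_one, cj_cj, inv_mul_cancel, cj_one] at h
  exact h

theorem mem_of_cj_eq {g : G} {M : Subgroup G} (hM : Cfsg.IsMaximalTwoLocal M) (h : cj g M = M) :
    g ∈ M := by
  rw [← normalizer_oTwo hM]
  refine mem_normalizer_of_cj ?_
  rw [← oTwo_cj, h]

theorem exists_normalizing {D R : Subgroup G} (hR : IsPGroup 2 R) (h : D < R) :
    ∃ y ∈ R, y ∈ normalizer (D : Set G) ∧ y ∉ D := by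
  haveI : Fact (Nat.Prime 2) := ⟨Nat.prime_two⟩
  haveI : Group.IsNilpotent R := hR.isNilpotent
  have hlt : D.subgroupOf R < normalizer (D.subgroupOf R : Set R) := by
    refine Group.normalizerCondition_of_isNilpotent _ (lt_top_iff_ne_top.2 fun e => ?_)
    rw [Subgroup.subgroupOf_eq_top] at e
    exact not_le_of_gt h e
  obtain ⟨⟨y, hyR⟩, hy, hyD⟩ := SetLike.exists_of_lt hlt
  refine ⟨y, hyR, mem_normalizer_iff.2 fun n => ?_, hyD⟩
  constructor
  · intro hn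
    exact (mem_normalizer_iff.1 hy ⟨n, h.le hn⟩).1 hn
  · intro hn
    have h2 : y⁻¹ * (y * n * y⁻¹) * y ∈ R := R.mul_mem (R.mul_mem (R.inv_mem hyR) (h.le hn)) hyR
    rw [show y⁻¹ * (y * n * y⁻¹) * y = n by group] at h2
    exact (mem_normalizer_iff.1 hy ⟨n, h2⟩).2 hn

/-- Every maximal 2-local contains a Sylow 2-subgroup of `G`. -/
theorem full (S : Setting G) (hns : ¬ SmallCase G) {M R : Subgroup G}
    (hM : Cfsg.IsMaximalTwoLocal M) (hR : SylIn M R) {T : Subgroup G} (hT : IsPGroup 2 T)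
    (hRT : R ≤ T) : T = R := by
  by_contra hne
  obtain ⟨y, hyT, hy, hyR⟩ := exists_normalizing hT (lt_of_le_of_ne hRT (Ne.symm hne))
  have hyM : y ∉ M := fun h => hyR (hR.eq_of_map h hy (mem_pGroup_pow hT hyT))
  by_cases hc : R = oTwo M
  · exact hyM (normalizer_sylIn_le hM hc hy)
  · have hR' : SylIn (cj y M) R := by
      have := cj_sylIn (g := y) hR
      rwa [cj_eq_self hy] at this
    have hc' : R ≠ oTwo (cj y M) := by
      intro e
      rw [oTwo_cj] at e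
      refine hc ?_
      have h2 := congrArg (cj y⁻¹) e
      rwa [cj_cj, inv_mul_cancel, cj_one, cj_eq_self (inv_mem hy)] at h2
    exact hyM (mem_of_cj_eq hM (two_blks S hns hM (cj_isMaximal hM) hR hR' hc hc').symm)

theorem unique (S : Setting G) (hns : ¬ SmallCase G) {M₁ M₂ T : Subgroup G}
    (hM₁ : Cfsg.IsMaximalTwoLocal M₁) (hM₂ : Cfsg.IsMaximalTwoLocal M₂) (h₁ : SylIn M₁ T)
    (h₂ : SylIn M₂ T) : M₁ = M₂ := by
  have key : ∀ {M N : Subgroup G}, Cfsg.IsMaximalTwoLocal M → Cfsg.IsMaximalTwoLocal N →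
      SylIn M T → SylIn N T → T ≠ oTwo M → T = oTwo N → M = N := by
    intro M N hM hN hMT hNT hc hc'
    refine hN.2 M hM.1 fun y hy => ?_
    have hyT : y ∈ normalizer (T : Set G) := by rw [hc', normalizer_oTwo hN]; exact hy
    refine mem_of_cj_eq hM ?_
    refine two_blks S hns (cj_isMaximal hM) hM ?_ hMT ?_ hc
    · have := cj_sylIn (g := y) hMT
      rwa [cj_eq_self hyT] at this
    · intro e
      rw [oTwo_cj] at e
      refine hc ?_
      have h2 := congrArg (cj y⁻¹) e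
      rwa [cj_cj, inv_mul_cancel, cj_one, cj_eq_self (inv_mem hyT)] at h2
  by_cases hc₁ : T = oTwo M₁
  · by_cases hc₂ : T = oTwo M₂
    · rw [← normalizer_oTwo hM₁, ← hc₁, hc₂, normalizer_oTwo hM₂]
    · exact (key hM₂ hM₁ h₂ h₁ hc₂ hc₁).symm
  · by_cases hc₂ : T = oTwo M₂
    · exact key hM₁ hM₂ h₁ h₂ hc₁ hc₂
    · exact two_blks S hns hM₁ hM₂ h₁ h₂ hc₁ hc₂

/-- Two maximal 2-locals with a common nontrivial 2-subgroup are equal. -/
theorem eq_of_common (S : Setting G) (hns : ¬ SmallCase G) {M₁ M₂ D : Subgroup G}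
    (hM₁ : Cfsg.IsMaximalTwoLocal M₁) (hM₂ : Cfsg.IsMaximalTwoLocal M₂) (hD : IsPGroup 2 D)
    (hne : D ≠ ⊥) (h₁ : D ≤ M₁) (h₂ : D ≤ M₂) : M₁ = M₂ := by
  by_contra hne12
  obtain ⟨E, hDE, ⟨hE, N₁, N₂, hN₁, hN₂, hNne, hE₁, hE₂⟩, hmax⟩ :=
    Finite.exists_le_maximal (p := fun E : Subgroup G => IsPGroup 2 E ∧ ∃ N₁ N₂ : Subgroup G,
      Cfsg.IsMaximalTwoLocal N₁ ∧ Cfsg.IsMaximalTwoLocal N₂ ∧ N₁ ≠ N₂ ∧ E ≤ N₁ ∧ E ≤ N₂)
      ⟨hD, M₁, M₂, hM₁, hM₂, hne12, h₁, h₂⟩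
  have hEne : E ≠ ⊥ := fun e => hne (le_bot_iff.1 (e ▸ hDE))
  obtain ⟨N₃, hle, hN₃⟩ := exists_maximal hE hEne
  have key : ∀ {N : Subgroup G}, Cfsg.IsMaximalTwoLocal N → E ≤ N →
      (∀ R, SylIn N R → E ≤ R → E ≠ R) → N₃ = N := by
    intro N hN hEN hne'
    by_contra h3
    obtain ⟨R, hER, hR⟩ := exists_sylIn hEN hE
    obtain ⟨y, hyR, hy, hyE⟩ := exists_normalizing hR.2.1 (lt_of_le_of_ne hER (hne' R hR hER))
    have hy2 : IsPGroup 2 (zpowers y) := hR.2.1.to_le (zpowers_le.2 hyR)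
    have := hmax (y := E ⊔ zpowers y) ⟨hE.to_sup_of_normal_left' hy2 (zpowers_le.2 hy), N₃, N, hN₃,
      hN, h3, sup_le (Subgroup.le_normalizer.trans hle) (zpowers_le.2 (hle hy)),
      sup_le hEN (zpowers_le.2 (hR.1 hyR))⟩ le_sup_left
    exact hyE (this ((le_sup_right : zpowers y ≤ E ⊔ zpowers y) (mem_zpowers y)))
  have hfull : ∀ {N N' : Subgroup G}, Cfsg.IsMaximalTwoLocal N → Cfsg.IsMaximalTwoLocal N' →
      E ≤ N' → N ≠ N' → ∀ R, SylIn N R → E ≤ R → E ≠ R := by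
    intro N N' hN hN' hEN' hnn R hR _ heq
    obtain ⟨R', hER', hR'⟩ := exists_sylIn hEN' hE
    have := full S hns hN hR hR'.2.1 (heq ▸ hER')
    exact hnn (unique S hns hN hN' hR (this ▸ hR'))
  exact hNne ((key hN₁ hE₁ (hfull hN₁ hN₂ hE₂ hNne)).symm.trans
    (key hN₂ hE₂ (hfull hN₂ hN₁ hE₁ hNne.symm)))

theorem isPGroup_zpowers_of_two {t : G} (ht : orderOf t = 2) : IsPGroup 2 (zpowers t) :=
  IsPGroup.of_card (n := 1) (by rw [Nat.card_zpowers, ht, pow_one])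

theorem zpowers_ne_bot_of_two {t : G} (ht : orderOf t = 2) : zpowers t ≠ ⊥ := by
  rw [Ne, zpowers_eq_bot]
  intro e; rw [e, orderOf_one] at ht; omega

theorem orderOf_two_of_sq {t : G} (h1 : t * t = 1) (h2 : t ≠ 1) : orderOf t = 2 :=
  orderOf_eq_prime (by rw [pow_two, h1]) h2

theorem isStronglyEmbedded (S : Setting G) (hns : ¬ SmallCase G) {M : Subgroup G}
    (hM : Cfsg.IsMaximalTwoLocal M) : Cfsg.IsStronglyEmbedded M := by
  haveI : Fact (Nat.Prime 2) := ⟨Nat.prime_two⟩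
  refine ⟨?_, ?_, fun g hg => ?_⟩
  · obtain ⟨U, hU, hne, rfl⟩ := hM.1
    exact S.not_normal hU hne
  · obtain ⟨n, hn⟩ := (isPGroup_oTwo M).exists_card_eq
    rw [even_iff_two_dvd]
    refine dvd_trans ?_ (Subgroup.card_dvd_of_le (oTwo_le M))
    rw [hn]
    exact dvd_pow_self 2 fun e => oTwo_ne_bot hM (Subgroup.card_eq_one.1 (by rw [hn, e, pow_zero]))
  · by_contra hodd
    rw [Nat.not_odd_iff_even, even_iff_two_dvd] at hodd
    obtain ⟨⟨t, ht⟩, hto⟩ := exists_prime_orderOf_dvd_card' 2 hodd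
    rw [Subgroup.orderOf_mk] at hto
    obtain ⟨ht1, ht2⟩ := ht
    exact hg (mem_of_cj_eq hM (eq_of_common S hns (cj_isMaximal hM) hM
      (isPGroup_zpowers_of_two hto) (zpowers_ne_bot_of_two hto) (zpowers_le.2 ht2)
      (zpowers_le.2 ht1)))

theorem exists_involution {R : Subgroup G} (hR : IsPGroup 2 R) (hne : R ≠ ⊥) :
    ∃ z ∈ R, orderOf z = 2 := by
  obtain ⟨v, hv, hv1⟩ := (omegaZ R).bot_or_exists_ne_one.resolve_left (omegaZ_ne_bot hR hne)
  exact ⟨v, hv.1, orderOf_two_of_sq hv.2.1 hv1⟩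

theorem orderOf_conj_eq' (g z : G) : orderOf (g * z * g⁻¹) = orderOf z :=
  orderOf_injective (MulAut.conj g).toMonoidHom (MulAut.conj g).injective z

theorem exists_outside (S : Setting G) (hns : ¬ SmallCase G) {M : Subgroup G}
    (hM : Cfsg.IsMaximalTwoLocal M) : ∃ u : G, orderOf u = 2 ∧ u ∉ M := by
  have hse := isStronglyEmbedded S hns hM
  obtain ⟨z, hz, hzo⟩ := exists_involution (isPGroup_oTwo M) (oTwo_ne_bot hM)
  obtain ⟨g, hg⟩ : ∃ g, g ∉ M := by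
    by_contra! h
    exact hse.1 (eq_top_iff.2 fun g _ => h g)
  refine ⟨g * z * g⁻¹, by rw [orderOf_conj_eq']; exact hzo, fun hmem => hg ?_⟩
  exact mem_of_cj_eq hM (eq_of_common S hns (cj_isMaximal hM) hM
    (isPGroup_zpowers_of_two (t := g * z * g⁻¹) (by rw [orderOf_conj_eq']; exact hzo))
    (zpowers_ne_bot_of_two (by rw [orderOf_conj_eq']; exact hzo))
    (zpowers_le.2 (mem_cj.2 (by simpa [mul_assoc] using oTwo_le M hz))) (zpowers_le.2 hmem))

/-- The Sylow 2-subgroup of a maximal 2-local is normal in it. -/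
theorem closed (S : Setting G) (hns : ¬ SmallCase G) {M R : Subgroup G}
    (hM : Cfsg.IsMaximalTwoLocal M) (hR : SylIn M R) : R = oTwo M := by
  by_contra hc
  obtain ⟨p, x, hx, B⟩ := exists_blk S hM hR hc
  obtain ⟨s, hs, hsQ⟩ := SetLike.not_le_iff_exists.1
    fun hle : R ≤ oTwo M => hc (le_antisymm hle (oTwo_le_sylIn hR))
  -- an element of `R \ O₂(M)` whose square is in `O₂(M)`
  obtain ⟨k, hk⟩ := mem_pGroup_pow hR.2.1 hs
  classical
  have hex : ∃ k, s ^ 2 ^ k ∈ oTwo M := ⟨k, hk ▸ one_mem _⟩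
  obtain ⟨j, hj⟩ : ∃ j, Nat.find hex = j + 1 := by
    rcases hj : Nat.find hex with _ | j
    · have := Nat.find_spec hex
      rw [hj, pow_zero, pow_one] at this
      exact absurd this hsQ
    · exact ⟨j, rfl⟩
  have hj1 := Nat.find_spec hex
  have hj0 : s ^ 2 ^ j ∉ oTwo M := Nat.find_min hex (by omega)
  rw [hj, pow_succ, pow_mul, pow_two] at hj1
  have hsj : s ^ 2 ^ j ∈ R := pow_mem hs _
  obtain ⟨q, hq, hqT, hinv⟩ := B.invert S.hyp hsj hj0 hj1
  set w := q * s ^ 2 ^ j with hw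
  have hwQ : w ∉ oTwo M := fun h => hj0 (by
    have := mul_mem (inv_mem hq) h
    rwa [hw, inv_mul_cancel_left] at this)
  have hw2 : w * w = 1 := by
    refine B.eq_one_of_centralizes S.hyp (R.mul_mem hqT hqT) ?_
    calc w * w * x * (w * w)⁻¹ = w * (w * x * w⁻¹) * w⁻¹ := by group
      _ = w * x⁻¹ * w⁻¹ := by rw [hinv]
      _ = (w * x * w⁻¹)⁻¹ := by group
      _ = x := by rw [hinv, inv_inv]
  obtain ⟨z, hz, hzo⟩ := exists_involution (isPGroup_oTwo M) (oTwo_ne_bot hM)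
  obtain ⟨u, hu, huM⟩ := exists_outside S hns hM
  obtain ⟨⟨d, hd, hdz⟩, -⟩ := Cfsg.Agent.S1225.result M (isStronglyEmbedded S hns hM) u hu huM z w
    hzo (oTwo_le M hz) (orderOf_two_of_sq hw2 fun e => hwQ (e ▸ one_mem _)) (hR.1 hqT)
  exact hwQ (hdz ▸ conj_mem_of_normalizer (le_normalizer_oTwo M hd.1) hz)

end CfsgLib.EPPO21
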