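import Cfsg.Agent.Lib.EPPO21.Block

/-!
# Groups of odd order acting without fixed points on a commutative 2-group

Norm arguments: such a group has no elementary abelian subgroup of order `p ^ 2` and no Frobenius
subgroup of order `p * r`.
-/

set_option autoImplicit false
set_option linter.style.haveILetI false

namespace CfsgLib.EPPO21

open Subgroup Finset

variable {N M : Type*} [Group N] [CommGroup M] [MulDistribMulAction N M]

theorem prod_pow_smul_eq_one {g : N} (n : ℕ) (hg : g ^ n = 1) (hfix : ∀ v : M, g • v = v → v = 1)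
    (v : M) : ∏ i ∈ range n, g ^ i • v = 1 := by
  apply hfix
  rw [Finset.smul_prod']
  calc ∏ i ∈ range n, g • g ^ i • v = ∏ i ∈ range n, g ^ (i + 1) • v := by
        refine prod_congr rfl fun i _ => ?_
        rw [← mul_smul, ← pow_succ']
    _ = ∏ i ∈ range n, g ^ i • v := by
        have h1 := prod_range_succ' (fun i => g ^ i • v) n
        have h2 := prod_range_succ (fun i => g ^ i • v) n
        rw [h2] at h1
        simp only [hg, pow_zero, one_smul] at h1
        exact (mul_right_cancel h1).symm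

theorem prod_range_mul_mod {p i : ℕ} (hp : p.Prime) (hi : i % p ≠ 0) (f : ℕ → M) :
    ∏ j ∈ range p, f (i * j % p) = ∏ j ∈ range p, f j := by
  have hinj : Set.InjOn (fun j => i * j % p) (range p : Set ℕ) := by
    intro a ha b hb hab
    have h : i * a ≡ i * b [MOD p] := hab
    have hco : Nat.gcd p i = 1 := hp.coprime_iff_not_dvd.2 fun hd => hi (Nat.mod_eq_zero_of_dvd hd)
    exact Nat.ModEq.eq_of_lt_of_lt (Nat.ModEq.cancel_left_of_coprime hco h)
      (mem_range.1 (Finset.mem_coe.1 ha)) (mem_range.1 (Finset.mem_coe.1 hb))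
  have himg : (range p).image (fun j => i * j % p) = range p := by
    refine eq_of_subset_of_card_le ?_ (card_image_of_injOn hinj).ge
    intro y hy
    obtain ⟨j, -, rfl⟩ := mem_image.1 hy
    exact mem_range.2 (Nat.mod_lt _ hp.pos)
  conv_rhs => rw [← himg, prod_image hinj]

/-- No elementary abelian group of order `p ^ 2` acts without fixed points. -/
theorem pow_eq_one_of_commuting {p : ℕ} (hp : p.Prime) {a b : N} (hab : Commute a b)
    (ha : a ^ p = 1) (hb : b ^ p = 1) (hfb : ∀ v : M, b • v = v → v = 1)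
    (hf : ∀ j, ∀ v : M, (a * b ^ j) • v = v → v = 1) (v : M) : v ^ p = 1 := by
  have hU : ∏ j ∈ range p, ∏ i ∈ range p, (a * b ^ j) ^ i • v = 1 :=
    prod_eq_one fun j _ => prod_pow_smul_eq_one p (by
      rw [(hab.pow_right j).mul_pow, ha, one_mul, ← pow_mul, mul_comm, pow_mul, hb, one_pow])
      (hf j) v
  rw [prod_comm] at hU
  have hterm : ∀ i ∈ range p, i ≠ 0 → ∏ j ∈ range p, (a * b ^ j) ^ i • v = 1 := by
    intro i hi hi0
    have h1 : ∀ j, (a * b ^ j) ^ i • v = a ^ i • b ^ (i * j % p) • v := by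
      intro j
      rw [(hab.pow_right j).mul_pow, mul_smul, ← pow_mul, mul_comm j i,
        pow_eq_pow_mod (i * j) hb]
    rw [prod_congr rfl fun j _ => h1 j, ← Finset.smul_prod',
      prod_range_mul_mod hp (by rw [Nat.mod_eq_of_lt (mem_range.1 hi)]; exact hi0)
        (fun j => b ^ j • v), prod_pow_smul_eq_one p hb hfb v, smul_one]
  rw [Finset.prod_eq_single 0 hterm (fun h => absurd (mem_range.2 hp.pos) h)] at hU
  simpa using hU

/-- No Frobenius group of order `p * r` acts without fixed points. -/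
theorem pow_eq_one_of_frobenius {p r : ℕ} (hp : p.Prime) (hr : 0 < r) {a b : N} (ha : a ^ p = 1)
    (hb : b ^ r = 1) {l : ℕ} (hab : b * a * b⁻¹ = a ^ l)
    (hl : ∀ i, 0 < i → i < r → ¬ (l : ℤ) ^ i ≡ 1 [ZMOD p])
    (hfa : ∀ v : M, a • v = v → v = 1)
    (hf : ∀ k : ℕ, ∀ v : M, (a ^ k * b * (a ^ k)⁻¹) • v = v → v = 1) (v : M) : v ^ p = 1 := by
  have hconj : ∀ i : ℕ, b ^ i * a * (b ^ i)⁻¹ = a ^ l ^ i := by
    intro i
    induction i with
    | zero => simp
    | succ n ih =>
      rw [show b ^ (n + 1) * a * (b ^ (n + 1))⁻¹ = b * (b ^ n * a * (b ^ n)⁻¹) * b⁻¹ by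
        rw [pow_succ']; group, ih, ← conj_pow, hab, ← pow_mul, pow_succ']
  have hU : ∏ k ∈ range p, ∏ i ∈ range r, (a ^ k * b * (a ^ k)⁻¹) ^ i • v = 1 :=
    prod_eq_one fun k _ => prod_pow_smul_eq_one r (by rw [conj_pow, hb]; group) (hf k) v
  rw [prod_comm] at hU
  have hterm : ∀ i ∈ range r, i ≠ 0 → ∏ k ∈ range p, (a ^ k * b * (a ^ k)⁻¹) ^ i • v = 1 := by
    intro i hi hi0
    set m := ((1 - (l : ℤ) ^ i) % p).toNat with hm
    have hp0 : (p : ℤ) ≠ 0 := Int.natCast_ne_zero.2 hp.ne_zero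
    have hmne : m % p ≠ 0 := by
      intro h0
      refine hl i (Nat.pos_of_ne_zero hi0) (mem_range.1 hi) ?_
      have h1 : (1 - (l : ℤ) ^ i) % p = 0 := by
        have hnn := Int.emod_nonneg (1 - (l : ℤ) ^ i) hp0
        have hlt := Int.emod_lt_of_pos (1 - (l : ℤ) ^ i) (Int.natCast_pos.2 hp.pos)
        rw [Nat.mod_eq_of_lt (by omega)] at h0
        omega
      exact Int.modEq_iff_dvd.2 (Int.dvd_of_emod_eq_zero h1)
    have h1 : ∀ k, (a ^ k * b * (a ^ k)⁻¹) ^ i • v = a ^ (m * k % p) • b ^ i • v := by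
      intro k
      rw [← mul_smul, conj_pow]
      congr 1
      have hA : (a ^ k) * b ^ i * (a ^ k)⁻¹ = a ^ k * (a ^ l ^ i) ^ (-(k : ℤ)) * b ^ i := by
        rw [← hconj i, conj_zpow, zpow_neg, zpow_natCast]; group
      rw [hA, ← zpow_natCast a (l ^ i), ← zpow_mul, ← zpow_natCast a k, ← zpow_add,
        ← zpow_natCast a (m * k % p)]
      congr 1
      rw [zpow_eq_zpow_iff_modEq]
      refine Int.ModEq.of_dvd (Int.natCast_dvd_natCast.2 (orderOf_dvd_of_pow_eq_one ha)) ?_
      have hm' : (m : ℤ) = (1 - (l : ℤ) ^ i) % p := Int.toNat_of_nonneg (Int.emod_nonneg _ hp0)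
      push_cast
      rw [hm']
      refine Int.ModEq.trans ?_ (Int.mod_modEq _ _).symm
      refine Int.ModEq.trans ?_ ((Int.mod_modEq _ _).mul_right _).symm
      exact Int.modEq_iff_dvd.2 ⟨0, by ring⟩
    rw [prod_congr rfl fun k _ => h1 k, prod_range_mul_mod hp hmne (fun k => a ^ k • b ^ i • v),
      prod_pow_smul_eq_one p ha hfa]
  rw [Finset.prod_eq_single 0 hterm (fun h => absurd (mem_range.2 hr) h)] at hU
  simpa using hU

end CfsgLib.EPPO21
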