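import Cfsg.Agent.Lib.EPPO21.Embedded
import Cfsg.Agent.Lib.EPPO21.Torus
import Cfsg.Agent.Lib.TwoGroups.SemidihedralCases
import Cfsg.Agent.Lib.PCore.Basic
import Cfsg.Agent.S3224
import Cfsg.Agent.S0508

/-!
# The small case

A block over a group of order 8 forces a self-centralising four group, so the Sylow 2-subgroups are
dihedral or quasi-dihedral; the first gives `PSL(2,7)`, the second is impossible.
-/

set_option autoImplicit false
set_option linter.style.haveILetI false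

namespace CfsgLib.EPPO21

open Subgroup

variable {G : Type*} [Group G] [Finite G]

theorem Setting.index_ne_two (S : Setting G) {K : Subgroup G} (hK : K.Normal) : K.index ≠ 2 := by
  haveI := S.simple
  intro h2
  rcases hK.eq_bot_or_eq_top with e | e
  · rw [e, Subgroup.index_bot] at h2
    have h3 := S.three
    rw [h2, Nat.prime_two.primeFactors, Finset.card_singleton] at h3
    omega
  · rw [e, Subgroup.index_top] at h2
    omega

open CfsgLib.TwoGroups in
theorem Setting.not_quasiDihedral (S : Setting G) (T : Sylow 2 G) :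
    ¬ Cfsg.IsQuasiDihedral (T : Subgroup G) := by
  intro hT
  obtain ⟨r, x, y, h⟩ := SD.exists_sd hT
  have hI : IsConj ((x ^ (2 * r : ℤ) : (T : Subgroup G)) : G)
      ((x ^ (1 : ℤ) * y : (T : Subgroup G)) : G) := by
    by_contra hn
    obtain ⟨K, hK, hK2, -⟩ := SDF.exists_dih_normal h hn
    exact S.index_ne_two hK hK2
  obtain ⟨e⟩ := SDF.nonempty_q8 h (a := 1) odd_one
  set Q : Subgroup G :=
    (closure {x ^ (2 * r : ℤ), x ^ (1 : ℤ) * y}).map (T : Subgroup G).subtype
  have eQ : Q ≃* QuaternionGroup 2 :=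
    ((closure {x ^ (2 * r : ℤ), x ^ (1 : ℤ) * y}).equivMapOfInjective _
      (T : Subgroup G).subtype_injective).symm.trans e
  have hwQ : ((x ^ (1 : ℤ) * y : (T : Subgroup G)) : G) ∈ Q :=
    ⟨_, subset_closure (Or.inr rfl), rfl⟩
  rcases SDF.q8_index h (Subgroup.map_subtype_le _) eQ odd_one hwQ with ⟨-, hn⟩ | ⟨-, -, g, hg, h1, -⟩
  · exact hn hI
  set u : (T : Subgroup G) := x ^ (2 * r : ℤ) with hu
  set w : (T : Subgroup G) := x ^ (1 : ℤ) * y with hw
  set j : (T : Subgroup G) := x ^ (4 * r : ℤ) with hj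
  have hu2 : u * u = j := by rw [hu, hj, ← zpow_add]; ring_nf
  have hw2 : w * w = j := by rw [hw, hj, ← pow_two, SD.xy_sq h, mul_one]
  have hwi : (w : G)⁻¹ * (w : G)⁻¹ = (j : G) := by
    rw [← mul_inv_rev, ← Subgroup.coe_mul, hw2, hj, ← InvMemClass.coe_inv, ← zpow_neg]
    exact congrArg Subtype.val ((SD.zpow_x_eq h).2 ⟨1, by ring⟩)
  have hc : g * (j : G) * g⁻¹ = j := by
    have e1 : g * (j : G) * g⁻¹ = (g * (u : G) * g⁻¹) * (g * (u : G) * g⁻¹) := by
      rw [← hu2, Subgroup.coe_mul]; group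
    rw [e1]
    rcases h1 with e | e <;> rw [e]
    · rw [← Subgroup.coe_mul, hw2]
    · exact hwi
  have hjo : orderOf (j : G) = 2 := by
    rw [Subgroup.orderOf_coe, hj]
    exact (SD.orderOf_zpow_eq_two h).2 rfl
  have hg1 : g = 1 := (S.hyp.odd_of_commute (show Commute g (j : G) from mul_inv_eq_iff_eq_mul.1 hc)
    hg (k := 1) (by have h2 := pow_orderOf_eq_one (j : G); rw [hjo] at h2; rw [pow_one]; exact h2)).resolve_right fun e => by
      rw [e, orderOf_one] at hjo; omega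
  subst hg1
  simp only [one_mul, inv_one, mul_one] at h1
  rcases h1 with e1 | e1
  · exact SD.not_mem_y h 1 (2 * r) (Subtype.ext e1.symm)
  · refine SD.not_mem_y h 1 (-(2 * r)) (Subtype.ext ?_)
    rw [zpow_neg, InvMemClass.coe_inv, ← hu, e1, inv_inv]

/-- A small case has a self-centralising four group. -/
theorem SmallCase.exists_cent (S : Setting G) (h : SmallCase G) :
    ∃ (T : Sylow 2 G) (w : (T : Subgroup G)), orderOf w = 2 ∧
      Nat.card (centralizer ({w} : Set (T : Subgroup G))) = 4 ∧ 8 ≤ Nat.card (T : Subgroup G) := by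
  classical
  haveI : Fact (Nat.Prime 2) := ⟨Nat.prime_two⟩
  obtain ⟨M, R, x, hM, hR, -, B, hne, h8⟩ := h
  set Q := oTwo M with hQ
  have hQ4 : Nat.card Q = 4 := by
    have := card_eq_two_mul S.hyp B hne
    omega
  have hΩ : omegaZ Q = Q :=
    Subgroup.eq_of_le_of_card_ge (omegaZ_le Q) (by rw [hQ4]; exact B.four_le_omegaZ S.hyp)
  have helem : ∀ q ∈ Q, q * q = 1 ∧ ∀ r ∈ Q, q * r = r * q := by
    intro q hq
    rw [← hΩ] at hq
    exact ⟨hq.2.1, hq.2.2⟩
  obtain ⟨T, hT⟩ := hR.2.1.exists_le_sylow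
  have hMT : M ⊓ (T : Subgroup G) = R :=
    hR.2.2 _ inf_le_left (T.2.to_le inf_le_right) (le_inf hR.1 hT)
  obtain ⟨s, hsR, hsQ⟩ := SetLike.exists_of_lt (lt_of_le_of_ne B.hQT (Ne.symm hne))
  obtain ⟨w, hwQ, hw⟩ : ∃ w ∈ Q, ¬ Commute s w := by
    by_contra! hall
    have := B.card_sq_le S.hyp hsR hsQ (le_refl Q) (le_refl Q) B.hxQ hall
    rw [hQ4] at this
    omega
  have hwT : w ∈ (T : Subgroup G) := hT (B.hQT hwQ)
  have hwo : orderOf w = 2 :=
    orderOf_two_of_sq (helem w hwQ).1 fun e => hw (e ▸ Commute.one_right s)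
  refine ⟨T, ⟨w, hwT⟩, by rw [← Subgroup.orderOf_coe]; exact hwo, ?_,
    h8 ▸ Nat.le_of_dvd Nat.card_pos (Subgroup.card_dvd_of_le hT)⟩
  -- the centraliser of `w` in `T` is `Q`
  have hC : centralizer ({w} : Set G) ⊓ (T : Subgroup G) = Q := by
    set C := centralizer ({w} : Set G) ⊓ (T : Subgroup G) with hCdef
    have hQC : Q ≤ C := le_inf (fun q hq => mem_centralizer_singleton_iff.2 ((helem q hq).2 w hwQ))
      (B.hQT.trans hT)
    refine (eq_of_le_of_not_lt hQC fun hlt => ?_).symm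
    obtain ⟨y, hy, hyn, hyQ⟩ := exists_normalizing (T.2.to_le (inf_le_right : C ≤ _)) hlt
    obtain ⟨hyw, hyT⟩ := hy
    have hyM : y ∈ M := normalizer_oTwo hM ▸ hyn
    have hyR : y ∈ R := hMT ▸ ⟨hyM, hyT⟩
    have hys := B.mul_mem_of_sq S.hyp hyR hyQ (B.sq_mem S.hyp (by norm_num) hyR) hsR hsQ
      (B.sq_mem S.hyp (by norm_num) hsR)
    refine hw ?_
    have h1 : Commute (y * s⁻¹) w := (helem _ hys).2 w hwQ
    have h2 : Commute y w := mem_centralizer_singleton_iff.1 hyw
    rw [show s = (y * s⁻¹)⁻¹ * y by group]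
    exact h1.inv_left.mul_left h2
  rw [show centralizer ({(⟨w, hwT⟩ : (T : Subgroup G))} : Set (T : Subgroup G)) =
      Q.subgroupOf (T : Subgroup G) from ?_,
    Nat.card_congr (Subgroup.subgroupOfEquivOfLe (B.hQT.trans hT)).toEquiv, hQ4]
  ext ⟨z, hz⟩
  rw [mem_subgroupOf, ← hC, mem_inf, mem_centralizer_singleton_iff, mem_centralizer_singleton_iff]
  exact ⟨fun e => ⟨congrArg Subtype.val e, hz⟩, fun e => Subtype.ext e.1⟩

theorem SmallCase.exists_psl (S : Setting G) (h : SmallCase G) :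
    ∃ (F : Type) (_ : Field F) (_ : Fintype F), Odd (Fintype.card F) ∧
      Nonempty (G ≃* Matrix.ProjectiveSpecialLinearGroup (Fin 2) F) := by
  classical
  haveI : Fact (Nat.Prime 2) := ⟨Nat.prime_two⟩
  haveI := S.simple
  obtain ⟨T, w, hwo, hC, h8⟩ := SmallCase.exists_cent S h
  rcases Cfsg.Agent.S3224.result T.2 w hwo hC with ⟨n, hn⟩ | hq | h4
  · have hcard : Nat.card (T : Subgroup G) = 2 * n := by
      rw [Nat.card_congr hn.some.toEquiv, DihedralGroup.nat_card]
    obtain ⟨z, -, hzc, hzo⟩ := PGroupBasic.exists_central_orderOf_eq T.2 (⊤ : Subgroup (T : Subgroup G))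
      (by rw [Ne, ← Subgroup.card_eq_one, Subgroup.card_top]; omega)
    have ht : orderOf (z : G) = 2 := by rw [Subgroup.orderOf_coe, hzo]
    have hO : Cfsg.oddCore (centralizer ({(z : G)} : Set G)) = ⊥ :=
      PCore.pPrimeCore_eq_bot_of_isPGroup (S.hyp.isPGroup_centralizer ht)
    exact Cfsg.Agent.S0508.result T n (by omega) hn (z : G) ht z.2
      (fun s hs => congrArg Subtype.val (Subgroup.mem_center_iff.1 hzc ⟨s, hs⟩)) ⊥
      (by rw [hO, Subgroup.map_bot]) (fun hne => absurd rfl hne)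
      (fun s _ hs => absurd (mem_centralizer_iff.2 fun y hy => by
        rw [Subgroup.mem_bot.1 hy, one_mul, mul_one]) hs)
      (fun Y hY hYne => absurd (le_bot_iff.1 hY) hYne)
  · exact absurd hq (S.not_quasiDihedral T)
  · omega

theorem SmallCase.nonempty_psl (S : Setting G) (h : SmallCase G) (h5 : ¬ 5 ∣ Nat.card G)
    {F : Type*} [Field F] [Fintype F] (hF : Fintype.card F = 7) :
    Nonempty (G ≃* Matrix.ProjectiveSpecialLinearGroup (Fin 2) F) := by
  obtain ⟨F₀, iF, iFt, hodd, ⟨e⟩⟩ := SmallCase.exists_psl S h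
  exact nonempty_psl_seven (card_eq_seven_of_psl S.hyp S.three h5 hodd e) hF e

end CfsgLib.EPPO21
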